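import Cfsg.Prelude.Def_OddOrderLocal
import Cfsg.Agent.H41.Nilpotent
import Cfsg.Agent.Coprime.Action

/-!
# Basic facts about type-P data (Peterfalvi, section 9, hypothesis 9.2)

`M` with data `(W₁, U, W₂)`: factorisation `M = H U W₁` with `H = M_F`, orders, fixed points, and the
fact that the data are unique up to conjugation in `M`.
-/

set_option autoImplicit false

namespace Cfsg.Agent.OddOrder.TypeP

open Subgroup

variable {G : Type*} [Group G] [Finite G] {M W₁ U W₂ : Subgroup G}
variable (hP : Cfsg.IsTypePWith M W₁ U W₂)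

omit [Finite G] in
theorem derived_le (M : Subgroup G) : ⁅M, M⁆ ≤ M := Subgroup.commutator_le_self M

omit [Finite G] in
theorem le_normalizer_derived (M : Subgroup G) : M ≤ normalizer ((⁅M, M⁆ : Subgroup G) : Set G) :=
  le_normalizer_iff_commutator_le_right.2 (commutator_mono le_rfl (derived_le M))

omit [Finite G] in
theorem core_le (M : Subgroup G) : Cfsg.fittingHallOf M ≤ M := map_subtype_le _

omit [Finite G] in
theorem le_normalizer_core (M : Subgroup G) : M ≤ normalizer (Cfsg.fittingHallOf M : Set G) := by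
  have h : ((Cfsg.fittingHallOf M).subgroupOf M).Normal := by
    rw [Cfsg.fittingHallOf, Subgroup.subgroupOf, Subgroup.comap_map_eq_self_of_injective M.subtype_injective]
    exact Cfsg.fittingHall_normal M
  exact (normal_subgroupOf_iff_le_normalizer (core_le M)).1 h

theorem core_nilpotent (M : Subgroup G) : Group.IsNilpotent (Cfsg.fittingHallOf M) := by
  have := (H41.fittingHall_spec M).2.1
  exact Group.nilpotent_of_mulEquiv
    ((Cfsg.fittingHall M).equivMapOfInjective M.subtype M.subtype_injective)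

theorem core_solvable (M : Subgroup G) : Group.IsSolvable (Cfsg.fittingHallOf M) := by
  have := core_nilpotent M
  infer_instance

omit [Finite G] in
theorem conj_le_normalizer {A B : Subgroup G} (h : A ≤ normalizer (B : Set G)) (n : G) :
    A.map (MulAut.conj n).toMonoidHom ≤
      normalizer ((B.map (MulAut.conj n).toMonoidHom : Subgroup G) : Set G) := by
  rintro _ ⟨a, ha, rfl⟩
  refine Coprime.mem_normalizer_of_map_conj ?_
  show (B.map (MulAut.conj n).toMonoidHom).map (MulAut.conj (n * a * n⁻¹)).toMonoidHom = _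
  rw [Coprime.map_conj_map_conj, inv_mul_cancel_right, ← Coprime.map_conj_map_conj,
    Coprime.map_conj_eq (h ha)]

omit [Finite G] in
theorem centralizer_le_normalizer' {A : Subgroup G} {c : G} (hc : c ∈ centralizer (A : Set G)) :
    c ∈ normalizer (A : Set G) := by
  rw [mem_normalizer_iff]
  intro x
  refine ⟨fun hx => ?_, fun hx => ?_⟩
  · rwa [← mem_centralizer_iff.1 hc x hx, mul_inv_cancel_right]
  · have h := mem_centralizer_iff.1 hc _ hx
    have h' : c * x * c⁻¹ = x := by
      have := congrArg (fun y => c⁻¹ * y) h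
      simp [mul_assoc] at this
      simp [mul_assoc, ← this]
    rwa [h'] at hx

omit [Finite G] in
theorem centralizer_map_conj (A : Subgroup G) (n : G) :
    (centralizer (A : Set G)).map (MulAut.conj n).toMonoidHom =
      centralizer ((A.map (MulAut.conj n).toMonoidHom : Subgroup G) : Set G) := by
  ext x
  simp only [Coprime.mem_map_conj, mem_centralizer_iff, coe_map, Set.forall_mem_image,
    SetLike.mem_coe, MulEquiv.coe_toMonoidHom, MulAut.conj_apply]
  refine forall_congr' fun a => forall_congr' fun _ => ⟨fun h => ?_, fun h => ?_⟩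
  · calc n * a * n⁻¹ * x = n * (a * (n⁻¹ * x * n)) * n⁻¹ := by group
      _ = x * (n * a * n⁻¹) := by rw [h]; group
  · calc a * (n⁻¹ * x * n) = n⁻¹ * (n * a * n⁻¹ * x) * n := by group
      _ = n⁻¹ * x * n * a := by rw [h]; group

include hP

omit [Finite G] in
theorem W₁_le : W₁ ≤ M := hP.W₁_compl.2.1

omit [Finite G] in
theorem U_le_derived : U ≤ ⁅M, M⁆ := hP.U_compl.2.1

omit [Finite G] in
theorem core_le_derived : Cfsg.fittingHallOf M ≤ ⁅M, M⁆ := hP.U_compl.1

omit [Finite G] in
theorem U_le : U ≤ M := (U_le_derived hP).trans (derived_le M)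

omit [Finite G] in
theorem W₂_le_core : W₂ ≤ Cfsg.fittingHallOf M := hP.W₂_le.trans inf_le_left

omit [Finite G] in
theorem W₂_le : W₂ ≤ M := (W₂_le_core hP).trans (core_le M)

theorem W₁_solvable : Group.IsSolvable W₁ := by
  have := hP.W₁_cyclic
  letI : CommGroup W₁ := IsCyclic.commGroup
  infer_instance

theorem U_solvable : Group.IsSolvable U := by
  have := hP.U_nilpotent
  infer_instance

theorem card_eq : Nat.card M = Nat.card ↥⁅M, M⁆ * Nat.card W₁ :=
  H41.IsComplIn.card_eq hP.W₁_compl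

theorem card_derived :
    Nat.card ↥⁅M, M⁆ = Nat.card (Cfsg.fittingHallOf M) * Nat.card U :=
  H41.IsComplIn.card_eq hP.U_compl

theorem coprime_derived_W₁ : (Nat.card ↥⁅M, M⁆).Coprime (Nat.card W₁) := by
  have h := hP.W₁_hall
  rw [(H41.IsComplIn.relIndex_eq hP.W₁_compl).1] at h
  exact h.symm

theorem coprime_core_W₁ : (Nat.card (Cfsg.fittingHallOf M)).Coprime (Nat.card W₁) :=
  (coprime_derived_W₁ hP).coprime_dvd_left (card_dvd_of_le (core_le_derived hP))

theorem coprime_U_W₁ : (Nat.card U).Coprime (Nat.card W₁) :=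
  (coprime_derived_W₁ hP).coprime_dvd_left (card_dvd_of_le (U_le_derived hP))

theorem index_core : (Cfsg.fittingHall M).index = Nat.card U * Nat.card W₁ := by
  have e := (Cfsg.fittingHall M).card_mul_index
  have hcard : Nat.card (Cfsg.fittingHallOf M) = Nat.card (Cfsg.fittingHall M) :=
    Cores.card_map_eq _ M.subtype_injective
  rw [card_eq hP, card_derived hP, hcard, mul_assoc] at e
  exact Nat.eq_of_mul_eq_mul_left Nat.card_pos e

theorem coprime_core_compl :
    (Nat.card (Cfsg.fittingHallOf M)).Coprime (Nat.card U * Nat.card W₁) := by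
  have h := (H41.fittingHall_spec M).2.2
  rw [index_core hP] at h
  rwa [Cfsg.fittingHallOf, Cores.card_map_eq _ M.subtype_injective]

theorem coprime_core_U : (Nat.card (Cfsg.fittingHallOf M)).Coprime (Nat.card U) :=
  (coprime_core_compl hP).coprime_dvd_right (dvd_mul_right _ _)

omit [Finite G] in
theorem inf_U_W₁ : U ⊓ W₁ = ⊥ :=
  le_bot_iff.1 ((inf_le_inf_right _ (U_le_derived hP)).trans_eq hP.W₁_compl.2.2.1)

theorem card_compl : Nat.card ↥(U ⊔ W₁) = Nat.card U * Nat.card W₁ := by
  refine H41.IsComplIn.card_eq ⟨le_sup_left, le_sup_right, inf_U_W₁ hP, fun m hm => ?_⟩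
  obtain ⟨u, hu, w, hw, rfl⟩ := (Coprime.mem_sup_iff hP.U_normal).1 hm
  exact ⟨u, hu, w, hw, rfl⟩

theorem core_inf_compl : Cfsg.fittingHallOf M ⊓ (U ⊔ W₁) = ⊥ := by
  refine Coprime.inf_eq_bot ?_
  rw [card_compl hP]
  exact coprime_core_compl hP

omit [Finite G] in
theorem core_sup_compl : Cfsg.fittingHallOf M ⊔ (U ⊔ W₁) = M := by
  refine le_antisymm (sup_le (core_le M) (sup_le (U_le hP) (W₁_le hP))) fun m hm => ?_
  obtain ⟨a, ha, w, hw, rfl⟩ := hP.W₁_compl.2.2.2 m hm
  obtain ⟨h, hh, u, hu, rfl⟩ := hP.U_compl.2.2.2 a ha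
  rw [mul_assoc]
  exact mul_mem_sup hh (mul_mem_sup hu hw)

omit [Finite G] in
theorem compl_le : U ⊔ W₁ ≤ M := sup_le (U_le hP) (W₁_le hP)

omit [Finite G] in
/-- Non-identity elements of `W₁` have centraliser `W₂` in `M'`. -/
theorem derived_inf_centralizer {x : G} (hx : x ∈ W₁) (hx1 : x ≠ 1) :
    ⁅M, M⁆ ⊓ centralizer ({x} : Set G) = W₂ := hP.W₂_centralizer x hx hx1

omit [Finite G] in
/-- `W₁` acts on `U` without fixed points. -/
theorem fpf_U {x : G} (hx : x ∈ W₁) (hx1 : x ≠ 1) {u : G} (hu : u ∈ U) (h : x * u = u * x) :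
    u = 1 := by
  have h2 : u ∈ W₂ := by
    rw [← derived_inf_centralizer hP hx hx1]
    exact ⟨U_le_derived hP hu, mem_centralizer_singleton_iff.2 h.symm⟩
  have h3 : u ∈ Cfsg.fittingHallOf M ⊓ U := ⟨W₂_le_core hP h2, hu⟩
  rwa [hP.U_compl.2.2.1, mem_bot] at h3

omit [Finite G] in
theorem W₂_commute {x w : G} (hx : x ∈ W₁) (hw : w ∈ W₂) : x * w = w * x :=
  hP.selfNormalizing.2.2.2.1 x hx w hw

omit [Finite G] in
theorem derived_inf_centralizer_W₁ : ⁅M, M⁆ ⊓ centralizer (W₁ : Set G) = W₂ := by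
  obtain ⟨x, hx, hx1⟩ := (Subgroup.ne_bot_iff_exists_ne_one).1 hP.W₁_ne |> fun ⟨⟨x, hx⟩, h⟩ =>
    (⟨x, hx, fun e => h (Subtype.ext e)⟩ : ∃ x ∈ W₁, x ≠ 1)
  refine le_antisymm ?_ (le_inf ((W₂_le_core hP).trans (core_le_derived hP)) fun w hw => ?_)
  · rw [← derived_inf_centralizer hP hx hx1]
    exact inf_le_inf_left _ (centralizer_le (Set.singleton_subset_iff.2 hx))
  · rw [mem_centralizer_iff]
    exact fun y hy => W₂_commute hP hy hw

omit [Finite G] in
theorem core_inf_centralizer_W₁ : Cfsg.fittingHallOf M ⊓ centralizer (W₁ : Set G) = W₂ := by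
  refine le_antisymm ?_ (le_inf (W₂_le_core hP) ?_)
  · rw [← derived_inf_centralizer_W₁ hP]
    exact inf_le_inf_right _ (core_le_derived hP)
  · rw [← derived_inf_centralizer_W₁ hP]
    exact inf_le_right

/-- Type-P data are unique up to conjugation in `M` (indeed by an element of `M'`). -/
theorem conj_data {W₁' U' W₂' : Subgroup G} (hP' : Cfsg.IsTypePWith M W₁' U' W₂') :
    ∃ m ∈ ⁅M, M⁆, W₁' = W₁.map (MulAut.conj m).toMonoidHom ∧
      U' = U.map (MulAut.conj m).toMonoidHom ∧ W₂' = W₂.map (MulAut.conj m).toMonoidHom := by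
  have hMN := le_normalizer_derived M
  have hsup : ⁅M, M⁆ ⊔ W₁ = M := by
    refine le_antisymm (sup_le (derived_le M) (W₁_le hP)) fun m hm => ?_
    obtain ⟨a, ha, w, hw, rfl⟩ := hP.W₁_compl.2.2.2 m hm
    exact mul_mem_sup ha hw
  have hcard : Nat.card W₁' = Nat.card W₁ :=
    Nat.eq_of_mul_eq_mul_left Nat.card_pos ((card_eq hP').symm.trans (card_eq hP))
  obtain ⟨n, hn, hW⟩ := Coprime.exists_conj_of_le_sup ((W₁_le hP).trans hMN)
    ((W₁_le hP').trans hsup.ge) hcard (coprime_derived_W₁ hP).symm (Or.inl (W₁_solvable hP))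
  set U₁ := U.map (MulAut.conj n).toMonoidHom with hU₁
  have hnM : n ∈ M := derived_le M hn
  have hU₁le : U₁ ≤ ⁅M, M⁆ :=
    (Subgroup.map_mono (U_le_derived hP)).trans_eq (Coprime.map_conj_eq (hMN hnM))
  have hsup' : Cfsg.fittingHallOf M ⊔ U₁ = ⁅M, M⁆ := by
    refine le_antisymm (sup_le (core_le_derived hP) hU₁le) fun m hm => ?_
    obtain ⟨h, hh, u, hu, he⟩ := hP.U_compl.2.2.2 (n⁻¹ * m * n)
      (mul_mem (mul_mem (inv_mem hn) hm) hn)
    have : m = (n * h * n⁻¹) * (n * u * n⁻¹) := by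
      calc m = n * (n⁻¹ * m * n) * n⁻¹ := by group
        _ = _ := by rw [he]; group
    rw [this]
    exact mul_mem_sup (Coprime.conj_mem (le_normalizer_core M hnM) hh) ⟨u, hu, rfl⟩
  have hcardU : Nat.card U' = Nat.card U₁ := by
    rw [hU₁, Coprime.card_map_conj]
    exact Nat.eq_of_mul_eq_mul_left Nat.card_pos ((card_derived hP').symm.trans (card_derived hP))
  have hU₁core : U₁ ≤ normalizer (Cfsg.fittingHallOf M : Set G) :=
    (hU₁le.trans (derived_le M)).trans (le_normalizer_core M)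
  obtain ⟨h, hh, hU⟩ := Coprime.exists_conj_of_le_sup hU₁core
    ((U_le_derived hP').trans hsup'.ge) hcardU
    (by rw [hU₁, Coprime.card_map_conj]; exact (coprime_core_U hP).symm)
    (Or.inr (core_solvable M))
  have hA : W₁' ≤ normalizer (U₁ : Set G) := by
    rw [hW, hU₁]
    exact conj_le_normalizer hP.U_normal n
  obtain ⟨c, hc, hUc⟩ := Coprime.exists_centralizer_conj
    ((W₁_le hP').trans (le_normalizer_core M)) (coprime_core_W₁ hP').symm
    (Or.inl (W₁_solvable hP')) hA hP'.U_normal hh hU.symm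
  have hcM' : c ∈ ⁅M, M⁆ := core_le_derived hP hc.1
  have hW' : W₁' = W₁.map (MulAut.conj (c * n)).toMonoidHom := by
    rw [← Coprime.map_conj_map_conj, ← hW]
    refine (Coprime.map_conj_eq ?_).symm
    exact centralizer_le_normalizer' hc.2
  refine ⟨c * n, mul_mem hcM' hn, hW', ?_, ?_⟩
  · rw [← Coprime.map_conj_map_conj, ← hU₁, hUc]
  · rw [← derived_inf_centralizer_W₁ hP', ← derived_inf_centralizer_W₁ hP, Subgroup.map_inf _ _
      (MulAut.conj (c * n)).toMonoidHom (MulAut.conj (c * n)).injective, Coprime.map_conj_eq (hMN (derived_le M (mul_mem hcM' hn))), hW']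
    congr 1
    exact (centralizer_map_conj _ _).symm

end Cfsg.Agent.OddOrder.TypeP
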