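import Cfsg.Agent.OddOrder.PF1.Clifford
import Cfsg.Agent.OddOrder.PF6.Induced

/-!
# Characters above a linear character of a normal subgroup with abelian quotient
-/

set_option autoImplicit false
set_option linter.unusedSectionVars false
set_option linter.style.haveILetI false

namespace Cfsg.Agent.OddOrder.PF9

open scoped ComplexConjugate
open Cfsg.Agent Cfsg.Agent.CharBasic Cfsg.Agent.CharInduce Finset

universe u

variable {G : Type u} [Group G] [Fintype G] (N : Subgroup G) [N.Normal]

omit [N.Normal] in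
/-- An irreducible character of a group whose commutators lie in its kernel is linear. -/
theorem degree_one_of_commutator_mem {η : G → ℂ} (hη : Cfsg.IsIrrCharacter G η)
    (h : ∀ x y : G, η (x * y * x⁻¹ * y⁻¹) = η 1) : η 1 = 1 := by
  obtain ⟨d, hd0, hd⟩ := CharBasic.IsIrr.exists_degree hη
  have hle := PF6.degree_sq_mul_le hη ⊤ hd fun x _ => PF6.norm_eq_of_commutator_mem hη x (h x)
  rw [Subgroup.card_top] at hle
  have h1 : d ^ 2 ≤ 1 := Nat.le_of_mul_le_mul_right (show d ^ 2 * Nat.card G ≤ 1 * Nat.card G by rw [one_mul]; exact hle) Nat.card_pos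
  have : d = 1 := le_antisymm (by nlinarith) hd0
  rw [hd, this, Nat.cast_one]

/-- A character trivial on the commutators of `N` has a linear constituent on `N`. -/
theorem exists_linear_constituent [Fintype N] {θ : G → ℂ} (hθ : Cfsg.IsIrrCharacter G θ)
    (hker : ∀ x ∈ N, ∀ y ∈ N, θ (x * y * x⁻¹ * y⁻¹) = θ 1) :
    ∃ l : N →* ℂˣ, Cfsg.classInner (fun n : N => θ n) (fun n => (l n : ℂ)) ≠ 0 ∧
      ∀ n : N, θ n = θ 1 → l n = 1 := by
  have hres : Cfsg.IsCharacter N (fun n : N => θ n) :=
    IsChar.res (CharBasic.IsIrr.isCharacter hθ) N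
  obtain ⟨η, hη⟩ := exists_constituent hres
    fun e => CharBasic.IsIrr.one_ne_zero hθ (congrFun e 1)
  have hk : ∀ n : N, θ n = θ 1 → (η : N → ℂ) n = (η : N → ℂ) 1 := fun n hn =>
    PF6.eq_one_of_constituent hres η.2 hη hn
  have h1 : (η : N → ℂ) 1 = 1 := degree_one_of_commutator_mem η.2 fun x y => hk _ (by
    push_cast
    exact hker x x.2 y y.2)
  obtain ⟨l, hl⟩ := IsChar.exists_hom_of_degree_one (CharBasic.IsIrr.isCharacter η.2) h1
  have e : (η : N → ℂ) = fun n => (l n : ℂ) := funext hl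
  exact ⟨l, e ▸ hη, fun n hn => Units.ext (by rw [← hl, hk n hn, h1, Units.val_one])⟩

/-- The inertia group of a linear character. -/
theorem mem_inertia_hom {l : N →* ℂˣ} {g : G} :
    g ∈ inertia N (fun n => (l n : ℂ)) ↔
      ∀ n m : N, (m : G) = g * n * g⁻¹ → l m = l n := by
  rw [mem_inertia, funext_iff]
  constructor
  · intro h n m e
    refine Units.ext ((congrArg (fun x => (l x : ℂ)) (Subtype.ext e)).trans (h n))
  · intro h n
    show (l _ : ℂ) = l n
    rw [h n _ rfl]

/-- Peterfalvi (1.7) for a linear character: the degree of a character above it. -/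
theorem linear_clifford [Fintype N] (hab : ∀ x y : G, x * y * x⁻¹ * y⁻¹ ∈ N) {θ : G → ℂ}
    (hθ : Cfsg.IsIrrCharacter G θ) {l : N →* ℂˣ}
    (hl : Cfsg.classInner (fun n : N => θ n) (fun n => (l n : ℂ)) ≠ 0) :
    ∃ e : ℕ, 0 < e ∧
      θ 1 = (((inertia N (fun n => (l n : ℂ))).index * e : ℕ) : ℂ) ∧
      (inertia N (fun n => (l n : ℂ))).index * e ∣ N.index ∧
      (inertia N (fun n => (l n : ℂ)) = N → e = 1) := by
  classical
  set η : N → ℂ := fun n => (l n : ℂ)
  have hη : Cfsg.IsIrrCharacter N η := isIrrCharacter_hom l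
  set I := inertia N η
  have hNI : N ≤ I := le_inertia N (CharBasic.IsIrr.isClassFunction hη)
  obtain ⟨e, C, he, hC, hcard, hind, hdeg, -⟩ :=
    PF1.clifford_abelian N hη fun x _ y _ => hab x y
  have hne : Cfsg.classInner (indFun N η) θ ≠ 0 := by
    rw [classInner_indFun_left N η θ (CharBasic.IsIrr.isClassFunction hθ), ← conj_classInner]
    simpa using hl
  rw [hind, CharBasic.classInner_smul_left, CharBasic.classInner_sum_left] at hne
  obtain ⟨χ, hχ, hχne⟩ := exists_ne_zero_of_sum_ne_zero (right_ne_zero_of_mul hne)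
  have hθC : θ = χ := by
    by_contra h
    exact hχne (CharBasic.classInner_irr_of_ne (hC χ hχ) hθ (Ne.symm h))
  have hIN : N.relIndex I = e ^ 2 * C.card := by
    refine Nat.eq_of_mul_eq_mul_right (Nat.card_pos (α := N)) ?_
    rw [hcard, mul_comm, ← Subgroup.relIndex_bot_left N, ← Subgroup.relIndex_bot_left I]
    exact Subgroup.relIndex_mul_relIndex ⊥ N I bot_le hNI
  refine ⟨e, he, ?_, ?_, fun h => ?_⟩
  · rw [hθC, hdeg χ hχ, show η 1 = 1 by simp [η], mul_one, Nat.cast_mul]
  · rw [← Subgroup.relIndex_mul_index hNI, hIN, mul_comm]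
    exact mul_dvd_mul_right (dvd_mul_of_dvd_left (dvd_pow_self e two_ne_zero) _) _
  · rw [h, Subgroup.relIndex_self] at hIN
    have : e ∣ 1 := hIN ▸ dvd_mul_of_dvd_left (dvd_pow_self e two_ne_zero) _
    exact Nat.dvd_one.1 this

end Cfsg.Agent.OddOrder.PF9
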