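import Cfsg.Agent.OddOrder.PF9.Fixed

/-!
# Peterfalvi (9.8), first part: the non-Galois case

`N₁ / H₀` is a line of `H / H₀` normalised by `U`, whose `W₁`-conjugates generate, and
`a = |U : C_U(N₁ / H₀)|`.  Then `a` divides every degree and `p - 1`.
-/

set_option autoImplicit false
set_option linter.style.haveILetI false
set_option linter.unusedSectionVars false

namespace Cfsg.Agent.OddOrder.PF9

open scoped ComplexConjugate
open scoped commutatorElement
open Cfsg.Agent Cfsg.Agent.CharBasic Cfsg.Agent.CharInduce Subgroup Finset H43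
open scoped Classical

universe u

variable {L : Type u} [Group L]

theorem relIndex_sup_of_le_normalizer {S T : Subgroup L} (h : T ≤ normalizer (S : Set L)) :
    S.relIndex (S ⊔ T) = S.relIndex T := by
  haveI : (S.subgroupOf (S ⊔ T)).Normal :=
    (normal_subgroupOf_iff_le_normalizer le_sup_left).2 (sup_le le_normalizer h)
  have e : S.subgroupOf (S ⊔ T) ⊔ T.subgroupOf (S ⊔ T) = ⊤ := by
    rw [← subgroupOf_sup le_sup_left le_sup_right, subgroupOf_self]
  rw [← relIndex_subgroupOf (le_refl (S ⊔ T)), subgroupOf_self, ← e, relIndex_sup_left,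
    relIndex_subgroupOf le_sup_right]

/-- Subgroups of prime relative index are maximal. -/
theorem eq_or_eq_of_relIndex_prime {A B S : Subgroup L} {p : ℕ} (hp : p.Prime)
    (hidx : A.relIndex B = p) (h1 : A ≤ S) (h2 : S ≤ B) : S = A ∨ S = B := by
  have e := Subgroup.relIndex_mul_relIndex A S B h1 h2
  rw [hidx] at e
  rcases (Nat.dvd_prime hp).1 (Dvd.intro _ e) with h | h
  · exact Or.inl (le_antisymm (relIndex_eq_one.1 h) h1)
  · rw [h] at e
    have : S.relIndex B = 1 := by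
      simpa [hp.ne_zero] using e
    exact Or.inr (le_antisymm h2 (relIndex_eq_one.1 this))

/-- The data of the non-Galois case. -/
structure Lines (H H₀ U W₁ N₁ : Subgroup L) (p a : ℕ) : Prop where
  le₀ : H₀ ≤ N₁
  le : N₁ ≤ H
  U_norm : U ≤ normalizer (N₁ : Set L)
  index : H₀.relIndex N₁ = p
  gen : H = ⨆ x : W₁, N₁.map (MulAut.conj (x : L)).toMonoidHom
  index_U₁ : (sectionCent N₁ H₀).relIndex U = a

variable [Fintype L] {K H H₀ U W₁ W₂ N₁ : Subgroup L} {p q a : ℕ}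

/-- The conjugate line `N₁ ^ x`. -/
abbrev line (N₁ : Subgroup L) (x : L) : Subgroup L := N₁.map (MulAut.conj x).toMonoidHom

/-- The centraliser in `U` of a conjugate line modulo `H₀`. -/
abbrev lineCent (U H₀ N₁ : Subgroup L) (x : L) : Subgroup L :=
  (U ⊓ sectionCent N₁ H₀).map (MulAut.conj x).toMonoidHom

namespace Setting

variable (s : Setting K H H₀ U W₁ W₂ p q) (hl : Lines H H₀ U W₁ N₁ p a)

include s hl

theorem line_le (x : L) : line N₁ x ≤ H := by
  haveI := s.H_normal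
  exact (Subgroup.map_mono hl.le).trans_eq
    (Coprime.map_conj_eq (by rw [normalizer_eq_top]; exact mem_top x))

theorem le_line (x : L) : H₀ ≤ line N₁ x := by
  haveI := s.H₀_normal
  exact (Coprime.map_conj_eq (show x ∈ normalizer (H₀ : Set L) by
    rw [normalizer_eq_top]; exact mem_top x)).ge.trans (Subgroup.map_mono hl.le₀)

theorem line_index (x : L) : H₀.relIndex (line N₁ x) = p := by
  haveI := s.H₀_normal
  have e : line H₀ x = H₀ := Coprime.map_conj_eq (by rw [normalizer_eq_top]; exact mem_top x)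
  conv_lhs => rw [← e]
  rw [relIndex_map_map_of_injective _ _ (MulAut.conj x).injective, hl.index]

theorem U_normalizes_line {w : L} (hw : w ∈ W₁) : U ≤ normalizer (line N₁ w : Set L) := by
  have h := TypeP.conj_le_normalizer hl.U_norm w
  rwa [Coprime.map_conj_eq (s.norm_U hw)] at h

theorem lineCent_le_U {w : L} (hw : w ∈ W₁) : lineCent U H₀ N₁ w ≤ U :=
  (Subgroup.map_mono inf_le_left).trans_eq (Coprime.map_conj_eq (s.norm_U hw))

theorem mem_lineCent {w : L} (hw : w ∈ W₁) {v : L} (hv : v ∈ U) :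
    v ∈ lineCent U H₀ N₁ w ↔ ∀ n ∈ line N₁ w, v * n * v⁻¹ * n⁻¹ ∈ H₀ := by
  haveI := s.H₀_normal
  have hn : ∀ y : L, y ∈ normalizer (H₀ : Set L) := fun y => by
    rw [normalizer_eq_top]; exact mem_top y
  constructor
  · rintro ⟨c, hc, rfl⟩ _ ⟨n, hn', rfl⟩
    have := Subgroup.Normal.conj_mem ‹H₀.Normal› _ (hc.2.2.2 n hn') w
    convert this using 1
    simp only [MulEquiv.coe_toMonoidHom, MulAut.conj_apply]
    group
  · intro h
    have hwU : w⁻¹ * v * w ∈ U := Coprime.conj_mem' (s.norm_U hw) hv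
    refine ⟨w⁻¹ * v * w, ⟨hwU, (mem_sectionCent (hl.U_norm hwU) (hn _)).2 fun n hn' => ?_⟩, ?_⟩
    · have := Subgroup.Normal.conj_mem ‹H₀.Normal› _ (h _ ⟨n, hn', rfl⟩) w⁻¹
      convert this using 1
      simp only [MulEquiv.coe_toMonoidHom, MulAut.conj_apply]
      group
    · simp only [MulEquiv.coe_toMonoidHom, MulAut.conj_apply]
      group

theorem derived_le_lineCent {w : L} (hw : w ∈ W₁) : ⁅U, U⁆ ≤ lineCent U H₀ N₁ w := by
  haveI := s.H_normal
  haveI := s.H₀_normal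
  intro v hv
  have hvU : v ∈ U := commutator_le_self U hv
  exact (s.mem_lineCent hl hw hvU).2 fun n hn =>
    mem_sectionCent_iff.1 (s.derived hv) n (s.line_le hl w hn)

theorem U_normalizes_lineCent {w : L} (hw : w ∈ W₁) :
    U ≤ normalizer (lineCent U H₀ N₁ w : Set L) := by
  refine le_normalizer_iff_commutator_le_right.2 ?_
  exact (commutator_mono le_rfl (s.lineCent_le_U hl hw)).trans (s.derived_le_lineCent hl hw)

/-- The index of `H C_U(N₁^x / H₀)` in `K` is `a`. -/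
theorem relIndex_K_lineCent {w : L} (hw : w ∈ W₁) :
    (H ⊔ lineCent U H₀ N₁ w).relIndex K = a := by
  haveI := s.H_normal
  set X := H ⊔ lineCent U H₀ N₁ w with hX
  have hn : U ≤ normalizer (X : Set L) := fun v hv => by
    refine Coprime.mem_normalizer_of_map_conj ?_
    rw [hX, Subgroup.map_sup, Coprime.map_conj_eq (by rw [normalizer_eq_top]; exact mem_top v),
      Coprime.map_conj_eq (s.U_normalizes_lineCent hl hw hv)]
  have hXU : X ⊔ U = K := by
    rw [hX, sup_assoc, sup_eq_right.2 (s.lineCent_le_U hl hw), s.sup]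
  have hinf : X ⊓ U = lineCent U H₀ N₁ w := by
    refine le_antisymm ?_ (le_inf le_sup_right (s.lineCent_le_U hl hw))
    rintro g ⟨hg, hgU⟩
    have hg' : g ∈ ((H ⊔ lineCent U H₀ N₁ w : Subgroup L) : Set L) := hg
    rw [Subgroup.normal_mul] at hg'
    obtain ⟨h, hh, c, hc, rfl⟩ := Set.mem_mul.1 hg'
    have : h ∈ H ⊓ U := ⟨hh, by
      have := U.mul_mem hgU (U.inv_mem (s.lineCent_le_U hl hw hc))
      simpa using this⟩
    rw [s.inf, mem_bot] at this
    rwa [this, one_mul]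
  rw [← hXU, relIndex_sup_of_le_normalizer hn, ← inf_relIndex_right, hinf]
  have e : line U w = U := Coprime.map_conj_eq (s.norm_U hw)
  calc (lineCent U H₀ N₁ w).relIndex U = (lineCent U H₀ N₁ w).relIndex (line U w) := by rw [e]
    _ = (U ⊓ sectionCent N₁ H₀).relIndex U :=
      relIndex_map_map_of_injective _ _ (MulAut.conj w).injective
    _ = a := by rw [inf_relIndex_left, hl.index_U₁]

/-- A linear constituent nontrivial on `N₁^w` has inertia group inside `H C_U(N₁^w / H₀)`. -/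
theorem inertia_le_lineCent {l : NK K H H₀ →* ℂˣ}
    (hl0 : ∀ n : NK K H H₀, ((n : K) : L) ∈ H₀ → l n = 1) {w : L} (hw : w ∈ W₁)
    {n₀ : NK K H H₀} (hn₀ : ((n₀ : K) : L) ∈ line N₁ w) (hne : l n₀ ≠ 1) :
    haveI := s.NK_normal
    (inertia (NK K H H₀) (fun n => (l n : ℂ))).map K.subtype ≤ H ⊔ lineCent U H₀ N₁ w := by
  haveI := s.NK_normal
  rintro _ ⟨v, hv, rfl⟩
  obtain ⟨h, hh, u₀, hu₀, e⟩ := s.mem_K v.2
  have hu : (⟨u₀, s.U_le hu₀⟩ : K) ∈ inertia (NK K H H₀) (fun n => (l n : ℂ)) := by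
    have h1 : (⟨h, s.H_le hh⟩ : K) ∈ inertia (NK K H H₀) (fun n => (l n : ℂ)) :=
      le_inertia _ (CharBasic.IsIrr.isClassFunction (isIrrCharacter_hom l)) (s.mem_NK_of_mem_H hh)
    have h2 := mul_mem (inv_mem h1) hv
    convert h2 using 1
    exact Subtype.ext (by simp [e])
  show (v : L) ∈ _
  rw [e]
  refine mul_mem (mem_sup_left hh) (mem_sup_right ((s.mem_lineCent hl hw hu₀).2 fun n hn => ?_))
  let S : Subgroup L := line N₁ w ⊓ (l.ker.map (NK K H H₀).subtype).map K.subtype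
  have hmem : ∀ m : NK K H H₀, ((m : K) : L) ∈ (l.ker.map (NK K H H₀).subtype).map K.subtype →
      l m = 1 := by
    rintro m ⟨_, ⟨m', hm', rfl⟩, e'⟩
    exact (show m' = m from Subtype.ext (Subtype.ext e')) ▸ hm'
  have hnH := s.line_le hl w hn
  let m : NK K H H₀ := ⟨⟨n, s.H_le hnH⟩, s.mem_NK_of_mem_H (a := ⟨n, s.H_le hnH⟩) hnH⟩
  let m' : NK K H H₀ := ⟨⟨u₀, s.U_le hu₀⟩ * m * (⟨u₀, s.U_le hu₀⟩ : K)⁻¹,
    Subgroup.Normal.conj_mem s.NK_normal _ m.2 _⟩
  have hS : u₀ * n * u₀⁻¹ * n⁻¹ ∈ S := by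
    refine ⟨(line N₁ w).mul_mem (Coprime.conj_mem (s.U_normalizes_line hl hw hu₀) hn)
      (inv_mem hn), _, ⟨m' * m⁻¹, ?_, rfl⟩, rfl⟩
    show l (m' * m⁻¹) = 1
    rw [map_mul, (mem_inertia_hom (NK K H H₀)).1 hu m m' rfl, ← map_mul, mul_inv_cancel, map_one]
  rcases eq_or_eq_of_relIndex_prime s.p_prime (s.line_index hl w) (S := S)
    (le_inf (s.le_line hl w) fun x hx => ⟨⟨x, s.H_le (s.le hx)⟩,
      ⟨(⟨_, s.mem_NK_of_mem_H (a := ⟨x, s.H_le (s.le hx)⟩) (s.le hx)⟩ : NK K H H₀),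
        hl0 _ hx, rfl⟩, rfl⟩) inf_le_left with h' | h'
  · rwa [h'] at hS
  · exact absurd (hmem n₀ (h'.ge.trans inf_le_right hn₀)) hne

/-- `a` divides every degree. -/
theorem a_dvd_degree {A : Subgroup L} (hA : A₀ K H H₀ ≤ A) {θ : Cfsg.IrrCharacter K}
    (hθ : θ ∈ thetasS K H A) {d : ℕ} (hd : (θ : K → ℂ) 1 = d) : a ∣ d := by
  haveI := s.NK_normal
  obtain ⟨l, hll, hlA, n₁, hn₁, hne₁⟩ := s.exists_l hA hθ
  have hex : ∃ w ∈ W₁, ∃ n₀ : NK K H H₀, ((n₀ : K) : L) ∈ line N₁ w ∧ l n₀ ≠ 1 := by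
    by_contra hno
    push Not at hno
    have hle : H ≤ (l.ker.map (NK K H H₀).subtype).map K.subtype := by
      refine hl.gen.le.trans (iSup_le fun x g hg => ?_)
      have hgH := s.line_le hl (x : L) hg
      exact ⟨⟨g, s.H_le hgH⟩,
        ⟨(⟨_, s.mem_NK_of_mem_H (a := ⟨g, s.H_le hgH⟩) hgH⟩ : NK K H H₀),
          hno x x.2 _ hg, rfl⟩, rfl⟩
    obtain ⟨_, ⟨m, hm, rfl⟩, e⟩ := hle hn₁
    exact hne₁ ((show m = n₁ from Subtype.ext (Subtype.ext e)) ▸ hm)
  obtain ⟨w, hw, n₀, hn₀, hne⟩ := hex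
  have h := s.dvd_degree_of_inertia_le hll
    (s.inertia_le_lineCent hl (fun n hn => hlA n (hA (mem_sup_left hn))) hw hn₀ hne) hd
  rwa [s.relIndex_K_lineCent hl hw] at h

/-- The action of `U` on the line `N₁ / H₀`. -/
theorem exists_lineHom :
    haveI := s.H₀_normal
    ∃ (B : Subgroup (L ⧸ H₀)) (φ : U →* MulAut B),
      IsCyclic B ∧ Nat.card B = p ∧ φ.ker = (sectionCent N₁ H₀).subgroupOf U := by
  haveI := s.H₀_normal
  let π : L →* L ⧸ H₀ := QuotientGroup.mk' H₀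
  let B : Subgroup (L ⧸ H₀) := N₁.map π
  have hBcard : Nat.card B = p := by
    rw [← hl.index, ← relIndex_bot_left B, ← Subgroup.map_bot π]
    show ((⊥ : Subgroup L).map π).relIndex (N₁.map π) = _
    rw [relIndex_map_map, bot_sup_eq, QuotientGroup.ker_mk', sup_eq_left.2 hl.le₀]
  have hB : ∀ v ∈ U, π v ∈ normalizer (B : Set (L ⧸ H₀)) := fun v hv => by
    refine Subgroup.le_normalizer_map (f := π) ⟨v, hl.U_norm hv, rfl⟩
  let φ : U →* MulAut B := (B.normalizerMonoidHom).comp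
    ((π.comp U.subtype).codRestrict _ fun v => hB v v.2)
  haveI : IsCyclic B := by
    haveI := Fact.mk s.p_prime
    exact isCyclic_of_prime_card hBcard
  refine ⟨B, φ, inferInstance, hBcard, ?_⟩
  ext v
  have hn : (v : L) ∈ normalizer (H₀ : Set L) := by rw [normalizer_eq_top]; exact mem_top _
  rw [mem_subgroupOf, mem_sectionCent (hl.U_norm v.2) hn, MonoidHom.mem_ker]
  constructor
  · intro h n hn'
    have h1 : π v * π n * (π v)⁻¹ = π n :=
      congrArg Subtype.val (DFunLike.congr_fun h (⟨π n, n, hn', rfl⟩ : B))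
    refine (QuotientGroup.eq_one_iff _).1 ?_
    show π (v * n * (v : L)⁻¹ * n⁻¹) = 1
    rw [map_mul, map_mul, map_mul, map_inv, h1, map_inv, mul_inv_cancel]
  · intro h
    ext ⟨b, n, hn', rfl⟩
    show π v * π n * (π v)⁻¹ = π n
    rw [← map_inv, ← map_mul, ← map_mul, ← mul_inv_eq_one, ← map_inv, ← map_mul]
    exact (QuotientGroup.eq_one_iff _).2 (h n hn')

/-- `a` divides `p - 1`. -/
theorem a_dvd_pred : a ∣ p - 1 := by
  obtain ⟨B, φ, hB, hBcard, hker⟩ := s.exists_lineHom hl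
  have h := Subgroup.card_subgroup_dvd_card φ.range
  rw [IsCyclic.card_mulAut, hBcard, Nat.totient_prime s.p_prime,
    ← Nat.card_congr (QuotientGroup.quotientKerEquivRange φ).toEquiv, hker] at h
  rwa [← hl.index_U₁, relIndex, Subgroup.index]

/-- `U / C_U(N₁ / H₀)` is cyclic. -/
theorem exists_gen_mod :
    ∃ g ∈ U, ∀ v ∈ U, ∃ i : ℤ, (g ^ i)⁻¹ * v ∈ sectionCent N₁ H₀ := by
  obtain ⟨B, φ, hB, hBcard, hker⟩ := s.exists_lineHom hl
  haveI : IsCyclic (MulAut B) := by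
    haveI : Fact (Nat.card B).Prime := ⟨hBcard.symm ▸ s.p_prime⟩
    exact isCyclic_of_surjective (IsCyclic.mulAutMulEquiv B).symm (MulEquiv.surjective _)
  obtain ⟨⟨_, g, rfl⟩, hg⟩ := IsCyclic.exists_generator (α := φ.range)
  refine ⟨g, g.2, fun v hv => ?_⟩
  obtain ⟨i, hi⟩ := Subgroup.mem_zpowers_iff.1 (hg ⟨φ ⟨v, hv⟩, ⟨v, hv⟩, rfl⟩)
  refine ⟨i, ?_⟩
  have h1 : (g ^ i)⁻¹ * ⟨v, hv⟩ ∈ φ.ker := by
    rw [MonoidHom.mem_ker, map_mul, map_inv, map_zpow, inv_mul_eq_one]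
    simpa using congrArg Subtype.val hi
  rw [hker, mem_subgroupOf] at h1
  simpa using h1

theorem a_dvd_u : a ∣ (sectionCent H H₀).relIndex U := by
  haveI := s.H_normal
  haveI := s.H₀_normal
  rw [← hl.index_U₁, ← inf_relIndex_right (sectionCent N₁ H₀), ← inf_relIndex_right (sectionCent H H₀)]
  refine Subgroup.relIndex_dvd_of_le_left _ fun v hv => ⟨?_, hv.2⟩
  exact (mem_sectionCent (hl.U_norm hv.2) (by rw [normalizer_eq_top]; exact mem_top v)).2
    fun n hn => mem_sectionCent_iff.1 hv.1 n (hl.le hn)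

theorem one_lt_a : 1 < a := by
  haveI := s.H_normal
  haveI := s.H₀_normal
  have ha0 : a ≠ 0 := by
    rw [← hl.index_U₁]
    exact Subgroup.FiniteIndex.index_ne_zero
  refine lt_of_le_of_ne (Nat.one_le_iff_ne_zero.2 ha0) fun e => s.cent fun v hv => ?_
  have hU : U ≤ sectionCent N₁ H₀ := relIndex_eq_one.1 (hl.index_U₁.trans e.symm)
  refine mem_sectionCent_iff.2 fun h hh => ?_
  let S : Subgroup L :=
    { carrier := {g | g ∈ H ∧ v * g * v⁻¹ * g⁻¹ ∈ H₀}
      one_mem' := ⟨one_mem _, by simp⟩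
      mul_mem' := fun {x y} hx hy => ⟨mul_mem hx.1 hy.1, by
        rw [show v * (x * y) * v⁻¹ * (x * y)⁻¹
          = (v * x * v⁻¹ * x⁻¹) * (x * (v * y * v⁻¹ * y⁻¹) * x⁻¹) by group]
        exact mul_mem hx.2 (Subgroup.Normal.conj_mem ‹H₀.Normal› _ hy.2 x)⟩
      inv_mem' := fun {x} hx => ⟨inv_mem hx.1, by
        rw [show v * x⁻¹ * v⁻¹ * x⁻¹⁻¹ = x⁻¹ * (v * x * v⁻¹ * x⁻¹)⁻¹ * x⁻¹⁻¹ by group]
        exact Subgroup.Normal.conj_mem ‹H₀.Normal› _ (inv_mem hx.2) x⁻¹⟩ }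
  suffices hS : H ≤ S from (hS hh).2
  rw [hl.gen]
  refine iSup_le fun w n hn => ⟨s.line_le hl w hn, ?_⟩
  have hUw : U ≤ lineCent U H₀ N₁ w := by
    have h1 : line U (w : L) ≤ lineCent U H₀ N₁ w := Subgroup.map_mono (le_inf le_rfl hU)
    rwa [show line U (w : L) = U from Coprime.map_conj_eq (s.norm_U w.2)] at h1
  exact (s.mem_lineCent hl w.2 hv).1 (hUw hv) n hn

end Setting

end Cfsg.Agent.OddOrder.PF9
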