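import Cfsg.Agent.OddOrder.PF9.FrobDichotomy

/-!
# Numerical consequences of the dichotomy: Peterfalvi (9.7) (a), (b)
-/

set_option autoImplicit false

namespace Cfsg.Agent.OddOrder

open Subgroup

universe u

variable {X : Type u} [Group X] [Finite X] {H U E : Subgroup X} {p : ℕ}

/-- Galois case: `U / C` is cyclic of order dividing `(p ^ q - 1) / (p - 1)`, prime to `p - 1`. -/
theorem field_count (hp : p.Prime) (h : HasFieldModel H U E p) :
    (∃ a ∈ U, ∀ b ∈ U, ∃ i : ℕ, (a ^ i)⁻¹ * b ∈ centralizer (H : Set X)) ∧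
      (centralizer (H : Set X)).relIndex U ∣ (p ^ Nat.card E - 1) / (p - 1) ∧
      ((centralizer (H : Set X)).relIndex U).Coprime (p - 1) := by
  classical
  obtain ⟨F, iF, iFin, f, ψ, σ, hcard, -, -, -, -, -, -, hker, hreg, -⟩ := h
  letI := iF
  haveI := iFin
  have hk : (centralizer (H : Set X)).relIndex U = Nat.card ψ.range := by
    rw [← Subgroup.index_ker]
    show ((centralizer (H : Set X)).subgroupOf U).index = ψ.ker.index
    congr 1
    ext a
    rw [mem_subgroupOf, MonoidHom.mem_ker, hker]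
  have hcyc : IsCyclic ψ.range := inferInstance
  have hcop : (Nat.card ψ.range).Coprime (p - 1) := by
    refine Nat.coprime_of_dvd fun r hr h1 h2 => ?_
    haveI := Fact.mk hr
    obtain ⟨⟨z, hz⟩, ho⟩ := exists_prime_orderOf_dvd_card' r h1
    obtain ⟨a, rfl⟩ := hz
    replace ho : orderOf (ψ a) = r := (Subgroup.orderOf_coe _).trans ho
    have := hreg a (orderOf_dvd_iff_pow_eq_one.1 (ho ▸ h2))
    rw [this, orderOf_one] at ho
    exact hr.one_lt.ne ho
  refine ⟨?_, ?_, hk ▸ hcop⟩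
  · obtain ⟨⟨g, a, rfl⟩, hg⟩ := IsCyclic.exists_monoid_generator (α := ψ.range)
    refine ⟨a, a.2, fun b hb => ?_⟩
    obtain ⟨i, hi⟩ := Submonoid.mem_powers_iff _ _ |>.1 (hg ⟨ψ ⟨b, hb⟩, ⟨b, hb⟩, rfl⟩)
    refine ⟨i, ?_⟩
    have hi' : ψ a ^ i = ψ ⟨b, hb⟩ := congrArg Subtype.val hi
    have h1 : ψ ((a ^ i)⁻¹ * ⟨b, hb⟩) = 1 := by
      rw [map_mul, map_inv, map_pow, hi', inv_mul_cancel]
    simpa using (hker _).1 h1
  · rw [hk]
    have h1 : Nat.card ψ.range ∣ p ^ Nat.card E - 1 := by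
      have h2 := Subgroup.card_subgroup_dvd_card ψ.range
      rwa [Nat.card_units, hcard] at h2
    have h3 : p - 1 ∣ p ^ Nat.card E - 1 := by
      simpa using Nat.sub_dvd_pow_sub_pow p 1 (Nat.card E)
    exact hcop.dvd_of_dvd_mul_right (by rwa [Nat.div_mul_cancel h3])

/-- Non-Galois case: there is `a ∣ p - 1`, `a > 1`, such that `U / C` has exponent dividing `a` and
order dividing `a ^ (q - 1)`. -/
theorem split_count (D : ChiefData H U E) (hp : p.Prime) (h : HasSplitModel H U E p) :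
    ∃ a : ℕ, a ∣ p - 1 ∧ 1 < a ∧ (∀ b ∈ U, b ^ a ∈ centralizer (H : Set X)) ∧
      (centralizer (H : Set X)).relIndex U ∣ a ^ (Nat.card E - 1) := by
  classical
  obtain ⟨N, hNH, hUN, hNcard, hgen⟩ := h
  haveI := Fact.mk hp
  haveI : IsCyclic N := isCyclic_of_prime_card (hp := ⟨hp⟩) hNcard
  haveI : Fintype E := Fintype.ofFinite _
  let lam : U →* MulAut N := N.normalizerMonoidHom.comp (Subgroup.inclusion hUN)
  set A := lam.range
  have hAcard : Nat.card A ∣ p - 1 := by
    have := Subgroup.card_subgroup_dvd_card A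
    rwa [IsCyclic.card_mulAut, hNcard, Nat.totient_prime hp] at this
  have hAcomm : ∀ f g : A, f * g = g * f := fun f g => Subtype.ext <| by
    let e := IsCyclic.mulAutMulEquiv (G := N)
    exact e.injective (by rw [Subgroup.coe_mul, Subgroup.coe_mul, map_mul, map_mul, mul_comm])
  letI : CommGroup A := { (inferInstance : Group A) with mul_comm := hAcomm }
  let cU : E → U → U := fun x a =>
    ⟨(x : X)⁻¹ * a * x, Coprime.conj_mem' (D.normUE x.2) a.2⟩
  let Λ : U →* (E → A) :=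
    MonoidHom.mk' (fun a x => ⟨lam (cU x a), ⟨_, rfl⟩⟩) fun a b => funext fun x => Subtype.ext (by
      show lam (cU x (a * b)) = lam (cU x a) * lam (cU x b)
      rw [← map_mul]
      congr 1
      apply Subtype.ext
      simp [cU, mul_assoc])
  have hlam : ∀ (b : U), lam b = 1 ↔ ∀ n ∈ N, (b : X) * n * (b : X)⁻¹ = n := by
    intro b
    constructor
    · intro hb n hn
      exact congrArg Subtype.val (DFunLike.congr_fun hb ⟨n, hn⟩)
    · intro hb
      ext n
      exact hb n n.2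
  have hΛ : ∀ a : U, Λ a = 1 ↔ (a : X) ∈ centralizer (H : Set X) := by
    intro a
    constructor
    · intro ha
      have hle : H ≤ centralizer ({(a : X)} : Set X) := by
        rw [hgen]
        refine iSup_le fun x => ?_
        rintro _ ⟨n, hn, rfl⟩
        have h1 := (hlam _).1 (congrArg Subtype.val (congrFun ha x)) n hn
        rw [mem_centralizer_singleton_iff]
        show (x : X) * n * (x : X)⁻¹ * a = a * ((x : X) * n * (x : X)⁻¹)
        conv_lhs => rw [← h1]
        simp [cU, mul_assoc]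
      exact mem_centralizer_iff.2 fun y hy => mem_centralizer_singleton_iff.1 (hle hy)
    · intro ha
      funext x
      refine Subtype.ext ((hlam _).2 fun n hn => ?_)
      have h1 : (x : X) * n * (x : X)⁻¹ ∈ H := Coprime.conj_mem (D.normE x.2) (hNH hn)
      have h2 := mem_centralizer_iff.1 ha _ h1
      show (x : X)⁻¹ * a * x * n * ((x : X)⁻¹ * a * x)⁻¹ = n
      calc (x : X)⁻¹ * a * x * n * ((x : X)⁻¹ * a * x)⁻¹
          = (x : X)⁻¹ * (a * ((x : X) * n * (x : X)⁻¹)) * (a : X)⁻¹ * x := by group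
        _ = n := by rw [← h2]; group
  have hu : (centralizer (H : Set X)).relIndex U = Nat.card Λ.range := by
    rw [← Subgroup.index_ker]
    show ((centralizer (H : Set X)).subgroupOf U).index = Λ.ker.index
    congr 1
    ext a
    rw [mem_subgroupOf, MonoidHom.mem_ker, hΛ]
  obtain ⟨y, hy⟩ : ∃ y : E, y ≠ 1 := by
    haveI : Nontrivial E := Finite.one_lt_card_iff_nontrivial.1 D.prime.one_lt
    exact exists_ne 1
  have hshift : ∀ (a : U) (x : E),
      Λ ⟨(y : X) * a * (y : X)⁻¹, Coprime.conj_mem (D.normUE y.2) a.2⟩ x = Λ a (y⁻¹ * x) := by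
    intro a x
    apply Subtype.ext
    show lam _ = lam _
    congr 1
    apply Subtype.ext
    simp [cU, mul_assoc]
  let δ : Λ.range → Λ.range := fun f =>
    ⟨fun x => (f : E → A) (y⁻¹ * x) * ((f : E → A) x)⁻¹, by
      obtain ⟨a, ha⟩ := f.2
      refine ⟨⟨(y : X) * a * (y : X)⁻¹, Coprime.conj_mem (D.normUE y.2) a.2⟩ * a⁻¹, funext fun x => ?_⟩
      rw [map_mul, Pi.mul_apply, hshift, map_inv, Pi.inv_apply, ha]⟩
  have hdiv : ∀ a b c d : A, a * b⁻¹ * (c * d⁻¹)⁻¹ = (a * c⁻¹) * (b * d⁻¹)⁻¹ := fun a b c d => by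
    rw [mul_inv_rev, inv_inv, mul_inv_rev, inv_inv, mul_mul_mul_comm,
      mul_mul_mul_comm a c⁻¹ d b⁻¹, mul_comm b⁻¹ c⁻¹]
  have hδinj : Function.Injective δ := by
    rintro ⟨_, a, rfl⟩ ⟨_, b, rfl⟩ hfg
    have hfg' : ∀ x, Λ a (y⁻¹ * x) * (Λ a x)⁻¹ = Λ b (y⁻¹ * x) * (Λ b x)⁻¹ :=
      fun x => congrFun (congrArg Subtype.val hfg) x
    have hv : Λ (⟨(y : X) * ↑(a * b⁻¹) * (y : X)⁻¹,
        Coprime.conj_mem (D.normUE y.2) (a * b⁻¹).2⟩ * (a * b⁻¹)⁻¹) = 1 := by
      funext x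
      rw [map_mul, Pi.mul_apply, hshift, map_inv, Pi.inv_apply, map_mul, map_inv, Pi.mul_apply,
        Pi.inv_apply, Pi.mul_apply, Pi.inv_apply, Pi.one_apply]
      calc Λ a (y⁻¹ * x) * (Λ b (y⁻¹ * x))⁻¹ * (Λ a x * (Λ b x)⁻¹)⁻¹
          = (Λ a (y⁻¹ * x) * (Λ a x)⁻¹) * (Λ b (y⁻¹ * x) * (Λ b x)⁻¹)⁻¹ := by
            exact hdiv _ _ _ _
        _ = 1 := by rw [hfg', mul_inv_cancel]
    have h1 := D.fpf y y.2 (fun e => hy (Subtype.ext e)) (a * b⁻¹ : U) (a * b⁻¹).2
      (by simpa [mul_assoc] using (hΛ _).1 hv)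
    have h2 := (hΛ _).2 h1
    rw [map_mul, map_inv, mul_inv_eq_one] at h2
    exact Subtype.ext h2
  have hδsurj : Function.Surjective δ := (Finite.injective_iff_surjective.1 hδinj)
  have hprod : ∀ f : Λ.range, ∏ x, (f : E → A) x = 1 := by
    intro f
    obtain ⟨g, rfl⟩ := hδsurj f
    show ∏ x, (g : E → A) (y⁻¹ * x) * ((g : E → A) x)⁻¹ = 1
    rw [Finset.prod_mul_distrib, Finset.prod_inv_distrib,
      Fintype.prod_equiv (Equiv.mulLeft y⁻¹) (fun x => (g : E → A) (y⁻¹ * x))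
        (fun x => (g : E → A) x) fun x => rfl, mul_inv_cancel]
  refine ⟨Nat.card A, hAcard, ?_, fun b hb => ?_, ?_⟩
  · by_contra hle
    have hA1 : A = ⊥ := Subgroup.eq_bot_of_card_le _ (not_lt.1 hle)
    refine D.ne (le_bot_iff.1 ?_)
    rw [← D.fixU]
    refine le_inf le_rfl fun h hh => mem_centralizer_iff.2 fun a ha => ?_
    have : Λ ⟨a, ha⟩ = 1 := funext fun x => Subtype.ext (Subgroup.mem_bot.1 (hA1 ▸ (Λ ⟨a, ha⟩ x).2))
    exact (mem_centralizer_iff.1 ((hΛ _).1 this) h hh).symm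
  · have h2 : Λ (⟨b, hb⟩ ^ Nat.card A) = 1 := by
      funext x
      rw [map_pow, Pi.pow_apply, Pi.one_apply]
      exact pow_card_eq_one'
    simpa using (hΛ _).1 h2
  · rw [hu]
    let r : Λ.range →* ({x : E // x ≠ 1} → A) :=
      MonoidHom.mk' (fun f x => (f : E → A) x) fun f g => rfl
    have hr : Function.Injective r := by
      rw [injective_iff_map_eq_one]
      intro f hf
      have hf' : ∀ x : E, x ≠ 1 → (f : E → A) x = 1 := fun x hx => congrFun hf ⟨x, hx⟩
      refine Subtype.ext (funext fun x => ?_)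
      by_cases hx : x = 1
      · have := hprod f
        rw [Fintype.prod_eq_single x fun z hz => hf' z (hx ▸ hz)] at this
        exact this
      · exact hf' x hx
    refine (Subgroup.card_dvd_of_injective r hr).trans (dvd_of_eq ?_)
    rw [Nat.card_fun, Nat.card_eq_fintype_card (α := {x : E // x ≠ 1}), Fintype.card_subtype_compl,
      Fintype.card_subtype_eq, ← Nat.card_eq_fintype_card]

end Cfsg.Agent.OddOrder
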