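import Cfsg.Agent.OddOrder.PF9.TypeP
import Cfsg.Agent.OddOrder.PF9.FrobCount
import Cfsg.Agent.S1388

/-!
# Peterfalvi (9.5)-(9.7) for a maximal subgroup with type-P data and `U ≠ 1`

`H₀` is chosen with `H / H₀` a chief factor of `M` on which `U` has no fixed points (`CoreKernel`);
then `|H : H₀| = p ^ q`, `|W₂ : W₂ ⊓ H₀| = p`, and either `CoreGalois` or `CoreSplit` holds.
-/

set_option autoImplicit false

namespace Cfsg.Agent.OddOrder

open Subgroup

/-- The elements normalising `H` and `H₀` which centralise the section `H / H₀`. -/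
def sectionCent {G : Type*} [Group G] (H H₀ : Subgroup G) : Subgroup G where
  carrier := {u | u ∈ normalizer (H : Set G) ∧ u ∈ normalizer (H₀ : Set G) ∧
    ∀ h ∈ H, u * h * u⁻¹ * h⁻¹ ∈ H₀}
  one_mem' := ⟨one_mem _, one_mem _, fun h _ => by simp⟩
  mul_mem' := fun {a b} ha hb => ⟨mul_mem ha.1 hb.1, mul_mem ha.2.1 hb.2.1, fun h hh => by
    rw [show a * b * h * (a * b)⁻¹ * h⁻¹ =
      (a * (b * h * b⁻¹ * h⁻¹) * a⁻¹) * (a * h * a⁻¹ * h⁻¹) by group]
    exact mul_mem (Coprime.conj_mem ha.2.1 (hb.2.2 h hh)) (ha.2.2 h hh)⟩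
  inv_mem' := fun {a} ha => ⟨inv_mem ha.1, inv_mem ha.2.1, fun h hh => by
    rw [show a⁻¹ * h * a⁻¹⁻¹ * h⁻¹ = a⁻¹ * (a * h * a⁻¹ * h⁻¹)⁻¹ * a by group]
    exact Coprime.conj_mem' ha.2.1 (inv_mem (ha.2.2 h hh))⟩

theorem mem_sectionCent {G : Type*} [Group G] {H H₀ : Subgroup G} {u : G}
    (h1 : u ∈ normalizer (H : Set G)) (h2 : u ∈ normalizer (H₀ : Set G)) :
    u ∈ sectionCent H H₀ ↔ ∀ h ∈ H, u * h * u⁻¹ * h⁻¹ ∈ H₀ :=
  ⟨fun h => h.2.2, fun h => ⟨h1, h2, h⟩⟩

theorem eq_top_of_sup_commutator {L : Type*} [Group L] [Finite L] [Group.IsNilpotent L]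
    {K : Subgroup L} (h : K ⊔ commutator L = ⊤) : K = ⊤ := by
  by_contra hK
  obtain ⟨Mx, hMx, hle⟩ := (IsCoatomic.eq_top_or_exists_le_coatom K).resolve_left hK
  haveI : Mx.Normal := Subgroup.NormalizerCondition.normal_of_coatom Mx
    Group.normalizerCondition_of_isNilpotent hMx
  haveI : Nontrivial (L ⧸ Mx) := QuotientGroup.nontrivial_iff.2 hMx.1
  have hlt : commutator (L ⧸ Mx) < ⊤ := Group.IsSolvable.commutator_lt_top_of_nontrivial (L ⧸ Mx)
  refine hlt.ne ?_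
  have hs := congrArg (Subgroup.map (QuotientGroup.mk' Mx)) h
  rw [Subgroup.map_sup, Subgroup.map_top_of_surjective _ (QuotientGroup.mk'_surjective Mx),
    (Subgroup.map_eq_bot_iff K).2 (hle.trans (QuotientGroup.ker_mk' Mx).ge), bot_sup_eq,
    commutator_def, Subgroup.map_commutator,
    Subgroup.map_top_of_surjective _ (QuotientGroup.mk'_surjective Mx), ← commutator_def] at hs
  exact hs

variable {G : Type*} [Group G]

/-- `H₀` as in Peterfalvi (9.5). -/
structure CoreKernel (M U H₀ : Subgroup G) : Prop where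
  le : H₀ ≤ Cfsg.fittingHallOf M
  ne : H₀ ≠ Cfsg.fittingHallOf M
  normal : M ≤ normalizer (H₀ : Set G)
  maximal : ∀ N : Subgroup G, H₀ ≤ N → N ≤ Cfsg.fittingHallOf M → M ≤ normalizer (N : Set G) →
    N = H₀ ∨ N = Cfsg.fittingHallOf M
  comm : ⁅Cfsg.fittingHallOf M, Cfsg.fittingHallOf M⁆ ≤ H₀
  centralizer_le : Cfsg.fittingHallOf M ⊓ centralizer (U : Set G) ≤ H₀

/-- Peterfalvi (9.7) (a). -/
def CoreGalois.{u} {G : Type u} [Group G] (M W₁ U W₂ H₀ : Subgroup G) (p : ℕ) : Prop :=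
  ∃ (F : Type u) (_ : Field F) (_ : Finite F) (f : Cfsg.fittingHallOf M → F) (ψ : U →* Fˣ)
    (σ : W₁ →* (F ≃+* F)),
    Nat.card F = p ^ Nat.card W₁ ∧ Function.Surjective f ∧ (∀ a b, f (a * b) = f a + f b) ∧
    (∀ a, f a = 0 ↔ (a : G) ∈ H₀) ∧
    (∀ (u : U) (h h' : Cfsg.fittingHallOf M), (h' : G) = u * h * (u : G)⁻¹ →
      f h' = (ψ u : F) * f h) ∧
    (∀ (x : W₁) (h h' : Cfsg.fittingHallOf M), (h' : G) = x * h * (x : G)⁻¹ → f h' = σ x (f h)) ∧
    Function.Injective σ ∧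
    (∀ h : Cfsg.fittingHallOf M, (h : G) ∈ W₂ ⊔ H₀ ↔ f h ^ p = f h) ∧
    (∀ u : U, ψ u = 1 ↔ (u : G) ∈ sectionCent (Cfsg.fittingHallOf M) H₀) ∧
    (∀ u : U, ψ u ^ (p - 1) = 1 → ψ u = 1) ∧
    (∀ N : Subgroup G, H₀ ≤ N → N ≤ Cfsg.fittingHallOf M → U ≤ normalizer (N : Set G) →
      N = H₀ ∨ N = Cfsg.fittingHallOf M) ∧
    (sectionCent (Cfsg.fittingHallOf M) H₀).relIndex U ∣ (p ^ Nat.card W₁ - 1) / (p - 1) ∧
    ((sectionCent (Cfsg.fittingHallOf M) H₀).relIndex U).Coprime (p - 1) ∧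
    (∃ a ∈ U, ∀ b ∈ U, ∃ i : ℕ, (a ^ i)⁻¹ * b ∈ sectionCent (Cfsg.fittingHallOf M) H₀)

/-- Peterfalvi (9.7) (b). -/
def CoreSplit (M W₁ U H₀ : Subgroup G) (p : ℕ) : Prop :=
  ∃ (N : Subgroup G) (a : ℕ), H₀ ≤ N ∧ N ≤ Cfsg.fittingHallOf M ∧
    U ≤ normalizer (N : Set G) ∧ H₀.relIndex N = p ∧
    Cfsg.fittingHallOf M = ⨆ x : W₁, N.map (MulAut.conj (x : G)).toMonoidHom ∧
    a ∣ p - 1 ∧ 1 < a ∧ (∀ b ∈ U, b ^ a ∈ sectionCent (Cfsg.fittingHallOf M) H₀) ∧
    (sectionCent (Cfsg.fittingHallOf M) H₀).relIndex U ∣ a ^ (Nat.card W₁ - 1)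

variable [Finite G] {M W₁ U W₂ : Subgroup G}

/-- Peterfalvi (9.5): existence of `H₀`. -/
theorem exists_coreKernel (hP : Cfsg.IsTypePWith M W₁ U W₂) (hU : U ≠ ⊥) :
    ∃ H₀, CoreKernel M U H₀ := by
  set H := Cfsg.fittingHallOf M with hH
  have hUnotC := (S1388.result M W₁ U W₂ hP).2 hU
  set N₁ := (H ⊓ centralizer (U : Set G)) ⊔ ⁅H, H⁆ with hN₁
  have hN₁le : N₁ ≤ H := sup_le inf_le_left (commutator_le_self H)
  have hN₁ne : N₁ ≠ H := by
    intro e
    haveI : Group.IsNilpotent H := TypeP.core_nilpotent M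
    have h1 : (H ⊓ centralizer (U : Set G)).subgroupOf H ⊔ commutator H = ⊤ := by
      apply Subgroup.map_injective H.subtype_injective
      rw [Subgroup.map_sup, Subgroup.map_subtype_commutator,
        Subgroup.map_subgroupOf_eq_of_le inf_le_left, ← MonoidHom.range_eq_map, Subgroup.range_subtype]
      exact e
    have h2 : H ≤ centralizer (U : Set G) :=
      (Subgroup.subgroupOf_eq_top.1 (eq_top_of_sup_commutator h1)).trans inf_le_right
    refine hUnotC fun u hu => mem_centralizer_iff.2 fun h hh => ?_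
    exact (mem_centralizer_iff.1 (h2 hh) u hu).symm
  have hMH : M ≤ normalizer (H : Set G) := TypeP.le_normalizer_core M
  have hcompl : U ⊔ W₁ ≤ normalizer (U : Set G) := sup_le le_normalizer hP.U_normal
  have hN₁norm : M ≤ normalizer (N₁ : Set G) := by
    refine (TypeP.core_sup_compl hP).ge.trans (sup_le ?_ ?_)
    · refine le_normalizer_iff_commutator_le_right.2 ?_
      exact (commutator_mono le_rfl hN₁le).trans le_sup_right
    · rw [le_normalizer_iff]
      intro a ha n hn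
      have haH : a ∈ normalizer (H : Set G) := hMH (TypeP.compl_le hP ha)
      have hmap : N₁.map (MulAut.conj a).toMonoidHom = N₁ := by
        rw [hN₁, Subgroup.map_sup, Subgroup.map_commutator, Coprime.map_conj_eq haH,
          Subgroup.map_inf _ _ _ (MulAut.conj a).injective, Coprime.map_conj_eq haH,
          TypeP.centralizer_map_conj, Coprime.map_conj_eq (hcompl ha)]
      exact hmap ▸ ⟨n, hn, rfl⟩
  obtain ⟨H₀, hH₀⟩ := (Set.toFinite {N : Subgroup G | N₁ ≤ N ∧ N ≤ H ∧ N ≠ H ∧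
    M ≤ normalizer (N : Set G)}).exists_maximal ⟨N₁, le_rfl, hN₁le, hN₁ne, hN₁norm⟩
  refine ⟨H₀, hH₀.1.2.1, hH₀.1.2.2.1, hH₀.1.2.2.2, fun N h1 h2 h3 => ?_,
    le_sup_right.trans hH₀.1.1, le_sup_left.trans hH₀.1.1⟩
  by_cases h4 : N = H
  · exact Or.inr h4
  · exact Or.inl (le_antisymm (hH₀.2 ⟨hH₀.1.1.trans h1, h2, h4, h3⟩ h1) h1)

/-- Peterfalvi (9.6), (9.7). -/
theorem core_chief (hP : Cfsg.IsTypePWith M W₁ U W₂) (hq : (Nat.card W₁).Prime)
    {H₀ : Subgroup G} (hk : CoreKernel M U H₀) :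
    ∃ p : ℕ, p.Prime ∧ (∀ h ∈ Cfsg.fittingHallOf M, h ^ p ∈ H₀) ∧
      H₀.relIndex (Cfsg.fittingHallOf M) = p ^ Nat.card W₁ ∧ H₀.relIndex W₂ = p ∧
      (CoreGalois M W₁ U W₂ H₀ p ∨ CoreSplit M W₁ U H₀ p) := by
  classical
  haveI := Fact.mk hq
  set H := Cfsg.fittingHallOf M with hHdef
  have hMH := TypeP.le_normalizer_core M
  have hH₀M : H₀ ≤ M := hk.le.trans (TypeP.core_le M)
  haveI hn : (H₀.subgroupOf M).Normal := (normal_subgroupOf_iff_le_normalizer hH₀M).2 hk.normal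
  let π := QuotientGroup.mk' (H₀.subgroupOf M)
  have hπ0 : ∀ m : M, π m = 1 ↔ (m : G) ∈ H₀ := fun m =>
    (QuotientGroup.eq_one_iff m).trans mem_subgroupOf
  have hπeq : ∀ a b : M, π a = π b ↔ (a : G)⁻¹ * b ∈ H₀ := fun a b => by
    rw [← inv_mul_eq_one, ← map_inv, ← map_mul, hπ0, Subgroup.coe_mul, Subgroup.coe_inv]
  let bar : Subgroup G → Subgroup (M ⧸ H₀.subgroupOf M) := fun K => (K.subgroupOf M).map π
  have mem_bar : ∀ {K : Subgroup G}, K ≤ M → ∀ y, y ∈ bar K ↔ ∃ m : M, (m : G) ∈ K ∧ π m = y :=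
    fun {K} _ y => ⟨fun ⟨m, hm, e⟩ => ⟨m, hm, e⟩, fun ⟨m, hm, e⟩ => ⟨m, hm, e⟩⟩
  have hinjbar : ∀ {K : Subgroup G}, K ⊓ H₀ = ⊥ → ∀ a b : M, (a : G) ∈ K → (b : G) ∈ K →
      π a = π b → a = b := by
    intro K hK a b (ha : (a : G) ∈ K) (hb : (b : G) ∈ K) e
    have h1 : (a : G)⁻¹ * b ∈ K ⊓ H₀ := ⟨K.mul_mem (K.inv_mem ha) hb, (hπeq a b).1 e⟩
    rw [hK, mem_bot, inv_mul_eq_one] at h1
    exact Subtype.ext h1
  have bar_norm : ∀ {A K : Subgroup G}, A ≤ M → K ≤ M → A ≤ normalizer (K : Set G) →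
      bar A ≤ normalizer ((bar K : Subgroup _) : Set (M ⧸ H₀.subgroupOf M)) := by
    intro A K hA hK hAK
    rw [le_normalizer_iff]
    rintro _ ⟨a, ha, rfl⟩ _ ⟨k, hk', rfl⟩
    have ha' : (a : G) ∈ A := ha
    have hk'' : (k : G) ∈ K := hk'
    exact ⟨a * k * a⁻¹, (Coprime.conj_mem (hAK ha') hk'' : (a : G) * k * (a : G)⁻¹ ∈ K), by simp⟩
  have hUM := TypeP.U_le hP
  have hWM := TypeP.W₁_le hP
  have hW2H := TypeP.W₂_le_core hP
  have hHM : H ≤ M := TypeP.core_le M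
  have hUH₀ : U ⊓ H₀ = ⊥ := le_bot_iff.1 ((inf_le_inf le_sup_left hk.le).trans_eq
    ((inf_comm _ _).trans (TypeP.core_inf_compl hP)))
  have hWH₀ : W₁ ⊓ H₀ = ⊥ := le_bot_iff.1 ((inf_le_inf le_sup_right hk.le).trans_eq
    ((inf_comm _ _).trans (TypeP.core_inf_compl hP)))
  -- membership in the centraliser of the image of `H`
  have hcent : ∀ m : M, (m : G) ∈ U ⊔ W₁ →
      (π m ∈ centralizer ((bar H : Subgroup _) : Set (M ⧸ H₀.subgroupOf M)) ↔
        (m : G) ∈ sectionCent H H₀) := by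
    intro m _
    rw [mem_sectionCent (hMH m.2) (hk.normal m.2), mem_centralizer_iff]
    constructor
    · intro h y hy
      have := h (π ⟨y, hHM hy⟩) ⟨⟨y, hHM hy⟩, hy, rfl⟩
      have e : π (m * ⟨y, hHM hy⟩ * m⁻¹ * ⟨y, hHM hy⟩⁻¹) = 1 := by
        rw [map_mul, map_mul, map_mul, map_inv, map_inv, ← this, mul_inv_cancel_right, mul_inv_cancel]
      exact (hπ0 _).1 e
    · rintro h _ ⟨y, hy, rfl⟩
      have e : π (m * y * m⁻¹ * y⁻¹) = 1 := (hπ0 _).2 (by simpa using h y hy)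
      rw [map_mul, map_mul, map_mul, map_inv, map_inv, mul_inv_eq_one, mul_inv_eq_iff_eq_mul] at e
      exact e.symm
  have hcopHU : (Nat.card U).Coprime (Nat.card H) := (TypeP.coprime_core_U hP).symm
  have hcopHW : (Nat.card W₁).Coprime (Nat.card H) := (TypeP.coprime_core_W₁ hP).symm
  have hfixW : bar H ⊓ centralizer ((bar W₁ : Subgroup _) : Set (M ⧸ H₀.subgroupOf M)) = bar W₂ := by
    apply le_antisymm
    · rintro _ ⟨⟨h, hh, rfl⟩, hc⟩
      obtain ⟨c, hc1, hc2⟩ := Coprime.exists_centralizer_mem_of_comm_mem (hWM.trans hMH) hcopHW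
        (Or.inl (TypeP.W₁_solvable hP)) hk.le (hHM.trans hk.normal) (hWM.trans hk.normal) hh
        fun x hx => by
          have := mem_centralizer_iff.1 hc (π ⟨x, hWM hx⟩) ⟨⟨x, hWM hx⟩, hx, rfl⟩
          have e : π (⟨x, hWM hx⟩ * h * ⟨x, hWM hx⟩⁻¹ * h⁻¹) = 1 := by
            rw [map_mul, map_mul, map_mul, map_inv, map_inv, this, mul_inv_cancel_right, mul_inv_cancel]
          exact (hπ0 _).1 e
      rw [TypeP.core_inf_centralizer_W₁ hP] at hc1
      exact ⟨⟨c, hHM (hW2H hc1)⟩, hc1, ((hπeq _ _).2 hc2).symm⟩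
    · rintro _ ⟨w, hw, rfl⟩
      refine ⟨⟨w, hW2H hw, rfl⟩, mem_centralizer_iff.2 ?_⟩
      rintro _ ⟨x, hx, rfl⟩
      rw [← map_mul, ← map_mul]
      exact congrArg π (Subtype.ext (TypeP.W₂_commute hP hx hw))
  have D : ChiefData (bar H) (bar U) (bar W₁) :=
    { comm := by
        rintro _ ⟨a, (ha : (a : G) ∈ H), rfl⟩ _ ⟨b, (hb : (b : G) ∈ H), rfl⟩
        have e : π (a * b * a⁻¹ * b⁻¹) = 1 :=
          (hπ0 _).2 (hk.comm (by simpa [commutatorElement_def] using commutator_mem_commutator ha hb))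
        rw [map_mul, map_mul, map_mul, map_inv, map_inv, mul_inv_eq_one, mul_inv_eq_iff_eq_mul] at e
        exact e
      normU := bar_norm hUM hHM (hUM.trans hMH)
      normE := bar_norm hWM hHM (hWM.trans hMH)
      normUE := bar_norm hWM hUM hP.U_normal
      ne := by
        intro h
        refine hk.ne (le_antisymm hk.le fun y hy => ?_)
        have : π ⟨y, hHM hy⟩ ∈ bar H := ⟨_, hy, rfl⟩
        rw [h, mem_bot] at this
        exact (hπ0 _).1 this
      prime := by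
        have : Nat.card (bar W₁) = Nat.card W₁ := by
          refine (Nat.card_eq_of_bijective (fun w : W₁ =>
            (⟨π ⟨w, hWM w.2⟩, ⟨_, w.2, rfl⟩⟩ : bar W₁)) ⟨fun a b e => ?_, ?_⟩).symm
          · exact Subtype.ext (congrArg (fun m : M => (m : G))
              (hinjbar hWH₀ ⟨a, hWM a.2⟩ ⟨b, hWM b.2⟩ a.2 b.2 (congrArg Subtype.val e)))
          · rintro ⟨_, m, hm, rfl⟩
            exact ⟨⟨m, hm⟩, rfl⟩
        rw [this]
        exact hq
      minimal := by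
        intro K hKH hKU hKE
        let K' : Subgroup G := (K.comap π).map M.subtype
        have hK'mem : ∀ m : M, (m : G) ∈ K' ↔ π m ∈ K := fun m =>
          ⟨fun ⟨a, ha, e⟩ => (Subtype.ext e : a = m) ▸ ha, fun h => ⟨m, h, rfl⟩⟩
        have h1 : H₀ ≤ K' := fun y hy => (hK'mem ⟨y, hH₀M hy⟩).2 (by rw [(hπ0 _).2 hy]; exact one_mem K)
        have h2 : K' ≤ H := by
          rintro _ ⟨m, hm, rfl⟩
          obtain ⟨m', hm', e⟩ := hKH hm
          have := H.mul_mem (hm' : (m' : G) ∈ H) (hk.le (show (m' : G)⁻¹ * (m : G) ∈ H₀ from (hπeq m' m).1 e))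
          simpa using this
        have hnorm : ∀ A : Subgroup G, ∀ hA : A ≤ M, bar A ≤ normalizer (K : Set _) →
            A ≤ normalizer (K' : Set G) := by
          intro A hA hbar
          rw [le_normalizer_iff]
          rintro a ha _ ⟨m, hm, rfl⟩
          refine (hK'mem (⟨a, hA ha⟩ * m * ⟨a, hA ha⟩⁻¹)).2 ?_
          rw [map_mul, map_mul, map_inv]
          exact Coprime.conj_mem (hbar ⟨⟨a, hA ha⟩, ha, rfl⟩) hm
        have h3 : M ≤ normalizer (K' : Set G) := by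
          refine (TypeP.core_sup_compl hP).ge.trans (sup_le ?_ (sup_le (hnorm U hUM hKU) (hnorm W₁ hWM hKE)))
          exact le_normalizer_iff_commutator_le_right.2
            ((commutator_mono le_rfl h2).trans (hk.comm.trans h1))
        rcases hk.maximal K' h1 h2 h3 with h | h
        · refine Or.inl (eq_bot_iff.2 fun y hy => ?_)
          obtain ⟨m, rfl⟩ := QuotientGroup.mk'_surjective (H₀.subgroupOf M) y
          rw [mem_bot]
          exact (hπ0 m).2 (h ▸ (hK'mem m).2 hy)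
        · refine Or.inr (le_antisymm hKH ?_)
          rintro _ ⟨m, hm, rfl⟩
          exact (hK'mem m).1 (h.symm ▸ hm)
      fixU := by
        rw [eq_bot_iff]
        rintro _ ⟨⟨h, hh, rfl⟩, hc⟩
        obtain ⟨c, hc1, hc2⟩ := Coprime.exists_centralizer_mem_of_comm_mem (hUM.trans hMH) hcopHU
          (Or.inl (TypeP.U_solvable hP)) hk.le (hHM.trans hk.normal) (hUM.trans hk.normal) hh
          fun x hx => by
            have := mem_centralizer_iff.1 hc (π ⟨x, hUM hx⟩) ⟨⟨x, hUM hx⟩, hx, rfl⟩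
            have e : π (⟨x, hUM hx⟩ * h * ⟨x, hUM hx⟩⁻¹ * h⁻¹) = 1 := by
              rw [map_mul, map_mul, map_mul, map_inv, map_inv, this, mul_inv_cancel_right, mul_inv_cancel]
            exact (hπ0 _).1 e
        rw [mem_bot, hπ0]
        have := mul_mem (hk.centralizer_le hc1) (inv_mem hc2)
        simpa using this
      fixE := by
        rw [hfixW]
        haveI : IsCyclic (W₂.subgroupOf M) := by
          haveI := hP.selfNormalizing.2.2.2.2.1
          exact isCyclic_of_injective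
            ((Subgroup.inclusion (le_sup_right : W₂ ≤ W₁ ⊔ W₂)).comp
              (Subgroup.subgroupOfEquivOfLe ((hW2H).trans hHM)).toMonoidHom)
            ((Subgroup.inclusion_injective (le_sup_right : W₂ ≤ W₁ ⊔ W₂)).comp (MulEquiv.injective _))
        exact isCyclic_of_surjective (π.subgroupMap (W₂.subgroupOf M)) (π.subgroupMap_surjective _)
      comm_U := by
        rintro _ ⟨a, (ha : (a : G) ∈ U), rfl⟩ _ ⟨b, (hb : (b : G) ∈ U), rfl⟩
        rw [← map_inv, ← map_inv, ← map_mul, ← map_mul, ← map_mul]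
        have hmem : ((a * b * a⁻¹ * b⁻¹ : M) : G) ∈ U := by
          simpa using U.mul_mem (U.mul_mem (U.mul_mem ha hb) (U.inv_mem ha)) (U.inv_mem hb)
        refine (hcent _ (mem_sup_left hmem)).2 ((mem_sectionCent (hMH (Subtype.prop _))
          (hk.normal (Subtype.prop _))).2 fun y hy => ?_)
        have hz : ((a * b * a⁻¹ * b⁻¹ : M) : G) ∈ centralizer (H : Set G) :=
          (S1388.result M W₁ U W₂ hP).1
            (by simpa [commutatorElement_def] using commutator_mem_commutator ha hb)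
        rw [← mem_centralizer_iff.1 hz y hy, mul_inv_cancel_right, mul_inv_cancel]
        exact one_mem _
      fpf := by
        rintro _ ⟨x, (hx : (x : G) ∈ W₁), rfl⟩ hx1 _ ⟨a, (ha : (a : G) ∈ U), rfl⟩ hxa
        have hxW : zpowers (x : G) = W₁ := by
          refine Subgroup.eq_of_le_of_card_ge (zpowers_le.2 hx) ?_
          have h1 : (x : G) ≠ 1 := fun e => hx1 ((hπ0 x).2 (e ▸ one_mem H₀))
          rw [Nat.card_zpowers]
          have hd : orderOf (x : G) ∣ Nat.card W₁ := by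
            rw [← Subgroup.orderOf_mk (x : G) hx]
            exact orderOf_dvd_natCard _
          rcases hq.eq_one_or_self_of_dvd _ hd with h | h
          · exact absurd (orderOf_eq_one_iff.1 h) h1
          · exact h.ge
        have hxa' : (x : G) * a * (x : G)⁻¹ * (a : G)⁻¹ ∈ sectionCent H H₀ := by
          rw [← map_inv, ← map_inv, ← map_mul, ← map_mul, ← map_mul] at hxa
          exact (hcent _ (mem_sup_left (mul_mem (Coprime.conj_mem (hP.U_normal hx) ha) (inv_mem ha)))).1 hxa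
        set K := U ⊓ sectionCent H H₀ with hK
        have hMS : M ≤ normalizer ((sectionCent H H₀ : Subgroup G) : Set G) := by
          rw [le_normalizer_iff]
          intro m hm u hu
          refine (mem_sectionCent (mul_mem (mul_mem (hMH hm) hu.1) (inv_mem (hMH hm)))
            (mul_mem (mul_mem (hk.normal hm) hu.2.1) (inv_mem (hk.normal hm)))).2 fun y hy => ?_
          have h1 := hu.2.2 (m⁻¹ * y * m) (Coprime.conj_mem' (hMH hm) hy)
          have h2 := Coprime.conj_mem (hk.normal hm) h1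
          rw [show m * u * m⁻¹ * y * (m * u * m⁻¹)⁻¹ * y⁻¹ =
            m * (u * (m⁻¹ * y * m) * u⁻¹ * (m⁻¹ * y * m)⁻¹) * m⁻¹ by group]
          exact h2
        have hKU : U ≤ normalizer (K : Set G) := by
          rw [le_normalizer_iff]
          intro m hm u hu
          exact ⟨U.mul_mem (U.mul_mem hm hu.1) (U.inv_mem hm), Coprime.conj_mem (hMS (hUM hm)) hu.2⟩
        have hKW : W₁ ≤ normalizer (K : Set G) := by
          rw [le_normalizer_iff]
          intro m hm u hu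
          exact ⟨Coprime.conj_mem (hP.U_normal hm) hu.1, Coprime.conj_mem (hMS (hWM hm)) hu.2⟩
        have hfix : ∀ y ∈ W₁, y * (a : G) * y⁻¹ * (a : G)⁻¹ ∈ K := by
          let T : Subgroup G :=
            { carrier := {y | y ∈ W₁ ∧ y * (a : G) * y⁻¹ * (a : G)⁻¹ ∈ K}
              one_mem' := ⟨one_mem _, by simp⟩
              mul_mem' := fun {y z} hy hz => ⟨mul_mem hy.1 hz.1, by
                rw [show y * z * (a : G) * (y * z)⁻¹ * (a : G)⁻¹ =
                  (y * (z * a * z⁻¹ * (a : G)⁻¹) * y⁻¹) * (y * a * y⁻¹ * (a : G)⁻¹) by group]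
                exact mul_mem (Coprime.conj_mem (hKW hy.1) hz.2) hy.2⟩
              inv_mem' := fun {y} hy => ⟨inv_mem hy.1, by
                rw [show y⁻¹ * (a : G) * y⁻¹⁻¹ * (a : G)⁻¹ = y⁻¹ * (y * a * y⁻¹ * (a : G)⁻¹)⁻¹ * y by group]
                exact Coprime.conj_mem' (hKW hy.1) (inv_mem hy.2)⟩ }
          have : W₁ ≤ T := hxW ▸ zpowers_le.2 ⟨hx,
            U.mul_mem (Coprime.conj_mem (hP.U_normal hx) ha) (U.inv_mem ha), hxa'⟩
          exact fun y hy => (this hy).2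
        obtain ⟨c, hc, hc2⟩ := Coprime.exists_centralizer_mem_of_comm_mem (A := W₁) (K := U)
          hP.U_normal (TypeP.coprime_U_W₁ hP).symm (Or.inl (TypeP.W₁_solvable hP))
          inf_le_left hKU hKW ha hfix
        have hc1 : c = 1 := by
          by_cases hxe : (x : G) = 1
          · exact absurd ((hπ0 x).2 (hxe ▸ one_mem H₀)) hx1
          · exact TypeP.fpf_U hP hx hxe hc.1 (mem_centralizer_iff.1 hc.2 x hx)
        rw [hc1, mul_one] at hc2
        exact (hcent a (mem_sup_left ha)).2 (by simpa using (inv_mem hc2.2 : (a : G)⁻¹⁻¹ ∈ sectionCent H H₀)) }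
  have hidx : ∀ K : Subgroup G, K ≤ M → Nat.card (bar K) = H₀.relIndex K := by
    intro K hK
    have h1 := Subgroup.relIndex_map_map π (⊥ : Subgroup M) (K.subgroupOf M)
    rw [Subgroup.map_bot, relIndex_bot_left, bot_sup_eq, QuotientGroup.ker_mk',
      relIndex_sup_right, relIndex_subgroupOf hK] at h1
    exact h1
  obtain ⟨p, hp, helem, hfix, hcardH, hcase⟩ := chief_dichotomy D
  rw [hfixW, hidx W₂ (TypeP.W₂_le hP)] at hfix
  have hcardW : Nat.card (bar W₁) = Nat.card W₁ := by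
    rw [hidx W₁ hWM, ← inf_relIndex_right, inf_comm, hWH₀, relIndex_bot_left]
  rw [hidx H hHM, hcardW] at hcardH
  have hrel : (centralizer ((bar H : Subgroup _) : Set (M ⧸ H₀.subgroupOf M))).relIndex (bar U) =
      (sectionCent H H₀).relIndex U := by
    rw [← relIndex_comap, ← relIndex_subgroupOf (H := sectionCent H H₀) hUM, ← inf_relIndex_right,
      ← inf_relIndex_right ((sectionCent H H₀).subgroupOf M)]
    congr 1
    ext m
    simp only [mem_inf, mem_comap, mem_subgroupOf]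
    exact and_congr_left fun hm => hcent m (mem_sup_left hm)
  refine ⟨p, hp, fun y hy => ?_, hcardH, hfix, ?_⟩
  · have h1 : π (⟨y, hHM hy⟩ ^ p) = 1 := by
      rw [map_pow]
      exact helem.2 _ ⟨_, hy, rfl⟩
    simpa using (hπ0 _).1 h1
  rcases hcase with hF | hS
  · left
    obtain ⟨-, hdvd, hcop⟩ := field_count hp hF
    obtain ⟨⟨g, hg⟩, hgU⟩ : ∃ g : M, (g : G) ∈ U ∧ ∀ b : M, (b : G) ∈ U →
        ∃ i : ℕ, ((g : G) ^ i)⁻¹ * b ∈ sectionCent H H₀ := by
      obtain ⟨_, ⟨g, (hg : (g : G) ∈ U), rfl⟩, hgen⟩ := (field_count hp hF).1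
      refine ⟨g, hg, fun b hb => ?_⟩
      obtain ⟨i, hi⟩ := hgen (π b) ⟨b, hb, rfl⟩
      refine ⟨i, ?_⟩
      rw [← map_pow, ← map_inv, ← map_mul] at hi
      simpa using (hcent _ (mem_sup_left (by simpa using U.mul_mem (U.inv_mem (pow_mem hg i)) hb))).1 hi
    rw [hrel, hcardW] at hdvd
    rw [hrel] at hcop
    obtain ⟨F, iF, iFin, f, ψ, σ, hcard, hbij, hadd, hequ, heqw, hσ, hf₀, hψ, hreg, hirr⟩ := hF
    letI := iF
    haveI := iFin
    let jH : H →* bar H := (π.subgroupMap (H.subgroupOf M)).comp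
      (Subgroup.subgroupOfEquivOfLe hHM).symm.toMonoidHom
    let jU : U →* bar U := (π.subgroupMap (U.subgroupOf M)).comp
      (Subgroup.subgroupOfEquivOfLe hUM).symm.toMonoidHom
    let jW : W₁ →* bar W₁ := (π.subgroupMap (W₁.subgroupOf M)).comp
      (Subgroup.subgroupOfEquivOfLe hWM).symm.toMonoidHom
    have hjH : ∀ h : H, (jH h : M ⧸ H₀.subgroupOf M) = π ⟨h, hHM h.2⟩ := fun h => rfl
    have hjU : ∀ h : U, (jU h : M ⧸ H₀.subgroupOf M) = π ⟨h, hUM h.2⟩ := fun h => rfl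
    have hjW : ∀ h : W₁, (jW h : M ⧸ H₀.subgroupOf M) = π ⟨h, hWM h.2⟩ := fun h => rfl
    have hf1 : f 1 = 0 := by
      have := hadd 1 1
      rw [mul_one] at this
      simpa using this
    refine ⟨F, iF, iFin, fun h => f (jH h), ψ.comp jU, σ.comp jW, by rw [hcard, hcardW],
      fun z => ?_, fun a b => by show f (jH (a * b)) = f (jH a) + f (jH b); rw [map_mul, hadd], fun a => ?_, fun a h h' e => ?_,
      fun x h h' e => ?_, hσ.comp fun a b e => ?_, fun h => ?_, fun a => ?_, fun a ha => hreg _ ha,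
      fun N h1 h2 h3 => ?_, hdvd, hcop, ⟨g, hgU.1, fun b hb => hgU.2 ⟨b, hUM hb⟩ hb⟩⟩
    · obtain ⟨⟨_, m, hm, rfl⟩, rfl⟩ := hbij.2 z
      exact ⟨⟨m, hm⟩, rfl⟩
    · show f (jH a) = 0 ↔ _
      rw [← hf1, hbij.1.eq_iff, Subtype.ext_iff, hjH, Subgroup.coe_one, hπ0]
    · refine hequ (jU a) (jH h) (jH h') ?_
      rw [hjH, hjH, hjU, ← map_inv, ← map_mul, ← map_mul]
      exact congrArg π (Subtype.ext e)
    · refine heqw (jW x) (jH h) (jH h') ?_
      rw [hjH, hjH, hjW, ← map_inv, ← map_mul, ← map_mul]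
      exact congrArg π (Subtype.ext e)
    · exact Subtype.ext (congrArg (fun m : M => (m : G))
        (hinjbar hWH₀ ⟨a, hWM a.2⟩ ⟨b, hWM b.2⟩ a.2 b.2 (congrArg Subtype.val e)))
    · show _ ↔ f (jH h) ^ p = f (jH h)
      rw [← hf₀]
      constructor
      · intro hh
        obtain ⟨w, hw, z, hz, e⟩ := (Coprime.mem_sup_iff ((TypeP.W₂_le hP).trans hk.normal)).1
          ((sup_comm W₂ H₀).le hh)
        have hwM := TypeP.W₂_le hP hz
        have : (jH h : M ⧸ H₀.subgroupOf M) ∈ bar W₂ := by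
          refine ⟨⟨z, hwM⟩, hz, ?_⟩
          rw [hjH, hπeq]
          show z⁻¹ * (h : G) ∈ H₀
          rw [← e, ← mul_assoc]
          exact Coprime.conj_mem' (hk.normal hwM) hw
        rw [← hfixW] at this
        exact this.2
      · intro hh
        have : (jH h : M ⧸ H₀.subgroupOf M) ∈ bar W₂ := by
          rw [← hfixW]
          exact ⟨(jH h).2, hh⟩
        obtain ⟨w, hw, e⟩ := this
        rw [hjH, hπeq] at e
        have := mul_mem (mem_sup_left (T := H₀) hw) (mem_sup_right (S := W₂) e)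
        simpa using this
    · show ψ (jU a) = 1 ↔ _
      rw [hψ, hjU, hcent _ (mem_sup_left a.2)]
    · rcases hirr (bar N) (Subgroup.map_mono (subgroupOf_mono _ h2))
        (bar_norm hUM (h2.trans hHM) h3) with h | h
      · refine Or.inl (le_antisymm (fun y hy => ?_) h1)
        have : π ⟨y, hHM (h2 hy)⟩ ∈ bar N := ⟨_, hy, rfl⟩
        rw [h, mem_bot, hπ0] at this
        exact this
      · refine Or.inr (le_antisymm h2 fun y hy => ?_)
        obtain ⟨m, hm, e⟩ : π ⟨y, hHM hy⟩ ∈ bar N := h ▸ ⟨_, hy, rfl⟩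
        have := N.mul_mem (hm : (m : G) ∈ N) (h1 (show (m : G)⁻¹ * y ∈ H₀ from (hπeq _ _).1 e))
        simpa using this
  · right
    obtain ⟨a, ha1, ha2, hapow, haidx⟩ := split_count D hp hS
    rw [hrel, hcardW] at haidx
    obtain ⟨Nb, hNH, hNU, hNcard, hgen⟩ := hS
    let N : Subgroup G := (Nb.comap π).map M.subtype
    have hNmem : ∀ m : M, (m : G) ∈ N ↔ π m ∈ Nb := fun m =>
      ⟨fun ⟨b, hb, e⟩ => (Subtype.ext e : b = m) ▸ hb, fun h => ⟨m, h, rfl⟩⟩
    have h1 : H₀ ≤ N := fun y hy => (hNmem ⟨y, hH₀M hy⟩).2 (by rw [(hπ0 _).2 hy]; exact one_mem Nb)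
    have h2 : N ≤ H := by
      rintro _ ⟨m, hm, rfl⟩
      obtain ⟨m', hm', e⟩ := hNH hm
      have := H.mul_mem (hm' : (m' : G) ∈ H) (hk.le (show (m' : G)⁻¹ * (m : G) ∈ H₀ from (hπeq m' m).1 e))
      simpa using this
    have hbarN : bar N = Nb := by
      refine le_antisymm ?_ fun y hy => ?_
      · rintro _ ⟨m, hm, rfl⟩
        exact (hNmem m).1 hm
      · obtain ⟨m, rfl⟩ := QuotientGroup.mk'_surjective (H₀.subgroupOf M) y
        exact ⟨m, (hNmem m).2 hy, rfl⟩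
    refine ⟨N, a, h1, h2, ?_, ?_, ?_, ha1, ha2, fun b hb => ?_, haidx⟩
    · rw [le_normalizer_iff]
      rintro b hb _ ⟨m, hm, rfl⟩
      refine (hNmem (⟨b, hUM hb⟩ * m * ⟨b, hUM hb⟩⁻¹)).2 ?_
      rw [map_mul, map_mul, map_inv]
      exact Coprime.conj_mem (hNU ⟨⟨b, hUM hb⟩, hb, rfl⟩) hm
    · rw [← hidx N (h2.trans hHM), hbarN, hNcard]
    · refine le_antisymm ?_ (iSup_le fun x => (Subgroup.map_mono h2).trans_eq
        (Coprime.map_conj_eq (hWM.trans hMH x.2)))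
      have hle : H₀ ≤ ⨆ x : W₁, N.map (MulAut.conj (x : G)).toMonoidHom := by
        refine le_iSup_of_le 1 ?_
        intro y hy
        exact ⟨y, h1 hy, by simp⟩
      intro y hy
      let S := ⨆ x : W₁, N.map (MulAut.conj (x : G)).toMonoidHom
      have hSb : bar H ≤ bar S := by
        rw [hgen]
        refine iSup_le fun x => ?_
        obtain ⟨_, x, hx, rfl⟩ := x
        rintro _ ⟨n, hn, rfl⟩
        obtain ⟨m, rfl⟩ := QuotientGroup.mk'_surjective (H₀.subgroupOf M) n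
        refine ⟨x * m * x⁻¹, ?_, by simp [π]⟩
        exact mem_iSup_of_mem (⟨(x : G), hx⟩ : W₁) ⟨m, (hNmem m).2 hn, rfl⟩
      obtain ⟨m, hm, e⟩ := hSb ⟨⟨y, hHM hy⟩, hy, rfl⟩
      have := S.mul_mem (hm : (m : G) ∈ S) (hle (show (m : G)⁻¹ * y ∈ H₀ from (hπeq _ _).1 e))
      simpa [S] using this
    · have h3 := hapow (π ⟨b, hUM hb⟩) ⟨_, hb, rfl⟩
      rw [← map_pow] at h3
      simpa using (hcent _ (mem_sup_left (by simpa using pow_mem hb a))).1 h3

end Cfsg.Agent.OddOrder
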