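import Cfsg.Agent.OddOrder.PF4.MuKer
import Cfsg.Agent.OddOrder.PF9.LinearClifford
import Cfsg.Agent.OddOrder.PF9.Chief

/-!
# The setting of Peterfalvi (9.8)-(9.11), in the group `L` (later a maximal subgroup)

`K = H ⋊ U`, `L = K W₁`, `H / H₀` is a chief factor of order `p ^ q` with `q = |W₁|`.
-/

set_option autoImplicit false
set_option linter.style.haveILetI false
set_option linter.unusedSectionVars false

namespace Cfsg.Agent.OddOrder.PF9

open Subgroup
open scoped commutatorElement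

universe u

/-- Hypothesis (9.2) together with the chief factor `H / H₀` of (9.5). -/
structure Setting {L : Type u} [Group L] (K H H₀ U W₁ W₂ : Subgroup L) (p q : ℕ) : Prop where
  hyp : PF4.Hyp K W₁ W₂
  odd : Odd (Nat.card L)
  H_normal : H.Normal
  H₀_normal : H₀.Normal
  le : H₀ ≤ H
  H_le : H ≤ K
  U_le : U ≤ K
  inf : H ⊓ U = ⊥
  sup : H ⊔ U = K
  coprime : (Nat.card H).Coprime (Nat.card U)
  norm_U : W₁ ≤ normalizer (U : Set L)
  U_nil : Group.IsNilpotent U
  W₂_le : W₂ ≤ H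
  p_prime : p.Prime
  q_prime : q.Prime
  card_W₁ : Nat.card W₁ = q
  index_H : H₀.relIndex H = p ^ q
  index_W₂ : H₀.relIndex W₂ = p
  pow_mem : ∀ h ∈ H, h ^ p ∈ H₀
  comm : ⁅H, H⁆ ≤ H₀
  maximal : ∀ N : Subgroup L, N.Normal → H₀ ≤ N → N ≤ H → N = H₀ ∨ N = H
  derived : ⁅U, U⁆ ≤ sectionCent H H₀
  cent : ¬ U ≤ sectionCent H H₀

variable {L : Type u} [Group L] {K H H₀ U W₁ W₂ : Subgroup L} {p q : ℕ}

theorem sectionCent_normal (H H₀ : Subgroup L) [H.Normal] [H₀.Normal] :
    (sectionCent H H₀).Normal := by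
  have hn : ∀ x : L, x ∈ normalizer (H : Set L) ∧ x ∈ normalizer (H₀ : Set L) := fun x =>
    ⟨by rw [normalizer_eq_top]; exact mem_top x, by rw [normalizer_eq_top]; exact mem_top x⟩
  refine ⟨fun a ha g => (mem_sectionCent (hn _).1 (hn _).2).2 fun h hh => ?_⟩
  have := Subgroup.Normal.conj_mem ‹H₀.Normal› _
    (ha.2.2 _ (Subgroup.Normal.conj_mem ‹H.Normal› h hh g⁻¹)) g
  convert this using 1
  group

theorem mem_sectionCent_iff {H H₀ : Subgroup L} [H.Normal] [H₀.Normal] {x : L} :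
    x ∈ sectionCent H H₀ ↔ ∀ h ∈ H, x * h * x⁻¹ * h⁻¹ ∈ H₀ :=
  mem_sectionCent (by rw [normalizer_eq_top]; exact mem_top x)
    (by rw [normalizer_eq_top]; exact mem_top x)

namespace Setting

variable [Fintype L]

variable (s : Setting K H H₀ U W₁ W₂ p q)

include s

theorem K_normal : K.Normal := s.hyp.normal

theorem cent_normal : (sectionCent H H₀).Normal :=
  haveI := s.H_normal
  haveI := s.H₀_normal
  sectionCent_normal H H₀

theorem H_le_cent : H ≤ sectionCent H H₀ := fun x hx => by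
  haveI := s.H_normal
  haveI := s.H₀_normal
  refine mem_sectionCent_iff.2 fun h hh => s.comm ?_
  rw [← commutatorElement_def]
  exact commutator_mem_commutator hx hh

theorem mem_K {g : L} (hg : g ∈ K) : ∃ h ∈ H, ∃ v ∈ U, g = h * v := by
  haveI := s.H_normal
  rw [← s.sup, ← SetLike.mem_coe, Subgroup.normal_mul] at hg
  obtain ⟨h, hh, v, hv, rfl⟩ := Set.mem_mul.1 hg
  exact ⟨h, hh, v, hv, rfl⟩

/-- The kernel `N = H C` of the action of `K` on `H / H₀`. -/
theorem N_eq : K ⊓ sectionCent H H₀ = H ⊔ U ⊓ sectionCent H H₀ := by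
  refine le_antisymm (fun g hg => ?_)
    (sup_le (le_inf s.H_le s.H_le_cent) (inf_le_inf_right _ s.U_le))
  obtain ⟨h, hh, v, hv, rfl⟩ := s.mem_K hg.1
  refine mul_mem (mem_sup_left hh) (mem_sup_right ⟨hv, ?_⟩)
  have := mul_mem (inv_mem (s.H_le_cent hh)) hg.2
  rwa [inv_mul_cancel_left] at this

theorem N_normal : (K ⊓ sectionCent H H₀).Normal :=
  haveI := s.K_normal
  haveI := s.cent_normal
  inferInstance

theorem commutator_K_le : ⁅K, K⁆ ≤ K ⊓ sectionCent H H₀ := by
  refine le_inf (commutator_le_self K) (commutator_le.2 fun x hx y hy => ?_)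
  haveI := s.cent_normal
  obtain ⟨h, hh, v, hv, rfl⟩ := s.mem_K hx
  obtain ⟨k, hk, w, hw, rfl⟩ := s.mem_K hy
  rw [← QuotientGroup.eq_one_iff]
  have e : ∀ z ∈ H, (z : L ⧸ sectionCent H H₀) = 1 := fun z hz =>
    (QuotientGroup.eq_one_iff z).2 (s.H_le_cent hz)
  show (QuotientGroup.mk' (sectionCent H H₀)) ⁅h * v, k * w⁆ = 1
  rw [map_commutatorElement, map_mul, map_mul, QuotientGroup.mk'_apply, QuotientGroup.mk'_apply,
    QuotientGroup.mk'_apply, QuotientGroup.mk'_apply, e h hh, e k hk, one_mul, one_mul,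
    ← QuotientGroup.mk'_apply, ← QuotientGroup.mk'_apply, ← map_commutatorElement]
  exact (QuotientGroup.eq_one_iff _).2 (s.derived (commutator_mem_commutator hv hw))

/-- `|K : N| = |U : C|`. -/
theorem index_N : (K ⊓ sectionCent H H₀).relIndex K = (sectionCent H H₀).relIndex U := by
  haveI := s.cent_normal
  rw [inf_relIndex_left]
  have e : sectionCent H H₀ ⊔ K = sectionCent H H₀ ⊔ U := by
    rw [← s.sup, ← sup_assoc, sup_eq_left.2 s.H_le_cent]
  rw [← Subgroup.relIndex_sup_left (H := K), e, Subgroup.relIndex_sup_left]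

theorem coprime_index_q : (Nat.card U).Coprime q := by
  have h := s.hyp.coprime
  rw [s.card_W₁] at h
  exact (h.coprime_dvd_right (Subgroup.card_dvd_of_le s.U_le)).symm

theorem u_dvd : (sectionCent H H₀).relIndex U ∣ Nat.card U := Subgroup.relIndex_dvd_card _ _

theorem u_coprime_q : ((sectionCent H H₀).relIndex U).Coprime q :=
  s.coprime_index_q.coprime_dvd_left s.u_dvd

theorem H₀_ne : H₀ ≠ H := by
  intro e
  have := s.index_H
  rw [e, relIndex_self] at this
  exact (Nat.one_lt_pow s.q_prime.ne_zero s.p_prime.one_lt).ne this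

theorem W₂_not_le : ¬ W₂ ≤ H₀ := fun hle => by
  have := s.index_W₂
  rw [relIndex_eq_one.2 hle] at this
  exact s.p_prime.one_lt.ne this

theorem two_lt_q : 2 < q := by
  have h : Odd (Nat.card W₁) := s.odd.of_dvd_nat (Subgroup.card_subgroup_dvd_card W₁)
  rw [s.card_W₁] at h
  refine lt_of_le_of_ne s.q_prime.two_le fun e => ?_
  rw [← e] at h
  exact absurd h (by decide)

theorem two_lt_p : 2 < p := by
  have h : Odd (H₀.relIndex W₂) := s.odd.of_dvd_nat
    ((Subgroup.relIndex_dvd_card _ _).trans (Subgroup.card_subgroup_dvd_card W₂))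
  rw [s.index_W₂] at h
  refine lt_of_le_of_ne s.p_prime.two_le fun e => ?_
  rw [← e] at h
  exact absurd h (by decide)

end Setting

end Cfsg.Agent.OddOrder.PF9
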