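import Cfsg.Agent.H43.Coherence
import Cfsg.Agent.CharInduce.Function

/-!
# Integer coefficient tools for Peterfalvi (9.11)

Bessel for an orthonormal family, orthogonality of two families of signed irreducibles with
orthogonal differences, and a binomial lower bound.
-/

set_option autoImplicit false
set_option linter.style.haveILetI false

namespace Cfsg.Agent.OddOrder.PF9

open Cfsg.Agent Cfsg.Agent.CharBasic Finset
open scoped Classical

universe u v

variable {G : Type v} [Group G] [Fintype G]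

/-- Bessel with integer coefficients. -/
theorem bessel_int {ι : Type u} [DecidableEq ι] (s : Finset ι) (f : ι → G → ℂ)
    (hf : ∀ i ∈ s, ∀ j ∈ s, Cfsg.classInner (f i) (f j) = if i = j then 1 else 0) {β : G → ℂ}
    (b : ι → ℤ) (hb : ∀ i ∈ s, Cfsg.classInner β (f i) = b i) {N : ℝ}
    (hN : Cfsg.classInner β β = N) :
    ((∑ i ∈ s, b i ^ 2 : ℤ) : ℝ) ≤ N ∧
      (((∑ i ∈ s, b i ^ 2 : ℤ) : ℝ) = N → β = ∑ i ∈ s, (b i : ℂ) • f i) := by
  set γ : G → ℂ := β - ∑ i ∈ s, (b i : ℂ) • f i with hγ
  have hcomb : ∀ j ∈ s, Cfsg.classInner (∑ i ∈ s, (b i : ℂ) • f i) (f j) = b j := by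
    intro j hj
    rw [classInner_sum_left, sum_eq_single j
      (fun i hi hne => by rw [classInner_smul_left, hf i hi j hj, if_neg hne, mul_zero])
      (fun h => absurd hj h), classInner_smul_left, hf j hj j hj, if_pos rfl, mul_one]
  have hnorm : Cfsg.classInner γ γ = ((N - ((∑ i ∈ s, b i ^ 2 : ℤ) : ℝ) : ℝ) : ℂ) := by
    have h1 : ∀ j ∈ s, Cfsg.classInner γ (f j) = 0 := fun j hj => by
      rw [hγ, classInner_sub_left, hb j hj, hcomb j hj, sub_self]
    rw [hγ, classInner_sub_right, ← hγ, classInner_sum_right,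
      sum_eq_zero fun j hj => by rw [CharBasic.classInner_smul_right, h1 j hj, mul_zero], sub_zero, hγ,
      classInner_sub_left, classInner_sum_left, hN]
    simp only [classInner_smul_left]
    push_cast
    congr 1
    refine sum_congr rfl fun i hi => ?_
    rw [← CharInduce.conj_classInner, hb i hi, map_intCast, sq]
  refine ⟨?_, fun e => ?_⟩
  · have := H43.classInner_self_re_nonneg γ
    rw [hnorm, Complex.ofReal_re] at this
    linarith
  · rw [← e, sub_self, Complex.ofReal_zero, classInner_self_eq_zero, hγ, sub_eq_zero] at hnorm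
    exact hnorm

/-- Two families of signed irreducibles, each orthonormal, with orthogonal differences are
orthogonal, if each has at least three members. -/
theorem orth_of_diff {ι : Type u} [DecidableEq ι] (s t : Finset ι) (f : ι → G → ℂ)
    (hf : ∀ i ∈ s ∪ t, H43.Signed (f i))
    (hs : ∀ i ∈ s, ∀ j ∈ s, Cfsg.classInner (f i) (f j) = if i = j then 1 else 0)
    (ht : ∀ i ∈ t, ∀ j ∈ t, Cfsg.classInner (f i) (f j) = if i = j then 1 else 0)
    (hd : ∀ i ∈ s, ∀ i' ∈ s, ∀ k ∈ t, ∀ k' ∈ t,
      Cfsg.classInner (f i - f i') (f k - f k') = 0)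
    (h2 : 3 ≤ s.card) (h3 : 3 ≤ t.card) :
    ∀ i ∈ s, ∀ k ∈ t, Cfsg.classInner (f i) (f k) = 0 := by
  intro i hi k hk
  rcases (hf i (mem_union_left _ hi)).inner_cases (hf k (mem_union_right _ hk)) with h | h
  · exact h
  exfalso
  have hzero : ∀ {i' k'}, i' ∈ s → k' ∈ t → i' ≠ i → k' = k →
      Cfsg.classInner (f i') (f k') = 0 := by
    intro i' k' hi' _ hne hk'
    subst hk'
    rcases h with e | e
    · rw [← e, hs i' hi' i hi, if_neg hne]
    · rw [show f k' = -f i by rw [e, neg_neg], classInner_neg_right, hs i' hi' i hi, if_neg hne,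
        neg_zero]
  have hzero' : ∀ {k'}, k' ∈ t → k' ≠ k → Cfsg.classInner (f i) (f k') = 0 := by
    intro k' hk' hne
    rcases h with e | e
    · rw [e, ht k hk k' hk', if_neg (Ne.symm hne)]
    · rw [e, classInner_neg_left, ht k hk k' hk', if_neg (Ne.symm hne), neg_zero]
  obtain ⟨i', hi', hne⟩ := exists_mem_ne (by omega : 1 < s.card) i
  obtain ⟨k', hk', hne'⟩ := exists_mem_ne (by omega : 1 < t.card) k
  obtain ⟨k'', hk'', hne'', hne3⟩ : ∃ x ∈ t, x ≠ k ∧ x ≠ k' := by
    have hc : 0 < ((t.erase k).erase k').card := by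
      rw [card_erase_of_mem (mem_erase.2 ⟨hne', hk'⟩), card_erase_of_mem hk]; omega
    obtain ⟨x, hx⟩ := card_pos.1 hc
    simp only [mem_erase] at hx
    exact ⟨x, hx.2.2, hx.2.1, hx.1⟩
  have hk0 : Cfsg.classInner (f i) (f k) ≠ 0 := by
    rcases h with e | e <;>
      simp [e, classInner_neg_left, (hf k (mem_union_right _ hk)).inner_self]
  have e1 := hd i hi i' hi' k hk k' hk'
  have e2 := hd i hi i' hi' k hk k'' hk''
  simp only [classInner_sub_left, classInner_sub_right, hzero hi' hk hne rfl, hzero' hk' hne',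
    hzero' hk'' hne'', sub_zero, zero_sub] at e1 e2
  have hnz : ∀ x ∈ t, Cfsg.classInner (f i') (f x) = -Cfsg.classInner (f i) (f k) →
      f x = f i' ∨ f x = -f i' := by
    intro x hx hval
    rcases (hf i' (mem_union_left _ hi')).inner_cases (hf x (mem_union_right _ hx)) with h' | h'
    · exact absurd (by rw [h'] at hval; exact (neg_eq_zero.1 hval.symm)) hk0
    · rcases h' with e | e
      · exact Or.inl e.symm
      · exact Or.inr (by rw [e, neg_neg])
  have v1 : Cfsg.classInner (f i') (f k') = -Cfsg.classInner (f i) (f k) := by linear_combination e1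
  have v2 : Cfsg.classInner (f i') (f k'') = -Cfsg.classInner (f i) (f k) := by linear_combination e2
  have horth := ht k' hk' k'' hk''
  rw [if_neg (Ne.symm hne3)] at horth
  have hn := (hf i' (mem_union_left _ hi')).inner_self
  rcases hnz k' hk' v1 with a | a <;> rcases hnz k'' hk'' v2 with b | b <;>
    simp [a, b, classInner_neg_left, classInner_neg_right, hn] at horth

/-- `(2a+1)^q ≥ 1 + 2qa + 2q(q-1)a² + (q+2)a³` for `q ≥ 3`. -/
theorem pow_lower (a q : ℕ) (hq : 3 ≤ q) :
    1 + 2 * (q : ℤ) * a + 2 * q * (q - 1) * a ^ 2 + (q + 2) * a ^ 3 ≤ (2 * (a : ℤ) + 1) ^ q := by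
  induction q, hq using Nat.le_induction with
  | base =>
    push_cast
    nlinarith [pow_nonneg (Int.natCast_nonneg a) 3]
  | succ n hn ih =>
    have ha : (0 : ℤ) ≤ a := Int.natCast_nonneg a
    have hn' : (3 : ℤ) ≤ n := by exact_mod_cast hn
    rw [pow_succ _ n]
    refine le_trans ?_ (mul_le_mul_of_nonneg_right ih (show (0 : ℤ) ≤ 2 * (a : ℤ) + 1 by linarith))
    push_cast
    have h3 : (0 : ℤ) ≤ (4 * n * (n - 1) - 1) * a ^ 3 :=
      mul_nonneg (by nlinarith) (pow_nonneg ha 3)
    have h4 : (0 : ℤ) ≤ (n + 2) * a ^ 4 := mul_nonneg (by linarith) (pow_nonneg ha 4)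
    nlinarith [h3, h4]

end Cfsg.Agent.OddOrder.PF9
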