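import Cfsg.Agent.OddOrder.PF9.ExceptionCoherent

/-!
# Peterfalvi (9.11): `S(H₀ C')` is coherent
-/

set_option autoImplicit false
set_option linter.style.haveILetI false
set_option linter.unusedSectionVars false

namespace Cfsg.Agent.OddOrder.PF9

open scoped ComplexConjugate
open Cfsg.Agent Cfsg.Agent.CharBasic Cfsg.Agent.CharInduce Finset
open scoped Classical

universe u v

variable {L : Type u} [Group L] [Fintype L] {G : Type v} [Group G] [Fintype G]
  {K H H₀ U W₁ W₂ N₁ : Subgroup L} {p q a : ℕ} {τ : (L → ℂ) → (G → ℂ)}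
  {R : (L → ℂ) → Finset (G → ℂ)} {S : Set (L → ℂ)}

namespace Setting

variable (s : Setting K H H₀ U W₁ W₂ p q)
  (hS : Cfsg.IsCoherenceSystem S τ R) (hsub : ↑(calS K H (A₀ K H H₀)) ⊆ S)
  (hext : Cfsg.IsLinearIsometryOn (suppGen K H) τ)

include s hS hsub hext

/-- Peterfalvi (9.11), non-Galois case. -/
theorem coherent_nonGalois (hl : Lines H H₀ U W₁ N₁ p a) :
    Cfsg.IsCoherent (↑(calS K H (A₀ K H H₀)) : Set (L → ℂ)) ({1}ᶜ : Set L) τ := by
  set S0 := calS K H (A₀ K H H₀) with hS0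
  set u := (sectionCent H H₀).relIndex U with hu
  set I := (⁅U, U⁆ : Subgroup L).relIndex U with hIdef
  set T := S0.filter fun φ : L → ℂ => Cfsg.IsIrrCharacter L φ ∧ φ 1 = ((q * a : ℕ) : ℂ) with hT
  set T₀ := lineInd K H H₀ W₁ N₁ ⁅U, U⁆ with hT₀
  obtain ⟨hcard, hT₀sub, hT₀spec⟩ := s.lineInd_spec hl
    ((s.derived_le_C hl).trans ((s.C_le_lineCent hl W₁.one_mem).trans (s.U₁_eq hl).le))
    (Subgroup.commutator_mono inf_le_left inf_le_left)
    (Subgroup.le_normalizer_iff_commutator_le_right.2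
      (Subgroup.commutator_mono le_rfl (Subgroup.commutator_le_self U)))
  have hsubT : T₀ ⊆ T := fun φ hφ => Finset.mem_filter.2 ⟨hT₀sub hφ, hT₀spec φ hφ⟩
  have hTS : T ⊆ S0 := Finset.filter_subset _ _
  have hTspec : ∀ φ ∈ T, Cfsg.IsIrrCharacter L φ ∧ φ 1 = ((q * a : ℕ) : ℂ) := fun φ hφ =>
    (Finset.mem_filter.1 hφ).2
  have hTc : ∀ φ ∈ T, Cfsg.conjFun φ ∈ T := fun φ hφ =>
    Finset.mem_filter.2 ⟨calS_conj (hTS hφ), IsIrr.conj (hTspec φ hφ).1, by
      show conj (φ 1) = _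
      rw [(hTspec φ hφ).2, Complex.conj_natCast]⟩
  have ha1 := s.one_lt_a hl
  have hp2 := s.two_lt_p
  have hau := s.a_dvd_u hl
  have hupos : 0 < u := Nat.pos_of_ne_zero Subgroup.FiniteIndex.index_ne_zero
  have hI : u ≤ I := by
    rw [hu, hIdef, ← s.index_C hl]
    exact Subgroup.relIndex_le_of_le_left (s.derived_le_C hl) Subgroup.FiniteIndex.index_ne_zero
  -- `p - 1 = a k` with `k ≥ 2`
  obtain ⟨k, hk⟩ := s.a_dvd_pred hl
  have hk2 : 2 ≤ k := by
    have hpodd : Odd p := s.p_prime.odd_of_ne_two (by omega)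
    have haodd : Odd a := by
      refine s.odd.of_dvd_nat ?_
      rw [← hl.index_U₁]
      exact (Subgroup.relIndex_dvd_card _ _).trans (Subgroup.card_subgroup_dvd_card U)
    rcases Nat.lt_or_ge k 2 with h | h
    · interval_cases k
      · rw [mul_zero] at hk; omega
      · rw [mul_one] at hk
        obtain ⟨i, hi⟩ := hpodd
        obtain ⟨j, hj⟩ := haodd
        omega
    · exact h
  have hT₀ne : T₀.Nonempty := by
    refine Finset.card_pos.1 (Nat.pos_of_ne_zero fun h0 => ?_)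
    rw [h0, zero_mul] at hcard
    rcases mul_eq_zero.1 hcard.symm with h | h
    · omega
    · exact absurd h Subgroup.FiniteIndex.index_ne_zero
  obtain ⟨χ₁, hχ₁⟩ := hT₀ne
  have hTcoh := PF6.coherent_const_degree hS (T := (↑T : Set (L → ℂ)))
    ((Finset.coe_subset.2 hTS).trans hsub) ⟨χ₁, hsubT hχ₁⟩ hTc
    fun φ hφ ψ hψ => by rw [(hTspec φ hφ).2, (hTspec ψ hψ).2]
  have hW : ∑ φ ∈ T, PF6.weight φ = (T.card : ℝ) * ((q * a : ℕ) : ℝ) ^ 2 := by
    rw [sum_congr rfl fun φ hφ => weight_of_irr (hTspec φ hφ).1 (hTspec φ hφ).2, sum_const,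
      nsmul_eq_mul]
  by_cases hbig : 2 * (q * u) * (q * a) < T.card * (q * a) ^ 2
  · refine s.coherent_of_big hS hsub hl hTS hTc hTcoh (hsubT hχ₁) (hT₀spec χ₁ hχ₁).2 ?_
    rw [hW]
    exact_mod_cast hbig
  -- otherwise `p = 2 a + 1`, `|U : U'| = u` and `T = T₀`
  have hqpos := s.q_prime.pos
  have hle : T.card * a ^ 2 ≤ 2 * u * a := by
    refine Nat.le_of_mul_le_mul_left (?_ : q ^ 2 * (T.card * a ^ 2) ≤ q ^ 2 * (2 * u * a)) (pow_pos hqpos 2)
    have := not_lt.1 hbig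
    calc q ^ 2 * (T.card * a ^ 2) = T.card * (q * a) ^ 2 := by ring
      _ ≤ 2 * (q * u) * (q * a) := this
      _ = q ^ 2 * (2 * u * a) := by ring
  have hcardle : T₀.card ≤ T.card := card_le_card hsubT
  have h0 : a * k * I ≤ 2 * u * a := by
    rw [← hk, ← hcard]
    exact (Nat.mul_le_mul_right _ hcardle).trans hle
  have hkI : k * I ≤ 2 * u := Nat.le_of_mul_le_mul_left
    (by rw [← mul_assoc, mul_comm a (2 * u)]; exact h0) (by omega)
  have hIu : I = u := le_antisymm (Nat.le_of_mul_le_mul_left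
    ((Nat.mul_le_mul_right I hk2).trans hkI) two_pos) hI
  have hk' : k = 2 := le_antisymm (Nat.le_of_mul_le_mul_right (hIu ▸ hkI) hupos) hk2
  have hpa : p - 1 = 2 * a := by rw [hk, hk', mul_comm]
  have hTeq : T₀ = T := by
    refine eq_of_subset_of_card_le hsubT (Nat.le_of_mul_le_mul_right ?_ (pow_pos (by omega : 0 < a) 2))
    rw [hcard, hpa, show (⁅U, U⁆ : Subgroup L).relIndex U = u from hIu]
    exact hle.trans_eq (by ring)
  have hWeq : ∑ φ ∈ T, PF6.weight φ = (2 * (q * u : ℕ) * (q * a : ℕ) : ℝ) := by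
    rw [hW, ← hTeq]
    have h : T₀.card * (q * a) ^ 2 = 2 * (q * u) * (q * a) := by
      rw [show T₀.card * (q * a) ^ 2 = q ^ 2 * (T₀.card * a ^ 2) by ring, hcard, hpa,
        show (⁅U, U⁆ : Subgroup L).relIndex U = u from hIu]
      ring
    exact_mod_cast h
  by_cases hsmall : ∃ χ ∈ S0, χ ∉ T ∧ χ 1 ≠ ((q * u : ℕ) : ℂ)
  · obtain ⟨χ, hχS, hχT, hχu⟩ := hsmall
    obtain ⟨d, hd0, hdu, hd, -⟩ := s.member_cases le_rfl hχS
    have hdlt : d < u := lt_of_le_of_ne (Nat.le_of_dvd hupos hdu) fun e => hχu (by rw [hd, e])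
    have had : a ∣ d := by
      obtain ⟨θ, hθ, rfl⟩ := mem_calS.1 hχS
      obtain ⟨e, -, he⟩ := CharBasic.IsIrr.exists_degree θ.2
      rw [indFun_one, he, s.hyp.index_eq, s.card_W₁, ← Nat.cast_mul] at hd
      rw [← Nat.eq_of_mul_eq_mul_left hqpos (Nat.cast_injective hd)]
      exact s.a_dvd_degree hl le_rfl hθ he
    have hlt : (2 * (q * d : ℕ) * (q * a : ℕ) : ℝ) < ∑ φ ∈ T, PF6.weight φ := by
      rw [hWeq]
      have hn : q * d < q * u := Nat.mul_lt_mul_of_pos_left hdlt hqpos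
      have hpos : 0 < q * a := Nat.mul_pos hqpos (by omega)
      exact_mod_cast Nat.mul_lt_mul_of_pos_right (Nat.mul_lt_mul_of_pos_left hn two_pos) hpos
    have hcoh' := PF6.coherent_insert_pair hS ((Finset.coe_subset.2 hTS).trans hsub) hTc hTcoh
      (hsub hχS) hχT (hsubT hχ₁) (hT₀spec χ₁ hχ₁).2 hd (mul_dvd_mul_left q had) hlt
    refine s.coherent_of_big hS hsub hl (T := insert χ (insert (Cfsg.conjFun χ) T))
      (Finset.insert_subset hχS (Finset.insert_subset (calS_conj hχS) hTS)) ?_ hcoh'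
      (mem_insert_of_mem (mem_insert_of_mem (hsubT hχ₁))) (hT₀spec χ₁ hχ₁).2 ?_
    · intro φ hφ
      simp only [Finset.mem_insert] at hφ ⊢
      rcases hφ with rfl | rfl | hφ
      · exact Or.inr (Or.inl rfl)
      · exact Or.inl (H43.conjFun_conjFun χ)
      · exact Or.inr (Or.inr (hTc φ hφ))
    · refine lt_of_lt_of_le ?_ (sum_le_sum_of_subset_of_nonneg
        (Finset.insert_subset (mem_insert_self _ _) (fun φ hφ =>
          mem_insert_of_mem (mem_insert_of_mem hφ)) :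
          insert χ T ⊆ insert χ (insert (Cfsg.conjFun χ) T)) fun φ _ _ => PF6.weight_nonneg φ)
      rw [sum_insert hχT, hWeq]
      linarith [weight_pos hd (Nat.mul_pos hqpos hd0)]
  push Not at hsmall
  rcases eq_or_lt_of_le (Nat.le_of_dvd hupos hau) with he | hlt
  · refine PF6.coherent_const_degree hS hsub (s.calS_nonempty s.A₀_le_HC) (fun φ hφ => calS_conj hφ)
      fun φ hφ ψ hψ => ?_
    have key : ∀ φ ∈ S0, φ 1 = ((q * u : ℕ) : ℂ) := fun φ hφ => by
      by_cases hm : φ ∈ T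
      · rw [(hTspec φ hm).2, he]
      · exact hsmall φ hφ hm
    rw [key φ hφ, key ψ hψ]
  have hTmem : ∀ φ ∈ S0, Cfsg.IsIrrCharacter L φ → φ 1 = ((q * a : ℕ) : ℂ) → φ ∈ T₀ :=
    fun φ hφ hi hd => hTeq ▸ Finset.mem_filter.2 ⟨hφ, hi, hd⟩
  have hdeg : ∀ φ ∈ S0, φ ∉ T₀ → φ 1 = ((q * u : ℕ) : ℂ) := fun φ hφ hm =>
    hsmall φ hφ (hTeq ▸ hm)
  obtain ⟨c, ex, hc⟩ := s.exceptional hl hpa hIu hlt hTmem hdeg
  obtain ⟨hcoh, hYne⟩ := s.exception_coherent hS hsub hext hl ex hTmem hdeg hc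
  set Y := S0.filter fun φ : L → ℂ => Cfsg.IsIrrCharacter L φ ∧ φ 1 = ((q * u : ℕ) : ℂ)
  have hdisj : Disjoint T₀ Y := Finset.disjoint_left.2 fun φ h h' => by
    have e := (hT₀spec φ h).2.symm.trans (Finset.mem_filter.1 h').2.2
    exact hlt.ne (Nat.eq_of_mul_eq_mul_left hqpos (Nat.cast_injective e))
  refine s.coherent_of_big hS hsub hl (T := T₀ ∪ Y)
    (Finset.union_subset hT₀sub (Finset.filter_subset _ _)) ?_ hcoh (mem_union_left _ hχ₁)
    (hT₀spec χ₁ hχ₁).2 ?_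
  · intro φ hφ
    rcases Finset.mem_union.1 hφ with h | h
    · exact mem_union_left _ (hTeq ▸ hTc φ (hsubT h))
    · refine mem_union_right _ (Finset.mem_filter.2 ⟨calS_conj (Finset.mem_filter.1 h).1,
        IsIrr.conj (Finset.mem_filter.1 h).2.1, ?_⟩)
      show conj (φ 1) = _
      rw [(Finset.mem_filter.1 h).2.2, Complex.conj_natCast]
  · rw [sum_union hdisj, hTeq, hWeq]
    have hpos : 0 < ∑ φ ∈ Y, PF6.weight φ := Finset.sum_pos (fun φ hφ =>
      weight_pos (Finset.mem_filter.1 hφ).2.2 (Nat.mul_pos hqpos hupos)) hYne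
    linarith

/-- Peterfalvi (9.11). -/
theorem coherent_core
    (hcase : (∀ B : Subgroup L, H₀ ≤ B → B ≤ H → U ≤ Subgroup.normalizer (B : Set L) →
        B = H₀ ∨ B = H) ∨ ∃ N₁ a, Lines H H₀ U W₁ N₁ p a) :
    Cfsg.IsCoherent (↑(calS K H (A₀ K H H₀)) : Set (L → ℂ)) ({1}ᶜ : Set L) τ := by
  rcases hcase with h | ⟨N₁, a, hl⟩
  · exact s.coherent_galois hS hsub h
  · exact s.coherent_nonGalois hS hsub hext hl

end Setting

end Cfsg.Agent.OddOrder.PF9
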