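import Cfsg.Agent.OddOrder.PF9.Fixed

/-!
# Support of the members of `S(A)`

An irreducible character nontrivial on the normal subgroup `H` vanishes at the elements which
centralise no nontrivial element of `H`; so the members of `S(A)` live on the elements of `K` with
`C_H(x) ≠ 1`.
-/

set_option autoImplicit false
set_option linter.style.haveILetI false
set_option linter.unusedSectionVars false

namespace Cfsg.Agent.OddOrder.PF9

open scoped ComplexConjugate
open Cfsg.Agent Cfsg.Agent.CharBasic Cfsg.Agent.CharInduce Finset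
open scoped Classical

universe u

theorem irr_vanish {G : Type u} [Group G] [Fintype G] (H : Subgroup G) [H.Normal] {θ : G → ℂ}
    (hθ : Cfsg.IsIrrCharacter G θ) (hne : ∃ a ∈ H, θ a ≠ θ 1) {g : G}
    (hg : ∀ h ∈ H, g * h = h * g → h = 1) : θ g = 0 := by
  let π : G →* G ⧸ H := QuotientGroup.mk' H
  let infl : Cfsg.IrrCharacter (G ⧸ H) → Cfsg.IrrCharacter G := fun χ =>
    ⟨fun x => (χ : G ⧸ H → ℂ) (π x), IsIrr.comp χ.2 π (QuotientGroup.mk'_surjective H)⟩
  have hinj : Function.Injective infl := fun χ χ' e => Subtype.ext (funext fun x => by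
    obtain ⟨y, rfl⟩ := QuotientGroup.mk'_surjective H x
    exact congrFun (congrArg Subtype.val e) y)
  have hnot : (⟨θ, hθ⟩ : Cfsg.IrrCharacter G) ∉ univ.image infl := by
    intro h
    obtain ⟨χ, -, e⟩ := mem_image.1 h
    obtain ⟨a, ha, hne⟩ := hne
    apply hne
    have e' : θ = fun x => (χ : G ⧸ H → ℂ) (π x) := (congrArg Subtype.val e).symm
    rw [e']
    show (χ : G ⧸ H → ℂ) (π a) = (χ : G ⧸ H → ℂ) (π 1)
    rw [show π a = 1 from (QuotientGroup.eq_one_iff a).2 ha, map_one]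
  have hcard : Nat.card (Subgroup.centralizer ({g} : Set G))
      ≤ Nat.card (Subgroup.centralizer ({π g} : Set (G ⧸ H))) := by
    refine Nat.card_le_card_of_injective (fun c => ⟨π c, ?_⟩) fun c d e => ?_
    · rw [Subgroup.mem_centralizer_singleton_iff, ← map_mul, ← map_mul,
        Subgroup.mem_centralizer_singleton_iff.1 c.2]
    · have e' : π c = π d := congrArg Subtype.val e
      have hmem : (c : G)⁻¹ * d ∈ H := QuotientGroup.eq.1 e'
      have hcen : ((c : G)⁻¹ * d) ∈ Subgroup.centralizer ({g} : Set G) :=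
        mul_mem (inv_mem c.2) d.2
      have := hg _ hmem (Subgroup.mem_centralizer_singleton_iff.1 hcen).symm
      exact Subtype.ext (inv_mul_eq_one.1 this)
  have hterm : ∀ χ : Cfsg.IrrCharacter G,
      (χ : G → ℂ) g * conj ((χ : G → ℂ) g) = ((‖(χ : G → ℂ) g‖ ^ 2 : ℝ) : ℂ) := fun χ => by
    rw [Complex.mul_conj', Complex.ofReal_pow]
  have hG := CharBasic.second_orthogonality_self (G := G) g
  haveI : Fintype (G ⧸ H) := Fintype.ofFinite _
  have hQ := CharBasic.second_orthogonality_self (G := G ⧸ H) (π g)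
  rw [Finset.sum_congr rfl fun χ _ => hterm χ, ← Complex.ofReal_sum, ← Complex.ofReal_natCast,
    Complex.ofReal_inj] at hG
  rw [Finset.sum_congr rfl fun χ _ => show _ = ((‖(infl χ : G → ℂ) g‖ ^ 2 : ℝ) : ℂ) from
      hterm (infl χ), ← Complex.ofReal_sum, ← Complex.ofReal_natCast, Complex.ofReal_inj] at hQ
  have hle : ∑ χ ∈ insert (⟨θ, hθ⟩ : Cfsg.IrrCharacter G) (univ.image infl),
      ‖(χ : G → ℂ) g‖ ^ 2 ≤ ∑ χ : Cfsg.IrrCharacter G, ‖(χ : G → ℂ) g‖ ^ 2 :=
    sum_le_sum_of_subset_of_nonneg (subset_univ _) fun _ _ _ => sq_nonneg _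
  rw [sum_insert hnot, sum_image fun a _ b _ e => hinj e, hQ, hG] at hle
  have hc : (Nat.card (Subgroup.centralizer ({g} : Set G)) : ℝ)
      ≤ (Nat.card (Subgroup.centralizer ({π g} : Set (G ⧸ H))) : ℝ) := by exact_mod_cast hcard
  have h0 : ‖θ g‖ ^ 2 ≤ 0 := by linarith
  exact norm_eq_zero.1 (pow_eq_zero_iff two_ne_zero |>.1 (le_antisymm h0 (sq_nonneg _)))

variable {L : Type u} [Group L] [Fintype L]

/-- The elements of `K` other than `1` centralising a nontrivial element of `H`. -/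
def coreSupp (K H : Subgroup L) : Set L :=
  {g | g ∈ K ∧ g ≠ 1 ∧ ∃ h ∈ H, h ≠ 1 ∧ g * h = h * g}

theorem calS_vanish {K H A : Subgroup L} [K.Normal] [H.Normal] {φ : L → ℂ}
    (hφ : φ ∈ calS K H A) {g : L} (hg : g ∉ coreSupp K H) (hg1 : g ≠ 1) : φ g = 0 := by
  obtain ⟨θ, hθ, rfl⟩ := mem_calS.1 hφ
  by_cases hgK : g ∈ K
  · have h0 : ∀ x : L, CharInduce.conjFun K (θ : K → ℂ) x ⟨g, hgK⟩ = 0 := by
      intro x
      show (θ : K → ℂ) _ = 0
      refine irr_vanish (H.subgroupOf K) θ.2 ?_ fun h hh e => ?_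
      · obtain ⟨a, ha, hne⟩ := (mem_thetasS.1 hθ).2
        exact ⟨a, Subgroup.mem_subgroupOf.2 ha, hne⟩
      · have e' : x * g * x⁻¹ * (h : L) = h * (x * g * x⁻¹) := congrArg Subtype.val e
        by_contra hne
        refine hg ⟨hgK, hg1, x⁻¹ * h * x, ?_, fun h1 => hne (Subtype.ext ?_), ?_⟩
        · simpa using Subgroup.Normal.conj_mem ‹H.Normal› _ (Subgroup.mem_subgroupOf.1 hh) x⁻¹
        · have := congrArg (fun z => x * z * x⁻¹) h1
          simpa [mul_assoc] using this
        · calc g * (x⁻¹ * (h : L) * x) = x⁻¹ * (x * g * x⁻¹ * h) * x := by group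
            _ = x⁻¹ * h * x * g := by rw [e']; group
    show Cfsg.indFun K (θ : K → ℂ) ((⟨g, hgK⟩ : K) : L) = 0
    rw [indFun_normal_coe, Finset.sum_eq_zero fun x _ => h0 x, mul_zero]
  · exact indFun_eq_zero_of_normal K _ hgK

theorem zspan_vanish {K H A : Subgroup L} [K.Normal] [H.Normal] {α : L → ℂ}
    (hα : α ∈ Cfsg.zspanOn (↑(calS K H A) : Set (L → ℂ)) ({1}ᶜ : Set L)) {g : L}
    (hg : g ∉ coreSupp K H) : α g = 0 := by
  by_cases hg1 : g = 1
  · exact hg1 ▸ hα.2 1 (by simp)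
  obtain ⟨h, -⟩ := hα
  induction h using Submodule.span_induction with
  | mem f hf => exact calS_vanish hf hg hg1
  | zero => rfl
  | add f f' _ _ ih ih' => rw [Pi.add_apply, ih, ih', add_zero]
  | smul n f _ ih => rw [Pi.smul_apply, ih, smul_zero]

end Cfsg.Agent.OddOrder.PF9
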