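import Cfsg.Agent.OddOrder.PF9.Count
import Cfsg.Agent.OddOrder.PF9.Support
import Cfsg.Agent.OddOrder.PF6.System

/-!
# Peterfalvi (9.11): coherence of `S(H₀ C')`, the generic arguments

The Galois case, and the closure from a coherent subset of large weight.
-/

set_option autoImplicit false
set_option linter.style.haveILetI false
set_option linter.unusedSectionVars false

namespace Cfsg.Agent.OddOrder.PF9

open scoped ComplexConjugate
open Cfsg.Agent Cfsg.Agent.CharBasic Cfsg.Agent.CharInduce Finset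
open scoped Classical

universe u v

variable {L : Type u} [Group L] [Fintype L] {G : Type v} [Group G] [Fintype G]
  {K H H₀ U W₁ W₂ N₁ : Subgroup L} {p q a : ℕ} {τ : (L → ℂ) → (G → ℂ)}
  {R : (L → ℂ) → Finset (G → ℂ)} {S : Set (L → ℂ)}

/-- The weight of an irreducible character. -/
theorem weight_of_irr {φ : L → ℂ} (h : Cfsg.IsIrrCharacter L φ) {d : ℕ} (hd : φ 1 = d) :
    PF6.weight φ = (d : ℝ) ^ 2 := by
  rw [PF6.weight, classInner_irr_self h, hd]
  simp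

theorem weight_pos {φ : L → ℂ} {d : ℕ} (hd : φ 1 = d) (hd0 : 0 < d) : 0 < PF6.weight φ := by
  have hne : φ ≠ 0 := fun e => by
    rw [e, Pi.zero_apply] at hd
    exact hd0.ne' (by exact_mod_cast hd.symm)
  have hc : Cfsg.classInner φ φ ≠ 0 := fun e => hne (classInner_self_eq_zero.1 e)
  rw [PF6.weight, hd]
  refine div_pos (by simp [hd0]) (lt_of_le_of_ne ?_ ?_)
  · rw [CharBasic.classInner_self_eq, Complex.ofReal_re]; positivity
  · intro e
    apply hc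
    rw [CharBasic.classInner_self_eq, Complex.ofReal_eq_zero]
    rw [CharBasic.classInner_self_eq, Complex.ofReal_re] at e
    exact e.symm

namespace Setting

variable (s : Setting K H H₀ U W₁ W₂ p q)

include s

/-- A member is irreducible of degree `q d`, `d ∣ u`, or has degree `q u` and norm `q`. -/
theorem member_cases {A : Subgroup L} (hA : A₀ K H H₀ ≤ A) {φ : L → ℂ} (hφ : φ ∈ calS K H A) :
    ∃ d : ℕ, 0 < d ∧ d ∣ (sectionCent H H₀).relIndex U ∧ φ 1 = ((q * d : ℕ) : ℂ) ∧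
      (Cfsg.IsIrrCharacter L φ ∨
        (d = (sectionCent H H₀).relIndex U ∧ Cfsg.classInner φ φ = (q : ℂ) ∧
          ¬ Cfsg.IsIrrCharacter L φ)) := by
  haveI := s.K_normal
  obtain ⟨θ, hθ, rfl⟩ := mem_calS.1 hφ
  obtain ⟨d, hd0, hd⟩ := CharBasic.IsIrr.exists_degree θ.2
  have hdu := s.degree_dvd hA hθ hd
  refine ⟨d, hd0, hdu, by rw [indFun_one, hd, s.hyp.index_eq, s.card_W₁, Nat.cast_mul], ?_⟩
  rcases s.indFun_cases ((le_sup_left).trans hA) hθ with h | ⟨hm, -, hn, hi, -⟩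
  · exact Or.inl h.2
  · exact Or.inr ⟨Nat.cast_injective (R := ℂ) (hd.symm.trans (s.fixedS_degree hm)), hn, hi⟩

/-- There are reducible members. -/
theorem calS_nonempty {A : Subgroup L} (hA : A ≤ H₀ ⊔ U ⊓ sectionCent H H₀) :
    (calS K H A).Nonempty := by
  haveI := s.K_normal
  have hc := s.card_fixedS
  rw [← s.fixedS_HC] at hc
  obtain ⟨θ, hθ⟩ := Finset.card_pos.1 (by have := s.p_prime.two_le; omega :
    0 < (fixedS K H W₁ (H₀ ⊔ U ⊓ sectionCent H H₀)).card)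
  exact ⟨_, calS_mono hA (mem_calS.2 ⟨θ, (Finset.mem_filter.1 hθ).1, rfl⟩)⟩

variable (hS : Cfsg.IsCoherenceSystem S τ R) (hsub : ↑(calS K H (A₀ K H H₀)) ⊆ S)

include hS hsub

/-- Peterfalvi (9.11), Galois case. -/
theorem coherent_galois
    (hgal : ∀ B : Subgroup L, H₀ ≤ B → B ≤ H → U ≤ Subgroup.normalizer (B : Set L) → B = H₀ ∨ B = H) :
    Cfsg.IsCoherent (↑(calS K H (A₀ K H H₀)) : Set (L → ℂ)) ({1}ᶜ : Set L) τ := by
  refine PF6.coherent_const_degree hS hsub (s.calS_nonempty s.A₀_le_HC) (fun φ hφ => calS_conj hφ)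
    fun φ hφ ψ hψ => ?_
  obtain ⟨θ, hθ, rfl⟩ := mem_calS.1 hφ
  obtain ⟨θ', hθ', rfl⟩ := mem_calS.1 hψ
  rw [indFun_one, indFun_one, s.degree_galois hgal le_rfl hθ, s.degree_galois hgal le_rfl hθ']

variable (hl : Lines H H₀ U W₁ N₁ p a)

include hl

/-- A coherent part of weight above `2 (q u) (q a)` extends to the whole of `S(H₀ C')`. -/
theorem coherent_of_big {T : Finset (L → ℂ)} (hT : T ⊆ calS K H (A₀ K H H₀))
    (hTc : ∀ φ ∈ T, Cfsg.conjFun φ ∈ T)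
    (hcoh : Cfsg.IsCoherent (↑T : Set (L → ℂ)) ({1}ᶜ : Set L) τ) {χ₁ : L → ℂ} (hχ₁ : χ₁ ∈ T)
    (h1 : χ₁ 1 = ((q * a : ℕ) : ℂ))
    (hbig : (2 * (q * (sectionCent H H₀).relIndex U : ℕ) * (q * a : ℕ) : ℝ)
      < ∑ φ ∈ T, PF6.weight φ) :
    Cfsg.IsCoherent (↑(calS K H (A₀ K H H₀)) : Set (L → ℂ)) ({1}ᶜ : Set L) τ := by
  refine PF6.coherent_of_step hS (calS K H (A₀ K H H₀)) hsub (s.calS_nonempty s.A₀_le_HC)
    (fun φ hφ => calS_conj hφ) T ((Finset.coe_subset.2 hT).trans hsub) hTc hcoh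
    fun T' hTT' hT'S hT'c hT'coh hne => ?_
  obtain ⟨χ, hχ⟩ := hne
  refine ⟨χ, hχ, ?_⟩
  rw [Finset.mem_sdiff] at hχ
  obtain ⟨d, hd0, hdu, hd, -⟩ := s.member_cases le_rfl hχ.1
  have had : a ∣ d := by
    obtain ⟨θ, hθ, rfl⟩ := mem_calS.1 hχ.1
    obtain ⟨e, -, he⟩ := CharBasic.IsIrr.exists_degree θ.2
    rw [indFun_one, he, s.hyp.index_eq, s.card_W₁, ← Nat.cast_mul] at hd
    rw [← Nat.eq_of_mul_eq_mul_left s.q_prime.pos (Nat.cast_injective hd)]
    exact s.a_dvd_degree hl le_rfl hθ he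
  refine PF6.coherent_insert_pair hS hT'S hT'c hT'coh (hsub hχ.1) hχ.2 (hTT' hχ₁) h1 hd
    (mul_dvd_mul_left q had) ?_
  refine lt_of_le_of_lt ?_ (hbig.trans_le
    (sum_le_sum_of_subset_of_nonneg hTT' fun φ _ _ => PF6.weight_nonneg φ))
  have hle : q * d ≤ q * (sectionCent H H₀).relIndex U := Nat.mul_le_mul_left _
    (Nat.le_of_dvd (Nat.pos_of_ne_zero Subgroup.FiniteIndex.index_ne_zero) hdu)
  have : ((q * d : ℕ) : ℝ) ≤ ((q * (sectionCent H H₀).relIndex U : ℕ) : ℝ) := by exact_mod_cast hle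
  have hqa : (0 : ℝ) ≤ ((q * a : ℕ) : ℝ) := Nat.cast_nonneg _
  nlinarith

end Setting

end Cfsg.Agent.OddOrder.PF9
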