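import Cfsg.Agent.OddOrder.PF9.NonGalois

/-!
# Peterfalvi (9.8) (b): irreducible members of degree `q a`

For `D` between `C_U(N₁/H₀)'` and `C_U(N₁/H₀)`, normal in `U`, the characters of `K` trivial on
`R = (other lines) D` and nontrivial on `H` have degree `a`, number `(p-1) |U:D| / a²`, and induce
distinct irreducible characters of degree `q a`.
-/

set_option autoImplicit false
set_option linter.style.haveILetI false
set_option linter.unusedSectionVars false

namespace Cfsg.Agent.OddOrder.PF9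

open scoped ComplexConjugate
open scoped commutatorElement
open Cfsg.Agent Cfsg.Agent.CharBasic Cfsg.Agent.CharInduce Subgroup Finset H43
open scoped Classical

universe u

variable {L : Type u} [Group L] [Fintype L]

/-- `H₀` and the lines other than `N₁`. -/
noncomputable def restLines (H₀ W₁ N₁ : Subgroup L) : Subgroup L :=
  H₀ ⊔ ((univ : Finset W₁).erase 1).sup fun x => line N₁ (x : L)

/-- The characters of `K` trivial on the other lines and on `D`, nontrivial on `H`. -/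
noncomputable def lineThetas (K H H₀ W₁ N₁ D : Subgroup L) : Finset (Cfsg.IrrCharacter K) :=
  thetasS K H (restLines H₀ W₁ N₁ ⊔ D)

/-- The functions induced from `lineThetas`. -/
noncomputable def lineInd (K H H₀ W₁ N₁ D : Subgroup L) : Finset (L → ℂ) :=
  (lineThetas K H H₀ W₁ N₁ D).image fun θ : Cfsg.IrrCharacter K => Cfsg.indFun K (θ : K → ℂ)

variable {K H H₀ U W₁ W₂ N₁ D : Subgroup L} {p q a : ℕ}

theorem H₀_le_restLines : H₀ ≤ restLines H₀ W₁ N₁ := le_sup_left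

theorem line_le_restLines {x : L} (hx : x ∈ W₁) (hx1 : x ≠ 1) :
    line N₁ x ≤ restLines H₀ W₁ N₁ :=
  le_trans (Finset.le_sup (f := fun x : W₁ => line N₁ (x : L)) (b := (⟨x, hx⟩ : W₁))
    (mem_erase.2 ⟨fun e => hx1 (congrArg Subtype.val e), Finset.mem_univ _⟩)) le_sup_right

theorem line_one : line N₁ (1 : L) = N₁ := by
  refine SetLike.ext fun g => ⟨?_, fun hg => Subgroup.mem_map.2 ⟨g, hg, by simp⟩⟩
  intro h
  obtain ⟨b, hb, rfl⟩ := Subgroup.mem_map.1 h
  simpa using hb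

namespace Setting

variable (s : Setting K H H₀ U W₁ W₂ p q) (hl : Lines H H₀ U W₁ N₁ p a)

include s hl

theorem sup_lines_le (t : Finset W₁) : H₀ ⊔ t.sup (fun x => line N₁ (x : L)) ≤ H :=
  sup_le s.le (Finset.sup_le fun x _ => s.line_le hl x)

theorem restLines_le : restLines H₀ W₁ N₁ ≤ H := s.sup_lines_le hl _

theorem restLines_sup : restLines H₀ W₁ N₁ ⊔ N₁ = H := by
  refine le_antisymm (sup_le (s.restLines_le hl) hl.le) (hl.gen.le.trans (iSup_le fun x => ?_))
  by_cases hx : (x : L) = 1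
  · show line N₁ (x : L) ≤ _
    rw [hx, line_one]
    exact le_sup_right
  · exact (line_le_restLines x.2 hx).trans le_sup_left

theorem H_normalizes_above {S : Subgroup L} (h₀ : H₀ ≤ S) (hS : S ≤ H) :
    H ≤ normalizer (S : Set L) :=
  le_normalizer_iff_commutator_le_right.2 ((commutator_mono le_rfl hS).trans (s.comm.trans h₀))

theorem card_sup_lines (t : Finset W₁) :
    H₀.relIndex (H₀ ⊔ t.sup fun x => line N₁ (x : L)) ≤ p ^ t.card := by
  induction t using Finset.induction_on with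
  | empty => simp
  | @insert x t hx ih =>
    have e : H₀ ⊔ (insert x t).sup (fun x => line N₁ (x : L))
        = (H₀ ⊔ t.sup fun x => line N₁ (x : L)) ⊔ line N₁ (x : L) := by
      rw [Finset.sup_insert, sup_comm (line N₁ (x : L)), sup_assoc]
    set S := H₀ ⊔ t.sup fun x => line N₁ (x : L) with hS
    rw [e, ← Subgroup.relIndex_mul_relIndex H₀ S _ le_sup_left le_sup_left,
      relIndex_sup_of_le_normalizer ((s.line_le hl x).trans
        (s.H_normalizes_above hl le_sup_left (s.sup_lines_le hl t))),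
      card_insert_of_notMem hx, pow_succ]
    refine Nat.mul_le_mul ih ?_
    rw [← s.line_index hl x]
    exact Subgroup.relIndex_le_of_le_left le_sup_left Subgroup.FiniteIndex.index_ne_zero

theorem restLines_ne : restLines H₀ W₁ N₁ ≠ H := by
  intro e
  have h := s.card_sup_lines hl ((univ : Finset W₁).erase 1)
  change H₀.relIndex (restLines H₀ W₁ N₁) ≤ _ at h
  rw [e, s.index_H, card_erase_of_mem (Finset.mem_univ _), card_univ, ← Nat.card_eq_fintype_card,
    s.card_W₁] at h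
  exact absurd h (not_le.2 (Nat.pow_lt_pow_right s.p_prime.one_lt
    (Nat.pred_lt s.q_prime.ne_zero)))

theorem U_normalizes_restLines : U ≤ normalizer (restLines H₀ W₁ N₁ : Set L) := by
  haveI := s.H₀_normal
  intro v hv
  refine Coprime.mem_normalizer_of_map_conj ?_
  have key : ∀ t : Finset W₁,
      (t.sup fun x => line N₁ (x : L)).map (MulAut.conj v).toMonoidHom
        = t.sup fun x => line N₁ (x : L) := by
    intro t
    induction t using Finset.induction_on with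
    | empty => simp
    | @insert x t hx ih =>
      rw [Finset.sup_insert, Subgroup.map_sup, ih,
        Coprime.map_conj_eq (s.U_normalizes_line hl x.2 hv)]
  rw [restLines, Subgroup.map_sup, key,
    Coprime.map_conj_eq (by rw [normalizer_eq_top]; exact mem_top v)]

theorem K_normalizes_restLines : K ≤ normalizer (restLines H₀ W₁ N₁ : Set L) := by
  rw [← s.sup]
  exact sup_le (s.H_normalizes_above hl H₀_le_restLines (s.restLines_le hl))
    (s.U_normalizes_restLines hl)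

theorem restLines_index : (restLines H₀ W₁ N₁).relIndex H = p := by
  conv_lhs => rw [← s.restLines_sup hl]
  rw [relIndex_sup_of_le_normalizer (hl.le.trans (s.H_normalizes_above hl H₀_le_restLines
    (s.restLines_le hl))), ← inf_relIndex_right]
  rcases eq_or_eq_of_relIndex_prime s.p_prime hl.index (S := restLines H₀ W₁ N₁ ⊓ N₁)
    (le_inf H₀_le_restLines hl.le₀) inf_le_right with h | h
  · rw [h, hl.index]
  · exfalso
    apply s.restLines_ne hl
    conv_rhs => rw [← s.restLines_sup hl]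
    exact (sup_eq_left.2 (inf_eq_right.1 h)).symm

/-- `C_U(N₁/H₀)` centralises `H` modulo the other lines. -/
theorem comm_restLines {v : L} (hv : v ∈ U ⊓ sectionCent N₁ H₀) {h : L} (hh : h ∈ H) :
    v * h * v⁻¹ * h⁻¹ ∈ restLines H₀ W₁ N₁ := by
  haveI := s.H_normal
  set Rst := restLines H₀ W₁ N₁
  have hn : ∀ x ∈ H, x ∈ normalizer (Rst : Set L) :=
    s.H_normalizes_above hl H₀_le_restLines (s.restLines_le hl)
  let S : Subgroup L :=
    { carrier := {g | g ∈ H ∧ v * g * v⁻¹ * g⁻¹ ∈ Rst}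
      one_mem' := ⟨one_mem _, by simp⟩
      mul_mem' := fun {x y} hx hy => ⟨mul_mem hx.1 hy.1, by
        rw [show v * (x * y) * v⁻¹ * (x * y)⁻¹
          = (v * x * v⁻¹ * x⁻¹) * (x * (v * y * v⁻¹ * y⁻¹) * x⁻¹) by group]
        exact mul_mem hx.2 (Coprime.conj_mem (hn x hx.1) hy.2)⟩
      inv_mem' := fun {x} hx => ⟨inv_mem hx.1, by
        rw [show v * x⁻¹ * v⁻¹ * x⁻¹⁻¹ = x⁻¹ * (v * x * v⁻¹ * x⁻¹)⁻¹ * x by group]
        exact Coprime.conj_mem' (hn x hx.1) (inv_mem hx.2)⟩ }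
  suffices hS : H ≤ S from (hS hh).2
  refine (s.restLines_sup hl).ge.trans (sup_le (fun g hg => ⟨s.restLines_le hl hg, ?_⟩)
    fun g hg => ⟨hl.le hg, H₀_le_restLines (hv.2.2.2 g hg)⟩)
  exact mul_mem (Coprime.conj_mem (s.U_normalizes_restLines hl hv.1) hg) (inv_mem hg)

theorem N_le_K₁ : K ⊓ sectionCent H H₀ ≤ H ⊔ U ⊓ sectionCent N₁ H₀ := by
  haveI := s.H_normal
  haveI := s.H₀_normal
  rw [s.N_eq]
  refine sup_le_sup_left (fun v hv => ⟨hv.1, ?_⟩) H
  exact (mem_sectionCent (hl.U_norm hv.1) (by rw [normalizer_eq_top]; exact mem_top v)).2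
    fun n hn => mem_sectionCent_iff.1 hv.2 n (hl.le hn)

variable (hD1 : D ≤ U ⊓ sectionCent N₁ H₀)
  (hD2 : ⁅U ⊓ sectionCent N₁ H₀, U ⊓ sectionCent N₁ H₀⁆ ≤ D)
  (hD3 : U ≤ normalizer (D : Set L))

section D

include hD1 hD3

theorem K_normalizes_R : K ≤ normalizer ((restLines H₀ W₁ N₁ ⊔ D : Subgroup L) : Set L) := by
  rw [← s.sup]
  refine sup_le (fun h hh => ?_) fun v hv => Coprime.mem_normalizer_of_map_conj ?_
  · refine le_normalizer_iff.2 ?_ hh
    intro g hg x hx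
    have hn := s.K_normalizes_restLines hl (s.H_le hg)
    have hle : (restLines H₀ W₁ N₁ ⊔ D).map (MulAut.conj g).toMonoidHom
        ≤ restLines H₀ W₁ N₁ ⊔ D := by
      rw [Subgroup.map_sup, Coprime.map_conj_eq hn]
      refine sup_le le_sup_left ?_
      rintro _ ⟨d, hd, rfl⟩
      show g * d * g⁻¹ ∈ _
      rw [show g * d * g⁻¹ = (d * g * d⁻¹ * g⁻¹)⁻¹ * d by group]
      exact mul_mem (mem_sup_left (inv_mem (s.comm_restLines hl (hD1 hd) hg))) (mem_sup_right hd)
    exact hle ⟨x, hx, rfl⟩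
  · rw [Subgroup.map_sup, Coprime.map_conj_eq (s.U_normalizes_restLines hl hv),
      Coprime.map_conj_eq (hD3 hv)]

theorem R_inf_H : (restLines H₀ W₁ N₁ ⊔ D) ⊓ H = restLines H₀ W₁ N₁ := by
  refine le_antisymm ?_ (le_inf le_sup_left (s.restLines_le hl))
  rintro g ⟨hg, hgH⟩
  have hg' : g ∈ ((restLines H₀ W₁ N₁ ⊔ D : Subgroup L) : Set L) := hg
  rw [sup_comm, Subgroup.coe_mul_of_left_le_normalizer_right D _
    ((hD1.trans inf_le_left).trans (s.U_normalizes_restLines hl))] at hg'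
  obtain ⟨d, hd, r, hr, rfl⟩ := Set.mem_mul.1 hg'
  have hdH : d ∈ H ⊓ U := ⟨by
    have := H.mul_mem hgH (H.inv_mem (s.restLines_le hl hr))
    simpa using this, (hD1 hd).1⟩
  rw [s.inf, mem_bot] at hdH
  rwa [hdH, one_mul]

theorem HD_relIndex : (H ⊔ D).relIndex K = D.relIndex U := by
  haveI := s.H_normal
  have hn : U ≤ normalizer ((H ⊔ D : Subgroup L) : Set L) := fun v hv => by
    refine Coprime.mem_normalizer_of_map_conj ?_
    rw [Subgroup.map_sup, Coprime.map_conj_eq (by rw [normalizer_eq_top]; exact mem_top v),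
      Coprime.map_conj_eq (hD3 hv)]
  have hDU : D ≤ U := hD1.trans inf_le_left
  have hsup : H ⊔ D ⊔ U = K := by rw [sup_assoc, sup_eq_right.2 hDU, s.sup]
  have hinf : (H ⊔ D) ⊓ U = D := by
    refine le_antisymm ?_ (le_inf le_sup_right hDU)
    rintro g ⟨hg, hgU⟩
    have hg' : g ∈ ((H ⊔ D : Subgroup L) : Set L) := hg
    rw [Subgroup.normal_mul] at hg'
    obtain ⟨h, hh, c, hc, rfl⟩ := Set.mem_mul.1 hg'
    have : h ∈ H ⊓ U := ⟨hh, by
      have := U.mul_mem hgU (U.inv_mem (hDU hc))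
      simpa using this⟩
    rw [s.inf, mem_bot] at this
    rwa [this, one_mul]
  conv_lhs => rw [← hsup]
  rw [relIndex_sup_of_le_normalizer hn, ← inf_relIndex_right, hinf]

/-- `∑ θ(1)² = (p - 1) |U : D|`. -/
theorem sum_sq_lineThetas :
    ∑ θ ∈ lineThetas K H H₀ W₁ N₁ D, (θ : K → ℂ) 1 ^ 2
      = ((p : ℂ) - 1) * (D.relIndex U : ℕ) := by
  set R := restLines H₀ W₁ N₁ ⊔ D with hR
  have hRK : R ≤ K := sup_le ((s.restLines_le hl).trans s.H_le)
    ((hD1.trans inf_le_left).trans s.U_le)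
  have hKR := s.K_normalizes_R hl hD1 hD3
  have hKHR : K ≤ normalizer ((H ⊔ R : Subgroup L) : Set L) := fun g hg => by
    haveI := s.H_normal
    refine Coprime.mem_normalizer_of_map_conj ?_
    rw [Subgroup.map_sup, Coprime.map_conj_eq (by rw [normalizer_eq_top]; exact mem_top g),
      Coprime.map_conj_eq (hKR hg)]
  haveI : (R.subgroupOf K).Normal := normal_subgroupOf_of_le_normalizer hKR
  haveI : ((H ⊔ R).subgroupOf K).Normal := normal_subgroupOf_of_le_normalizer hKHR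
  have hA := PF6.sum_sq_trivial_on (R.subgroupOf K)
  have hB := PF6.sum_sq_trivial_on ((H ⊔ R).subgroupOf K)
  set SA := univ.filter fun χ : Cfsg.IrrCharacter K =>
    ∀ n ∈ R.subgroupOf K, (χ : K → ℂ) n = (χ : K → ℂ) 1
  set SB := univ.filter fun χ : Cfsg.IrrCharacter K =>
    ∀ n ∈ (H ⊔ R).subgroupOf K, (χ : K → ℂ) n = (χ : K → ℂ) 1
  have hsub : SB ⊆ SA := fun χ hχ => Finset.mem_filter.2 ⟨Finset.mem_univ _, fun n hn =>
    (Finset.mem_filter.1 hχ).2 n (mem_subgroupOf.2 (mem_sup_right (mem_subgroupOf.1 hn)))⟩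
  have heq : SA \ SB = lineThetas K H H₀ W₁ N₁ D := by
    ext χ
    simp only [lineThetas, mem_thetasS, Finset.mem_sdiff, SA, SB, Finset.mem_filter, Finset.mem_univ,
      true_and, mem_subgroupOf]
    refine and_congr_right fun hA => ⟨fun h => ?_, fun ⟨b, hb, hne⟩ h => hne (h b (mem_sup_left hb))⟩
    by_contra hno
    push Not at hno
    apply h
    intro n hn
    obtain ⟨Kr, hKrn, hker, -⟩ := CharBasic.IsChar.exists_kernel (CharBasic.IsIrr.isCharacter χ.2)
    have hle : H ⊔ R ≤ Kr.map K.subtype := sup_le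
      (fun g hg => ⟨⟨g, s.H_le hg⟩, (hker _).2 (hno _ hg), rfl⟩)
      fun g hg => ⟨⟨g, hRK hg⟩, (hker _).2 (hA _ hg), rfl⟩
    obtain ⟨m, hm, e⟩ := hle hn
    exact (hker n).1 ((show m = n from Subtype.ext e) ▸ hm)
  rw [← heq, Finset.sum_sdiff_eq_sub hsub, hA, hB]
  show ((R.relIndex K : ℕ) : ℂ) - ((H ⊔ R).relIndex K : ℕ) = _
  have hHR : H ⊔ R = H ⊔ D := by
    rw [hR, ← sup_assoc, sup_eq_left.2 (s.restLines_le hl)]
  have e1 : R.relIndex (H ⊔ R) = p := by
    rw [sup_comm H R, relIndex_sup_of_le_normalizer (s.H_le.trans hKR),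
      ← inf_relIndex_right, s.R_inf_H hl hD1 hD3, s.restLines_index hl]
  rw [← Subgroup.relIndex_mul_relIndex R (H ⊔ R) K le_sup_right (sup_le s.H_le hRK), e1, hHR,
    s.HD_relIndex hl hD1 hD3]
  push_cast
  ring

include hD2

theorem K₁_commutator :
    ⁅H ⊔ U ⊓ sectionCent N₁ H₀, H ⊔ U ⊓ sectionCent N₁ H₀⁆ ≤ restLines H₀ W₁ N₁ ⊔ D := by
  haveI := s.H_normal
  set R := restLines H₀ W₁ N₁ ⊔ D
  haveI : (R.subgroupOf K).Normal :=
    normal_subgroupOf_of_le_normalizer (s.K_normalizes_R hl hD1 hD3)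
  let π := QuotientGroup.mk' (R.subgroupOf K)
  have h1 : ∀ x : K, (x : L) ∈ R → π x = 1 := fun x hx =>
    (QuotientGroup.eq_one_iff x).2 (mem_subgroupOf.2 hx)
  have comm : ∀ x y : K, ⁅(x : L), (y : L)⁆ ∈ R → π x * π y = π y * π x := fun x y hxy => by
    rw [← commutatorElement_eq_one_iff_mul_comm, ← map_commutatorElement]
    exact h1 _ hxy
  rw [commutator_le]
  intro x hx y hy
  rw [← SetLike.mem_coe, Subgroup.normal_mul] at hx hy
  obtain ⟨h, hh, v, hv, rfl⟩ := Set.mem_mul.1 hx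
  obtain ⟨k, hk, w, hw, rfl⟩ := Set.mem_mul.1 hy
  let h' : K := ⟨h, s.H_le hh⟩
  let k' : K := ⟨k, s.H_le hk⟩
  let v' : K := ⟨v, s.U_le hv.1⟩
  let w' : K := ⟨w, s.U_le hw.1⟩
  have hHH : π h' * π k' = π k' * π h' := comm h' k'
    (mem_sup_left (H₀_le_restLines (s.comm (commutator_mem_commutator hh hk))))
  have hvk : π v' * π k' = π k' * π v' := comm v' k'
    (mem_sup_left (by rw [commutatorElement_def]; exact s.comm_restLines hl hv hk))
  have hwh : π w' * π h' = π h' * π w' := comm w' h'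
    (mem_sup_left (by rw [commutatorElement_def]; exact s.comm_restLines hl hw hh))
  have hvw : π v' * π w' = π w' * π v' := comm v' w'
    (mem_sup_right (hD2 (commutator_mem_commutator hv hw)))
  have e : π ⁅h' * v', k' * w'⁆ = 1 := by
    rw [map_commutatorElement, commutatorElement_eq_one_iff_mul_comm, map_mul, map_mul]
    calc π h' * π v' * (π k' * π w') = π h' * (π v' * π k') * π w' := by group
      _ = π h' * π k' * (π v' * π w') := by rw [hvk]; group
      _ = π k' * π h' * (π w' * π v') := by rw [hHH, hvw]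
      _ = π k' * (π h' * π w') * π v' := by group
      _ = π k' * π w' * (π h' * π v') := by rw [← hwh]; group
  exact mem_subgroupOf.1 ((QuotientGroup.eq_one_iff _).1 e)

theorem A₀_le_R : A₀ K H H₀ ≤ restLines H₀ W₁ N₁ ⊔ D :=
  sup_le (H₀_le_restLines.trans le_sup_left) ((commutator_mono (s.N_le_K₁ hl) (s.N_le_K₁ hl)).trans
    (s.K₁_commutator hl hD1 hD2 hD3))

/-- Each member of `lineThetas` has degree `a`. -/
theorem degree_lineThetas {θ : Cfsg.IrrCharacter K} (hθ : θ ∈ lineThetas K H H₀ W₁ N₁ D) :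
    (θ : K → ℂ) 1 = (a : ℂ) := by
  obtain ⟨d, -, hd⟩ := CharBasic.IsIrr.exists_degree θ.2
  have h1 := s.a_dvd_degree hl (s.A₀_le_R hl hD1 hD2 hD3) hθ hd
  set K1 := H ⊔ U ⊓ sectionCent N₁ H₀ with hK1
  have hK1c : ∀ x y : K, x * y * x⁻¹ * y⁻¹ ∈ K1.subgroupOf K := by
    intro x y
    exact mem_subgroupOf.2 (s.N_le_K₁ hl (mem_subgroupOf.1 (s.NK_commutator x y)))
  haveI : (K1.subgroupOf K).Normal := ⟨fun n hn g => by
    have := mul_mem (hK1c g n) hn
    rwa [inv_mul_cancel_right] at this⟩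
  obtain ⟨l, hll, -⟩ := exists_linear_constituent (K1.subgroupOf K) θ.2 fun x hx y hy =>
    (mem_thetasS.1 hθ).1 _ (by
      rw [Subgroup.coe_mul, Subgroup.coe_mul, Subgroup.coe_mul, InvMemClass.coe_inv,
        InvMemClass.coe_inv, ← commutatorElement_def]
      exact s.K₁_commutator hl hD1 hD2 hD3
        (commutator_mem_commutator (mem_subgroupOf.1 hx) (mem_subgroupOf.1 hy)))
  obtain ⟨e, -, he, hdvd, -⟩ := linear_clifford (K1.subgroupOf K) hK1c θ.2 hll
  have hidx : (K1.subgroupOf K).index = a := by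
    have h := s.relIndex_K_lineCent hl W₁.one_mem
    rwa [show lineCent U H₀ N₁ 1 = U ⊓ sectionCent N₁ H₀ from line_one] at h
  rw [hidx, ← Nat.cast_injective (hd.symm.trans he)] at hdvd
  rw [hd, Nat.dvd_antisymm hdvd h1]

/-- Their number. -/
theorem card_lineThetas :
    (lineThetas K H H₀ W₁ N₁ D).card * a ^ 2 = (p - 1) * D.relIndex U := by
  have h := s.sum_sq_lineThetas hl hD1 hD3
  rw [Finset.sum_congr rfl fun θ hθ => by rw [s.degree_lineThetas hl hD1 hD2 hD3 hθ],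
    Finset.sum_const, nsmul_eq_mul] at h
  apply Nat.cast_injective (R := ℂ)
  push_cast [Nat.cast_sub s.p_prime.one_le]
  exact h

theorem trivial_on_N₁_absurd {θ : Cfsg.IrrCharacter K} (hθ : θ ∈ lineThetas K H H₀ W₁ N₁ D)
    (h : ∀ n : K, (n : L) ∈ N₁ → (θ : K → ℂ) n = (θ : K → ℂ) 1) : False := by
  obtain ⟨h1, b, hb, hne⟩ := mem_thetasS.1 hθ
  obtain ⟨Kr, -, hker, -⟩ := CharBasic.IsChar.exists_kernel (CharBasic.IsIrr.isCharacter θ.2)
  have hle : H ≤ Kr.map K.subtype := (s.restLines_sup hl).ge.trans (sup_le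
    (fun g hg => ⟨⟨g, s.H_le (s.restLines_le hl hg)⟩, (hker _).2 (h1 _ (mem_sup_left hg)), rfl⟩)
    fun g hg => ⟨⟨g, s.H_le (hl.le hg)⟩, (hker _).2 (h _ hg), rfl⟩)
  obtain ⟨m, hm, e⟩ := hle hb
  exact hne ((hker b).1 ((show m = b from Subtype.ext e) ▸ hm))

/-- A conjugate by a nontrivial element of `W₁` is never again a member. -/
theorem conj_notMem {θ θ' : Cfsg.IrrCharacter K} (hθ : θ ∈ lineThetas K H H₀ W₁ N₁ D)
    (hθ' : θ' ∈ lineThetas K H H₀ W₁ N₁ D) {w : L} (hw : w ∈ W₁) (hw1 : w ≠ 1)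
    (e : haveI := s.K_normal; (θ' : K → ℂ) = CharInduce.conjFun K (θ : K → ℂ) w) : False := by
  haveI := s.K_normal
  refine s.trivial_on_N₁_absurd hl hD1 hD2 hD3 hθ' fun n hn => ?_
  rw [e]
  show (θ : K → ℂ) ⟨w * (n : L) * w⁻¹, _⟩ = (θ : K → ℂ) ⟨w * ((1 : K) : L) * w⁻¹, _⟩
  rw [(mem_thetasS.1 hθ).1 ⟨w * (n : L) * w⁻¹, Subgroup.Normal.conj_mem s.K_normal _ n.2 w⟩
    (mem_sup_left (line_le_restLines hw hw1 ⟨n, hn, rfl⟩))]
  refine congrArg (θ : K → ℂ) (Subtype.ext ?_)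
  show (1 : L) = w * ((1 : K) : L) * w⁻¹
  rw [OneMemClass.coe_one, mul_one, mul_inv_cancel]

/-- The induced characters. -/
theorem lineInd_spec :
    (lineInd K H H₀ W₁ N₁ D).card * a ^ 2 = (p - 1) * D.relIndex U ∧
      lineInd K H H₀ W₁ N₁ D ⊆ calS K H (A₀ K H H₀) ∧
      ∀ φ ∈ lineInd K H H₀ W₁ N₁ D,
        Cfsg.IsIrrCharacter L φ ∧ φ 1 = ((q * a : ℕ) : ℂ) := by
  haveI := s.K_normal
  obtain ⟨w, hw, hw1⟩ := W₁.bot_or_exists_ne_one.resolve_left s.hyp.ne_bot₁
  have hnf : ∀ θ ∈ lineThetas K H H₀ W₁ N₁ D,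
      ∃ x ∈ W₁, CharInduce.conjFun K (θ : K → ℂ) x ≠ θ := fun θ hθ =>
    ⟨w, hw, fun e => s.conj_notMem hl hD1 hD2 hD3 hθ hθ hw hw1 e.symm⟩
  have hinj : Set.InjOn (fun θ : Cfsg.IrrCharacter K => Cfsg.indFun K (θ : K → ℂ))
      (lineThetas K H H₀ W₁ N₁ D) := by
    intro θ hθ θ' hθ' e
    obtain ⟨x, hx⟩ := PF6.exists_conj_of_indFun_eq K θ.2 θ'.2 e
    obtain ⟨k, hk, y, hy, rfl⟩ := s.hyp.exists_factor_mem x
    rw [← CharInduce.conjFun_mul, (mem_inertia K).1 (le_inertia K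
      (CharBasic.IsIrr.isClassFunction θ.2) hk)] at hx
    by_cases hy1 : y = 1
    · rw [hy1, CharInduce.conjFun_one] at hx
      exact Subtype.ext hx.symm
    · exact (s.conj_notMem hl hD1 hD2 hD3 hθ hθ' hy hy1 hx).elim
  refine ⟨?_, fun φ hφ => ?_, fun φ hφ => ?_⟩
  · rw [lineInd, card_image_of_injOn hinj, s.card_lineThetas hl hD1 hD2 hD3]
  · obtain ⟨θ, hθ, rfl⟩ := Finset.mem_image.1 hφ
    exact mem_calS.2 ⟨θ, thetasS_mono (s.A₀_le_R hl hD1 hD2 hD3) hθ, rfl⟩
  · obtain ⟨θ, hθ, rfl⟩ := Finset.mem_image.1 hφ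
    refine ⟨(s.hyp.induce θ.2).1 (hnf θ hθ), ?_⟩
    rw [indFun_one, s.degree_lineThetas hl hD1 hD2 hD3 hθ, s.hyp.index_eq, s.card_W₁, Nat.cast_mul]

end D

end Setting

end Cfsg.Agent.OddOrder.PF9
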