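import Cfsg.Agent.OddOrder.PF9.Coherence

/-!
# Peterfalvi (9.11): structure of the exceptional configuration

If the insertion criterion is never strict then `U` is abelian, `C = 1`, the centralisers
`C_U(N₁^w / H₀)` are cyclic of order `c` with pairwise trivial intersection with `C_U(N₁/H₀)`,
`3 ≤ c ∣ a`, `p = 2 a + 1` and there are `2 c` characters of degree `q a`.
-/

set_option autoImplicit false
set_option linter.style.haveILetI false
set_option linter.unusedSectionVars false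

namespace Cfsg.Agent.OddOrder.PF9

open scoped ComplexConjugate
open scoped commutatorElement
open Cfsg.Agent Cfsg.Agent.CharBasic Cfsg.Agent.CharInduce Subgroup Finset
open scoped Classical

universe u

variable {L : Type u} [Group L] [Fintype L]

theorem sup_commutator_le {A B R P : Subgroup L} (hA : A ≤ P) (hB : B ≤ P)
    (hP : P ≤ normalizer (R : Set L)) (h1 : ⁅A, A⁆ ≤ R) (h2 : ⁅A, B⁆ ≤ R) (h3 : ⁅B, B⁆ ≤ R) :
    ⁅A ⊔ B, A ⊔ B⁆ ≤ R := by
  haveI : (R.subgroupOf P).Normal := normal_subgroupOf_of_le_normalizer hP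
  let π := QuotientGroup.mk' (R.subgroupOf P)
  have key : ∀ X Y : Subgroup L, X ≤ P → Y ≤ P → ⁅X, Y⁆ ≤ R →
      (X.subgroupOf P).map π ≤ centralizer (((Y.subgroupOf P).map π : Subgroup _) : Set _) := by
    intro X Y hX hY h
    rw [← commutator_eq_bot_iff_le_centralizer, ← Subgroup.map_commutator,
      Subgroup.map_eq_bot_iff, QuotientGroup.ker_mk']
    exact commutator_le.2 fun x hx y hy => mem_subgroupOf.2 (h (by
      rw [← Subgroup.subtype_apply, map_commutatorElement]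
      exact commutator_mem_commutator (mem_subgroupOf.1 hx) (mem_subgroupOf.1 hy)))
  have hS : ((A ⊔ B).subgroupOf P).map π ≤
      centralizer ((((A ⊔ B).subgroupOf P).map π : Subgroup _) : Set _) := by
    rw [subgroupOf_sup hA hB, Subgroup.map_sup]
    refine sup_le (le_centralizer_iff.1 (sup_le (key A A hA hA h1) ?_))
      (le_centralizer_iff.1 (sup_le (key A B hA hB h2) (key B B hB hB h3)))
    exact key B A hB hA (commutator_comm A B ▸ h2)
  intro x hx
  have hxP : x ∈ P := sup_le hA hB (commutator_le_self _ hx)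
  rw [← commutator_eq_bot_iff_le_centralizer, ← Subgroup.map_commutator,
    Subgroup.map_eq_bot_iff, QuotientGroup.ker_mk'] at hS
  have hx' : (⟨x, hxP⟩ : P) ∈ ⁅(A ⊔ B).subgroupOf P, (A ⊔ B).subgroupOf P⁆ := by
    have e : (⁅(A ⊔ B).subgroupOf P, (A ⊔ B).subgroupOf P⁆).map P.subtype = ⁅A ⊔ B, A ⊔ B⁆ := by
      rw [Subgroup.map_commutator, map_subgroupOf_eq_of_le (sup_le hA hB)]
    rw [← e] at hx
    obtain ⟨y, hy, e'⟩ := hx
    exact (show y = ⟨x, hxP⟩ from Subtype.ext e') ▸ hy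
  exact mem_subgroupOf.1 (hS hx')

variable {K H H₀ U W₁ W₂ N₁ : Subgroup L} {p q a : ℕ}

/-- The conclusions in the exceptional configuration. -/
structure Exceptional (H H₀ U W₁ N₁ : Subgroup L) (p a c : ℕ) : Prop where
  cent_bot : U ⊓ sectionCent H H₀ = ⊥
  abelian : ⁅U, U⁆ = ⊥
  card_U₁ : Nat.card ↥(U ⊓ sectionCent N₁ H₀) = c
  card_U : Nat.card U = a * c
  inf_lineCent : ∀ w ∈ W₁, w ≠ 1 → (U ⊓ sectionCent N₁ H₀) ⊓ lineCent U H₀ N₁ w = ⊥
  three_le : 3 ≤ c
  dvd : c ∣ a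
  p_eq : p = 2 * a + 1

/-- `H₀` and the lines other than `N₁` and `N₁^w`. -/
noncomputable def restLines₂ (H₀ W₁ N₁ : Subgroup L) (w : W₁) : Subgroup L :=
  H₀ ⊔ (((univ : Finset W₁).erase 1).erase w).sup fun x => line N₁ (x : L)

namespace Setting

variable (s : Setting K H H₀ U W₁ W₂ p q) (hl : Lines H H₀ U W₁ N₁ p a)

include s hl

theorem U₁_eq : lineCent U H₀ N₁ 1 = U ⊓ sectionCent N₁ H₀ := line_one

theorem U_normalizes_U₁ : U ≤ normalizer ((U ⊓ sectionCent N₁ H₀ : Subgroup L) : Set L) := by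
  rw [← s.U₁_eq hl]
  exact s.U_normalizes_lineCent hl W₁.one_mem

theorem C_le_lineCent {w : L} (hw : w ∈ W₁) : U ⊓ sectionCent H H₀ ≤ lineCent U H₀ N₁ w :=
  fun _v hv => (s.mem_lineCent hl hw hv.1).2 fun n hn => hv.2.2.2 n (s.line_le hl w hn)

/-- `U` normalises `U ⊓ C(H/H₀)`. -/
theorem U_normalizes_C : U ≤ normalizer ((U ⊓ sectionCent H H₀ : Subgroup L) : Set L) := by
  haveI := s.cent_normal
  intro v hv
  refine Coprime.mem_normalizer_of_map_conj ?_
  rw [Subgroup.map_inf _ _ _ (MulAut.conj v).injective, Coprime.map_conj_eq (le_normalizer hv),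
    Coprime.map_conj_eq (by rw [normalizer_eq_top]; exact mem_top v)]

theorem index_C : (U ⊓ sectionCent H H₀).relIndex U = (sectionCent H H₀).relIndex U := by
  rw [inf_comm, inf_relIndex_right]

theorem derived_le_C : ⁅U, U⁆ ≤ U ⊓ sectionCent H H₀ := le_inf (commutator_le_self U) s.derived

section Two

variable (w : W₁) (hw : (w : L) ≠ 1)

include hw

theorem restLines₂_le : restLines₂ H₀ W₁ N₁ w ≤ H := s.sup_lines_le hl _

theorem restLines₂_sup : restLines₂ H₀ W₁ N₁ w ⊔ N₁ ⊔ line N₁ (w : L) = H := by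
  refine le_antisymm (sup_le (sup_le (s.restLines₂_le hl w hw) hl.le) (s.line_le hl w))
    (hl.gen.le.trans (iSup_le fun x => ?_))
  show line N₁ (x : L) ≤ _
  by_cases hx : (x : L) = 1
  · rw [hx, line_one]; exact le_sup_right.trans le_sup_left
  by_cases hxw : x = w
  · rw [hxw]; exact le_sup_right
  refine le_trans ?_ (le_sup_left.trans le_sup_left)
  exact (Finset.le_sup (f := fun x : W₁ => line N₁ (x : L)) (mem_erase.2 ⟨hxw, mem_erase.2
    ⟨fun e => hx (congrArg Subtype.val e), Finset.mem_univ _⟩⟩)).trans le_sup_right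

theorem restLines₂_index : p ^ 2 ≤ (restLines₂ H₀ W₁ N₁ w).relIndex H := by
  have hb := s.card_sup_lines hl (((univ : Finset W₁).erase 1).erase w)
  have hw1 : w ∈ (univ : Finset W₁).erase 1 :=
    mem_erase.2 ⟨fun e => hw (congrArg Subtype.val e), Finset.mem_univ _⟩
  rw [card_erase_of_mem hw1, card_erase_of_mem (Finset.mem_univ _), card_univ,
    ← Nat.card_eq_fintype_card, s.card_W₁] at hb
  have e := Subgroup.relIndex_mul_relIndex H₀ (restLines₂ H₀ W₁ N₁ w) H le_sup_left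
    (s.restLines₂_le hl w hw)
  rw [s.index_H] at e
  by_contra hlt
  rw [not_le] at hlt
  have h3 : H₀.relIndex (restLines₂ H₀ W₁ N₁ w) * (restLines₂ H₀ W₁ N₁ w).relIndex H
      < p ^ (q - 1 - 1) * p ^ 2 :=
    Nat.mul_lt_mul_of_le_of_lt hb hlt (pow_pos s.p_prime.pos _)
  rw [e, ← pow_add] at h3
  have h2q := s.q_prime.two_le
  rw [show q - 1 - 1 + 2 = q by omega] at h3
  exact lt_irrefl _ h3

theorem U_normalizes_restLines₂ : U ≤ normalizer (restLines₂ H₀ W₁ N₁ w : Set L) := by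
  haveI := s.H₀_normal
  intro v hv
  refine Coprime.mem_normalizer_of_map_conj ?_
  have key : ∀ t : Finset W₁,
      (t.sup fun x => line N₁ (x : L)).map (MulAut.conj v).toMonoidHom
        = t.sup fun x => line N₁ (x : L) := by
    intro t
    induction t using Finset.induction_on with
    | empty => simp
    | @insert x t hx ih =>
      rw [Finset.sup_insert, Subgroup.map_sup, ih,
        Coprime.map_conj_eq (s.U_normalizes_line hl x.2 hv)]
  rw [restLines₂, Subgroup.map_sup, key,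
    Coprime.map_conj_eq (by rw [normalizer_eq_top]; exact mem_top v)]

theorem H_normalizes_restLines₂ : H ≤ normalizer (restLines₂ H₀ W₁ N₁ w : Set L) :=
  s.H_normalizes_above hl le_sup_left (s.restLines₂_le hl w hw)

theorem K_normalizes_rest₂C :
    K ≤ normalizer ((restLines₂ H₀ W₁ N₁ w ⊔ U ⊓ sectionCent H H₀ : Subgroup L) : Set L) := by
  haveI := s.HC_normal
  have e : restLines₂ H₀ W₁ N₁ w ⊔ U ⊓ sectionCent H H₀
      = restLines₂ H₀ W₁ N₁ w ⊔ (H₀ ⊔ U ⊓ sectionCent H H₀) := by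
    rw [← sup_assoc, sup_eq_left.2 (show H₀ ≤ restLines₂ H₀ W₁ N₁ w from le_sup_left)]
  rw [e]
  intro g hg
  refine Coprime.mem_normalizer_of_map_conj ?_
  have hn : g ∈ normalizer (restLines₂ H₀ W₁ N₁ w : Set L) :=
    (s.sup ▸ sup_le (s.H_normalizes_restLines₂ hl w hw) (s.U_normalizes_restLines₂ hl w hw) :
      K ≤ normalizer (restLines₂ H₀ W₁ N₁ w : Set L)) hg
  rw [Subgroup.map_sup, Coprime.map_conj_eq hn,
    Coprime.map_conj_eq (by rw [normalizer_eq_top]; exact mem_top g)]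

/-- A character nontrivial on both lines, trivial on the others and on `C`. -/
theorem exists_twoLine :
    ∃ θ : Cfsg.IrrCharacter K,
      (∀ n : K, (n : L) ∈ restLines₂ H₀ W₁ N₁ w ⊔ U ⊓ sectionCent H H₀ →
        (θ : K → ℂ) n = (θ : K → ℂ) 1) ∧
      (∃ n : K, (n : L) ∈ N₁ ∧ (θ : K → ℂ) n ≠ (θ : K → ℂ) 1) ∧
      ∃ n : K, (n : L) ∈ line N₁ (w : L) ∧ (θ : K → ℂ) n ≠ (θ : K → ℂ) 1 := by
  haveI := s.H_normal
  set C := U ⊓ sectionCent H H₀
  set Q := restLines₂ H₀ W₁ N₁ w with hQdef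
  set Rr := Q ⊔ C with hRr
  have hKR := s.K_normalizes_rest₂C hl w hw
  have hQK : Q ≤ K := (s.restLines₂_le hl w hw).trans s.H_le
  have hRK : Rr ≤ K := sup_le hQK (inf_le_left.trans s.U_le)
  by_contra hno
  push Not at hno
  have hN₁n : K ≤ normalizer ((Rr ⊔ N₁ : Subgroup L) : Set L) := by
    have e : Rr ⊔ N₁ = (Q ⊔ N₁) ⊔ C := by rw [hRr, sup_right_comm]
    rw [← s.sup]
    refine sup_le (fun h hh => ?_) fun v hv => ?_
    · refine Coprime.mem_normalizer_of_map_conj ?_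
      rw [e]
      have h1 : h ∈ normalizer ((Q ⊔ N₁ : Subgroup L) : Set L) := s.H_normalizes_above hl
        (le_sup_left.trans le_sup_left) (sup_le (s.restLines₂_le hl w hw) hl.le) hh
      have h2 := Coprime.map_conj_eq (hKR (s.H_le hh))
      rw [Subgroup.map_sup] at h2 ⊢
      rw [Coprime.map_conj_eq h1]
      rw [Coprime.map_conj_eq (s.H_normalizes_restLines₂ hl w hw hh)] at h2
      refine le_antisymm (sup_le le_sup_left ?_) (sup_le le_sup_left ?_)
      · exact le_sup_right.trans (h2.le.trans (sup_le_sup_right le_sup_left _))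
      · exact le_sup_right.trans (h2.ge.trans (sup_le_sup_right le_sup_left _))
    · refine Coprime.mem_normalizer_of_map_conj ?_
      rw [Subgroup.map_sup, Coprime.map_conj_eq (hKR (s.U_le hv)),
        Coprime.map_conj_eq (hl.U_norm hv)]
  have hwn : K ≤ normalizer ((Rr ⊔ line N₁ (w : L) : Subgroup L) : Set L) := by
    have e : Rr ⊔ line N₁ (w : L) = (Q ⊔ line N₁ (w : L)) ⊔ C := by rw [hRr, sup_right_comm]
    rw [← s.sup]
    refine sup_le (fun h hh => ?_) fun v hv => ?_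
    · refine Coprime.mem_normalizer_of_map_conj ?_
      rw [e]
      have h1 : h ∈ normalizer ((Q ⊔ line N₁ (w : L) : Subgroup L) : Set L) :=
        s.H_normalizes_above hl (le_sup_left.trans le_sup_left)
          (sup_le (s.restLines₂_le hl w hw) (s.line_le hl w)) hh
      have h2 := Coprime.map_conj_eq (hKR (s.H_le hh))
      rw [Subgroup.map_sup] at h2 ⊢
      rw [Coprime.map_conj_eq h1]
      rw [Coprime.map_conj_eq (s.H_normalizes_restLines₂ hl w hw hh)] at h2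
      refine le_antisymm (sup_le le_sup_left ?_) (sup_le le_sup_left ?_)
      · exact le_sup_right.trans (h2.le.trans (sup_le_sup_right le_sup_left _))
      · exact le_sup_right.trans (h2.ge.trans (sup_le_sup_right le_sup_left _))
    · refine Coprime.mem_normalizer_of_map_conj ?_
      rw [Subgroup.map_sup, Coprime.map_conj_eq (hKR (s.U_le hv)),
        Coprime.map_conj_eq (s.U_normalizes_line hl w.2 hv)]
  haveI : (Rr.subgroupOf K).Normal := normal_subgroupOf_of_le_normalizer hKR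
  haveI : ((Rr ⊔ N₁).subgroupOf K).Normal := normal_subgroupOf_of_le_normalizer hN₁n
  haveI : ((Rr ⊔ line N₁ (w : L)).subgroupOf K).Normal := normal_subgroupOf_of_le_normalizer hwn
  have h0 := PF6.sum_sq_trivial_on (Rr.subgroupOf K)
  have h1 := PF6.sum_sq_trivial_on ((Rr ⊔ N₁).subgroupOf K)
  have h2 := PF6.sum_sq_trivial_on ((Rr ⊔ line N₁ (w : L)).subgroupOf K)
  have hreal : ∀ (t : Finset (Cfsg.IrrCharacter K)) (n : ℕ),
      ∑ χ ∈ t, (χ : K → ℂ) 1 ^ 2 = (n : ℂ) → ∑ χ ∈ t, ((χ : K → ℂ) 1).re ^ 2 = (n : ℝ) := by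
    intro t n h
    apply Complex.ofReal_injective
    rw [Complex.ofReal_sum, Complex.ofReal_natCast, ← h]
    refine sum_congr rfl fun χ _ => ?_
    obtain ⟨d, -, hd⟩ := CharBasic.IsIrr.exists_degree χ.2
    rw [hd, Complex.natCast_re]
    push_cast
    rfl
  set S0 := univ.filter fun χ : Cfsg.IrrCharacter K =>
    ∀ n ∈ Rr.subgroupOf K, (χ : K → ℂ) n = (χ : K → ℂ) 1
  set S1 := univ.filter fun χ : Cfsg.IrrCharacter K =>
    ∀ n ∈ (Rr ⊔ N₁).subgroupOf K, (χ : K → ℂ) n = (χ : K → ℂ) 1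
  set S2 := univ.filter fun χ : Cfsg.IrrCharacter K =>
    ∀ n ∈ (Rr ⊔ line N₁ (w : L)).subgroupOf K, (χ : K → ℂ) n = (χ : K → ℂ) 1
  have hcover : S0 ⊆ S1 ∪ S2 := by
    intro χ hχ
    obtain ⟨Kr, -, hker, -⟩ := CharBasic.IsChar.exists_kernel (CharBasic.IsIrr.isCharacter χ.2)
    have hR0 : Rr ≤ Kr.map K.subtype := fun g hg =>
      ⟨⟨g, hRK hg⟩, (hker _).2 ((Finset.mem_filter.1 hχ).2 _ (mem_subgroupOf.2 hg)), rfl⟩
    have fin : ∀ B : Subgroup L, B ≤ K → (∀ n : K, (n : L) ∈ B → (χ : K → ℂ) n = (χ : K → ℂ) 1) →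
        ∀ n ∈ (Rr ⊔ B).subgroupOf K, (χ : K → ℂ) n = (χ : K → ℂ) 1 := by
      intro B hB hn n hnm
      have : Rr ⊔ B ≤ Kr.map K.subtype :=
        sup_le hR0 fun g hg => ⟨⟨g, hB hg⟩, (hker _).2 (hn _ hg), rfl⟩
      obtain ⟨m, hm, e⟩ := this (mem_subgroupOf.1 hnm)
      exact (hker n).1 ((show m = n from Subtype.ext e) ▸ hm)
    by_cases hc : ∀ n : K, (n : L) ∈ N₁ → (χ : K → ℂ) n = (χ : K → ℂ) 1
    · exact Finset.mem_union_left _ (Finset.mem_filter.2 ⟨Finset.mem_univ _,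
        fin N₁ (hl.le.trans s.H_le) hc⟩)
    · push Not at hc
      exact Finset.mem_union_right _ (Finset.mem_filter.2 ⟨Finset.mem_univ _,
        fin _ ((s.line_le hl w).trans s.H_le)
          (hno χ (fun n hn => (Finset.mem_filter.1 hχ).2 n (mem_subgroupOf.2 hn)) hc)⟩)
  let f : Cfsg.IrrCharacter K → ℝ := fun χ => ((χ : K → ℂ) 1).re ^ 2
  have hsum : ∑ χ ∈ S0, f χ ≤ ∑ χ ∈ S1, f χ + ∑ χ ∈ S2, f χ := by
    rw [← sum_union_inter (s₁ := S1) (s₂ := S2) (f := f)]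
    exact (sum_le_sum_of_subset_of_nonneg hcover fun χ _ _ => sq_nonneg _).trans
      (le_add_of_nonneg_right (sum_nonneg fun χ _ => sq_nonneg _))
  simp only [f] at hsum
  rw [hreal _ _ h0, hreal _ _ h1, hreal _ _ h2] at hsum
  have hnat : (Rr.subgroupOf K).index ≤
      ((Rr ⊔ N₁).subgroupOf K).index + ((Rr ⊔ line N₁ (w : L)).subgroupOf K).index := by
    exact_mod_cast hsum
  change Rr.relIndex K ≤ (Rr ⊔ N₁).relIndex K + (Rr ⊔ line N₁ (w : L)).relIndex K at hnat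
  -- compare the indices below `H C`
  have hHC : Rr ⊔ H = H ⊔ C := by
    rw [hRr, sup_right_comm, sup_eq_right.2 (s.restLines₂_le hl w hw)]
  have hHCK : H ⊔ C ≤ K := sup_le s.H_le (inf_le_left.trans s.U_le)
  have hR0 : p ^ 2 ≤ Rr.relIndex (H ⊔ C) := by
    rw [← hHC, relIndex_sup_of_le_normalizer (s.H_le.trans hKR), ← inf_relIndex_right]
    have : Rr ⊓ H = Q := by
      refine le_antisymm ?_ (le_inf le_sup_left (s.restLines₂_le hl w hw))
      rintro g ⟨hg, hgH⟩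
      have hg' : g ∈ ((Q ⊔ C : Subgroup L) : Set L) := hg
      rw [sup_comm, Subgroup.coe_mul_of_left_le_normalizer_right C _
        (inf_le_left.trans (s.U_normalizes_restLines₂ hl w hw))] at hg'
      obtain ⟨d, hd, r, hr, rfl⟩ := Set.mem_mul.1 hg'
      have hdH : d ∈ H ⊓ U := ⟨by
        have := H.mul_mem hgH (H.inv_mem (s.restLines₂_le hl w hw hr))
        simpa using this, hd.1⟩
      rw [s.inf, mem_bot] at hdH
      rwa [hdH, one_mul]
    rw [this]
    exact s.restLines₂_index hl w hw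
  have hR1 : (Rr ⊔ N₁).relIndex (H ⊔ C) ≤ p := by
    have e : H ⊔ C = (Rr ⊔ N₁) ⊔ line N₁ (w : L) := by
      conv_lhs => rw [← s.restLines₂_sup hl w hw]
      rw [hRr, ← hQdef]
      ac_rfl
    rw [e, relIndex_sup_of_le_normalizer ((s.line_le hl w).trans (s.H_le.trans hN₁n)),
      ← s.line_index hl (w : L)]
    exact Subgroup.relIndex_le_of_le_left (le_sup_left.trans (le_sup_left.trans le_sup_left))
      Subgroup.FiniteIndex.index_ne_zero
  have hR2 : (Rr ⊔ line N₁ (w : L)).relIndex (H ⊔ C) ≤ p := by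
    have e : H ⊔ C = (Rr ⊔ line N₁ (w : L)) ⊔ N₁ := by
      conv_lhs => rw [← s.restLines₂_sup hl w hw]
      rw [hRr, ← hQdef]
      ac_rfl
    rw [e, relIndex_sup_of_le_normalizer (hl.le.trans (s.H_le.trans hwn)), ← hl.index]
    exact Subgroup.relIndex_le_of_le_left (le_sup_left.trans (le_sup_left.trans le_sup_left))
      Subgroup.FiniteIndex.index_ne_zero
  rw [← Subgroup.relIndex_mul_relIndex Rr (H ⊔ C) K (hHC ▸ le_sup_left) hHCK,
    ← Subgroup.relIndex_mul_relIndex (Rr ⊔ N₁) (H ⊔ C) K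
      (sup_le (hHC ▸ le_sup_left) (hl.le.trans le_sup_left)) hHCK,
    ← Subgroup.relIndex_mul_relIndex (Rr ⊔ line N₁ (w : L)) (H ⊔ C) K
      (sup_le (hHC ▸ le_sup_left) ((s.line_le hl w).trans le_sup_left)) hHCK, ← add_mul] at hnat
  have hpos : 0 < (H ⊔ C).relIndex K := Nat.pos_of_ne_zero Subgroup.FiniteIndex.index_ne_zero
  have := Nat.le_of_mul_le_mul_right hnat hpos
  have h2p := s.two_lt_p
  nlinarith

/-- If every member outside the line characters has degree `q u`, then two line centralisers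
meet in `C`. -/
theorem inf_lineCent_le
    (hdeg : ∀ φ ∈ calS K H (A₀ K H H₀), φ ∉ lineInd K H H₀ W₁ N₁ ⁅U, U⁆ →
      φ 1 = ((q * (sectionCent H H₀).relIndex U : ℕ) : ℂ))
    (hab : ⁅U ⊓ sectionCent N₁ H₀, U ⊓ sectionCent N₁ H₀⁆ ≤ U ⊓ sectionCent H H₀) :
    (U ⊓ sectionCent N₁ H₀) ⊓ lineCent U H₀ N₁ (w : L) ≤ U ⊓ sectionCent H H₀ := by
  haveI := s.H_normal
  haveI := s.K_normal
  set C := U ⊓ sectionCent H H₀
  set X := (U ⊓ sectionCent N₁ H₀) ⊓ lineCent U H₀ N₁ (w : L) with hX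
  obtain ⟨θ, hθR, ⟨n₁, hn₁, hne₁⟩, n₂, hn₂, hne₂⟩ := s.exists_twoLine hl w hw
  set Rr := restLines₂ H₀ W₁ N₁ w ⊔ C with hRr
  have hKR := s.K_normalizes_rest₂C hl w hw
  have hA₀ : A₀ K H H₀ ≤ Rr := s.A₀_le_HC.trans (sup_le_sup_right le_sup_left _)
  have hθS : θ ∈ thetasS K H (A₀ K H H₀) :=
    mem_thetasS.2 ⟨fun n hn => hθR n (hA₀ hn), n₁, hl.le hn₁, hne₁⟩
  -- `θ` does not induce a line character
  have hnot : Cfsg.indFun K (θ : K → ℂ) ∉ lineInd K H H₀ W₁ N₁ ⁅U, U⁆ := by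
    intro h
    obtain ⟨θ', hθ', e⟩ := Finset.mem_image.1 h
    obtain ⟨x, hx⟩ := PF6.exists_conj_of_indFun_eq K θ'.2 θ.2 e
    obtain ⟨k, hk, y, hy, rfl⟩ := s.hyp.exists_factor_mem x
    rw [← CharInduce.conjFun_mul, (mem_inertia K).1 (le_inertia K
      (CharBasic.IsIrr.isClassFunction θ'.2) hk)] at hx
    have htriv : ∀ n : K, y * (n : L) * y⁻¹ ∈ restLines H₀ W₁ N₁ →
        (θ : K → ℂ) n = (θ : K → ℂ) 1 := by
      intro n hn
      rw [hx]
      show (θ' : K → ℂ) ⟨y * (n : L) * y⁻¹, _⟩ = (θ' : K → ℂ) ⟨y * ((1 : K) : L) * y⁻¹, _⟩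
      rw [(mem_thetasS.1 hθ').1 ⟨y * (n : L) * y⁻¹, Subgroup.Normal.conj_mem s.K_normal _ n.2 y⟩
        (mem_sup_left hn)]
      refine congrArg (θ' : K → ℂ) (Subtype.ext ?_)
      show (1 : L) = y * ((1 : K) : L) * y⁻¹
      rw [OneMemClass.coe_one, mul_one, mul_inv_cancel]
    by_cases hy1 : y = 1
    · exact hne₂ (htriv n₂ (by
        rw [hy1, one_mul, inv_one, mul_one]
        exact line_le_restLines w.2 hw hn₂))
    · exact hne₁ (htriv n₁ (line_le_restLines hy hy1 ⟨n₁, hn₁, rfl⟩))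
  have hd : (θ : K → ℂ) 1 = ((sectionCent H H₀).relIndex U : ℕ) := by
    have h := hdeg _ (mem_calS.2 ⟨θ, hθS, rfl⟩) hnot
    rw [indFun_one, s.hyp.index_eq, s.card_W₁, Nat.cast_mul] at h
    exact mul_left_cancel₀ (Nat.cast_ne_zero.2 s.q_prime.ne_zero) h
  -- but it has a linear constituent on `H X`
  have hXU₁ : X ≤ U ⊓ sectionCent N₁ H₀ := inf_le_left
  have hXn : U ≤ normalizer (X : Set L) := fun v hv => by
    refine Coprime.mem_normalizer_of_map_conj ?_
    rw [hX, Subgroup.map_inf _ _ _ (MulAut.conj v).injective,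
      Coprime.map_conj_eq (s.U_normalizes_U₁ hl hv),
      Coprime.map_conj_eq (s.U_normalizes_lineCent hl w.2 hv)]
  set K2 := H ⊔ X with hK2
  have hNK2 : K ⊓ sectionCent H H₀ ≤ K2 := by
    rw [s.N_eq]
    exact sup_le_sup_left (le_inf (s.C_le_lineCent hl W₁.one_mem |>.trans (s.U₁_eq hl).le)
      (s.C_le_lineCent hl w.2)) H
  have hcent : ∀ v ∈ X, ∀ h ∈ H, v * h * v⁻¹ * h⁻¹ ∈ restLines₂ H₀ W₁ N₁ w := by
    intro v hv h hh
    set Q := restLines₂ H₀ W₁ N₁ w
    have hn : ∀ x ∈ H, x ∈ normalizer (Q : Set L) := s.H_normalizes_restLines₂ hl w hw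
    let S : Subgroup L :=
      { carrier := {g | g ∈ H ∧ v * g * v⁻¹ * g⁻¹ ∈ Q}
        one_mem' := ⟨one_mem _, by simp⟩
        mul_mem' := fun {x y} hx hy => ⟨mul_mem hx.1 hy.1, by
          rw [show v * (x * y) * v⁻¹ * (x * y)⁻¹
            = (v * x * v⁻¹ * x⁻¹) * (x * (v * y * v⁻¹ * y⁻¹) * x⁻¹) by group]
          exact mul_mem hx.2 (Coprime.conj_mem (hn x hx.1) hy.2)⟩
        inv_mem' := fun {x} hx => ⟨inv_mem hx.1, by
          rw [show v * x⁻¹ * v⁻¹ * x⁻¹⁻¹ = x⁻¹ * (v * x * v⁻¹ * x⁻¹)⁻¹ * x by group]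
          exact Coprime.conj_mem' (hn x hx.1) (inv_mem hx.2)⟩ }
    suffices hS : H ≤ S from (hS hh).2
    refine (s.restLines₂_sup hl w hw).ge.trans (sup_le (sup_le (fun g hg =>
      ⟨s.restLines₂_le hl w hw hg, ?_⟩) fun g hg => ⟨hl.le hg, (le_sup_left : H₀ ≤ Q)
        ((hXU₁ hv).2.2.2 g hg)⟩) fun g hg => ⟨s.line_le hl w hg, (le_sup_left : H₀ ≤ Q)
        ((s.mem_lineCent hl w.2 (hXU₁ hv).1).1 hv.2 g hg)⟩)
    exact mul_mem (Coprime.conj_mem (s.U_normalizes_restLines₂ hl w hw (hXU₁ hv).1) hg)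
      (inv_mem hg)
  have hK2c : ⁅K2, K2⁆ ≤ Rr := by
    refine sup_commutator_le s.H_le ((hXU₁.trans inf_le_left).trans s.U_le) hKR
      (s.comm.trans (le_sup_left.trans le_sup_left)) (commutator_le.2 fun h hh v hv => ?_)
      ((commutator_mono hXU₁ hXU₁).trans (hab.trans le_sup_right))
    rw [← inv_mem_iff, commutatorElement_inv, commutatorElement_def]
    exact mem_sup_left (hcent v hv h hh)
  have hab2 : ∀ x y : K, x * y * x⁻¹ * y⁻¹ ∈ K2.subgroupOf K := fun x y =>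
    mem_subgroupOf.2 (hNK2 (mem_subgroupOf.1 (s.NK_commutator x y)))
  haveI : (K2.subgroupOf K).Normal := ⟨fun n hn g => by
    have := mul_mem (hab2 g n) hn
    rwa [inv_mul_cancel_right] at this⟩
  obtain ⟨l, hll, -⟩ := exists_linear_constituent (K2.subgroupOf K) θ.2 fun x hx y hy =>
    hθR _ (by
      rw [Subgroup.coe_mul, Subgroup.coe_mul, Subgroup.coe_mul, InvMemClass.coe_inv,
        InvMemClass.coe_inv, ← commutatorElement_def]
      exact hK2c (commutator_mem_commutator (mem_subgroupOf.1 hx) (mem_subgroupOf.1 hy)))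
  obtain ⟨e, -, he, hdvd, -⟩ := linear_clifford (K2.subgroupOf K) hab2 θ.2 hll
  rw [← Nat.cast_injective (hd.symm.trans he)] at hdvd
  change (sectionCent H H₀).relIndex U ∣ (H ⊔ X).relIndex K at hdvd
  rw [s.HD_relIndex hl hXU₁ hXn, ← s.index_C hl] at hdvd
  have hCX : C ≤ X := le_inf (s.C_le_lineCent hl W₁.one_mem |>.trans (s.U₁_eq hl).le)
    (s.C_le_lineCent hl w.2)
  have hXleU : X ≤ U := hXU₁.trans inf_le_left
  rw [← Subgroup.relIndex_mul_relIndex C X U hCX hXleU] at hdvd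
  have hpos : 0 < X.relIndex U := Nat.pos_of_ne_zero Subgroup.FiniteIndex.index_ne_zero
  have : C.relIndex X ∣ 1 := Nat.dvd_of_mul_dvd_mul_right hpos (by rwa [one_mul])
  exact relIndex_eq_one.1 (Nat.dvd_one.1 this)

end Two

/-- Peterfalvi (9.11): the structure in the exceptional case. -/
theorem exceptional
    (hp : p - 1 = 2 * a) (hI : (⁅U, U⁆ : Subgroup L).relIndex U = (sectionCent H H₀).relIndex U)
    (hau : a < (sectionCent H H₀).relIndex U)
    (hT : ∀ φ ∈ calS K H (A₀ K H H₀), Cfsg.IsIrrCharacter L φ → φ 1 = ((q * a : ℕ) : ℂ) →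
      φ ∈ lineInd K H H₀ W₁ N₁ ⁅U, U⁆)
    (hdeg : ∀ φ ∈ calS K H (A₀ K H H₀), φ ∉ lineInd K H H₀ W₁ N₁ ⁅U, U⁆ →
      φ 1 = ((q * (sectionCent H H₀).relIndex U : ℕ) : ℂ)) :
    ∃ c, Exceptional H H₀ U W₁ N₁ p a c ∧ (lineInd K H H₀ W₁ N₁ ⁅U, U⁆).card = 2 * c := by
  haveI := s.H_normal
  haveI := s.H₀_normal
  set C := U ⊓ sectionCent H H₀ with hC
  set U1 := U ⊓ sectionCent N₁ H₀ with hU1
  have hCU1 : C ≤ U1 := (s.C_le_lineCent hl W₁.one_mem).trans (s.U₁_eq hl).le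
  have hU'C := s.derived_le_C hl
  -- `U' = C`
  have hUC : ⁅U, U⁆ = C := by
    refine le_antisymm hU'C (relIndex_eq_one.1 ?_)
    have e := Subgroup.relIndex_mul_relIndex (⁅U, U⁆ : Subgroup L) C U hU'C inf_le_left
    rw [hI, ← s.index_C hl] at e
    exact Nat.eq_of_mul_eq_mul_right (Nat.pos_of_ne_zero Subgroup.FiniteIndex.index_ne_zero) (e.trans (one_mul _).symm)
  have hU1U : U1 ≤ U := inf_le_left
  have hD1 : ⁅U, U⁆ ≤ U1 := hUC.le.trans hCU1
  have hD2 : ⁅U1, U1⁆ ≤ ⁅U, U⁆ := commutator_mono hU1U hU1U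
  have hD3 : U ≤ normalizer ((⁅U, U⁆ : Subgroup L) : Set L) :=
    le_normalizer_iff_commutator_le_right.2 (commutator_mono le_rfl (commutator_le_self U))
  obtain ⟨hTcard, -, -⟩ := s.lineInd_spec hl hD1 hD2 hD3
  -- `U₁' = C`
  have hU1n : U ≤ normalizer ((⁅U1, U1⁆ : Subgroup L) : Set L) := fun v hv => by
    refine Coprime.mem_normalizer_of_map_conj ?_
    rw [Subgroup.map_commutator, Coprime.map_conj_eq (s.U_normalizes_U₁ hl hv)]
  obtain ⟨hcard', hsub', hspec'⟩ :=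
    s.lineInd_spec hl (commutator_le_self U1) le_rfl hU1n
  have hU1' : ⁅U1, U1⁆ = C := by
    refine le_antisymm (hD2.trans hUC.le) (hUC.ge.trans (relIndex_eq_one.1 ?_))
    have hle : (lineInd K H H₀ W₁ N₁ ⁅U1, U1⁆).card ≤ (lineInd K H H₀ W₁ N₁ ⁅U, U⁆).card :=
      card_le_card fun φ hφ => hT φ (hsub' hφ) (hspec' φ hφ).1 (hspec' φ hφ).2
    have hmul := Nat.mul_le_mul_right (a ^ 2) hle
    rw [hcard', hTcard] at hmul
    have h1 := Nat.le_of_mul_le_mul_left hmul (by have := s.p_prime.two_le; omega)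
    rw [← Subgroup.relIndex_mul_relIndex (⁅U1, U1⁆ : Subgroup L) ⁅U, U⁆ U hD2
      (commutator_le_self U)] at h1
    have hpos : 0 < (⁅U, U⁆ : Subgroup L).relIndex U :=
      Nat.pos_of_ne_zero Subgroup.FiniteIndex.index_ne_zero
    have h2 : (⁅U1, U1⁆ : Subgroup L).relIndex ⁅U, U⁆ ≤ 1 :=
      Nat.le_of_mul_le_mul_right (by rwa [one_mul]) hpos
    have h3 : (⁅U1, U1⁆ : Subgroup L).relIndex ⁅U, U⁆ ≠ 0 := Subgroup.FiniteIndex.index_ne_zero
    omega
  have hinf : ∀ w ∈ W₁, w ≠ 1 → U1 ⊓ lineCent U H₀ N₁ w ≤ C := fun w hw hw1 =>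
    s.inf_lineCent_le hl ⟨w, hw⟩ hw1 hdeg hU1'.le
  -- `U₁` is cyclic, so `C = 1`
  obtain ⟨w, hw, hw1⟩ := W₁.bot_or_exists_ne_one.resolve_left s.hyp.ne_bot₁
  obtain ⟨g₀, hg₀, hgen⟩ := s.exists_gen_mod hl
  let g : U := ⟨w * g₀ * w⁻¹, Coprime.conj_mem (s.norm_U hw) hg₀⟩
  let Uw := (lineCent U H₀ N₁ w).subgroupOf U
  haveI : Uw.Normal := normal_subgroupOf_of_le_normalizer (s.U_normalizes_lineCent hl hw)
  haveI : IsCyclic (U ⧸ Uw) := by
    refine ⟨⟨(g : U ⧸ Uw), fun x => ?_⟩⟩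
    obtain ⟨v, rfl⟩ := QuotientGroup.mk_surjective x
    obtain ⟨i, hi⟩ := hgen (w⁻¹ * v * w) (Coprime.conj_mem' (s.norm_U hw) v.2)
    refine ⟨i, ?_⟩
    show (g : U ⧸ Uw) ^ i = _
    rw [← QuotientGroup.mk_zpow, QuotientGroup.eq, mem_subgroupOf]
    refine ⟨(g₀ ^ i)⁻¹ * (w⁻¹ * v * w), ⟨?_, hi⟩, ?_⟩
    · exact U.mul_mem (U.inv_mem (zpow_mem hg₀ _)) (Coprime.conj_mem' (s.norm_U hw) v.2)
    · show w * ((g₀ ^ i)⁻¹ * (w⁻¹ * ((v : U) : L) * w)) * w⁻¹ = (((g ^ i)⁻¹ * v : U) : L)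
      push_cast
      rw [conj_zpow]
      group
  let ρ : U1 →* U ⧸ Uw := (QuotientGroup.mk' Uw).comp (Subgroup.inclusion hU1U)
  have hρ : ∀ x : U1, x ∈ ρ.ker → (x : L) ∈ C := fun x hx =>
    hinf w hw hw1 ⟨x.2, mem_subgroupOf.1
      ((QuotientGroup.eq_one_iff (Subgroup.inclusion hU1U x)).1 hx)⟩
  obtain ⟨⟨_, g₁, rfl⟩, hg₁⟩ := IsCyclic.exists_generator (α := ρ.range)
  haveI : Group.IsNilpotent U := s.U_nil
  haveI : Group.IsNilpotent U1 := Group.nilpotent_of_mulEquiv (subgroupOfEquivOfLe hU1U)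
  have htop : Subgroup.zpowers g₁ = ⊤ := by
    refine eq_top_of_sup_commutator (eq_top_iff.2 fun x _ => ?_)
    obtain ⟨i, hi⟩ := Subgroup.mem_zpowers_iff.1 (hg₁ ⟨ρ x, x, rfl⟩)
    have hk : (g₁ ^ i)⁻¹ * x ∈ ρ.ker := by
      rw [MonoidHom.mem_ker, map_mul, map_inv, map_zpow, inv_mul_eq_one]
      simpa using congrArg Subtype.val hi
    have hc : (g₁ ^ i)⁻¹ * x ∈ commutator U1 := by
      have := hρ _ hk
      rw [← hU1', ← Subgroup.map_subtype_commutator U1] at this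
      obtain ⟨y, hy, e⟩ := this
      exact (Subtype.ext e : y = _) ▸ hy
    have := mul_mem (mem_sup_left (T := commutator U1) (zpow_mem (mem_zpowers g₁) i))
      (mem_sup_right (S := Subgroup.zpowers g₁) hc)
    rwa [mul_inv_cancel_left] at this
  have hcomm : ⁅U1, U1⁆ = ⊥ := by
    rw [commutator_eq_bot_iff_le_centralizer]
    intro x hx
    rw [mem_centralizer_iff]
    intro y hy
    obtain ⟨i, hi⟩ := Subgroup.mem_zpowers_iff.1 (htop ▸ mem_top (⟨x, hx⟩ : U1))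
    obtain ⟨j, hj⟩ := Subgroup.mem_zpowers_iff.1 (htop ▸ mem_top (⟨y, hy⟩ : U1))
    have := ((Commute.refl g₁).zpow_zpow j i).eq
    rw [hi, hj] at this
    exact congrArg Subtype.val this
  have hCbot : C = ⊥ := hU1'.symm.trans hcomm
  have hρinj : Function.Injective ρ := by
    rw [← MonoidHom.ker_eq_bot_iff, eq_bot_iff]
    intro x hx
    have := hρ x hx
    rw [hCbot, mem_bot] at this
    exact mem_bot.2 (Subtype.ext this)
  set c := Nat.card U1 with hc
  have hcardU : Nat.card U = a * c := by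
    have e := Subgroup.relIndex_mul_relIndex ⊥ U1 U bot_le hU1U
    rw [relIndex_bot_left, relIndex_bot_left, hU1, inf_comm, inf_relIndex_right, hl.index_U₁] at e
    rw [← e, hc, hU1, inf_comm, mul_comm]
  have hu : (sectionCent H H₀).relIndex U = a * c := by
    rw [← s.index_C hl, ← hC, hCbot, relIndex_bot_left, hcardU]
  have hdvd : c ∣ a := by
    have h1 : c ∣ Nat.card (U ⧸ Uw) := by
      rw [hc, Nat.card_congr (MonoidHom.ofInjective hρinj).toEquiv]
      exact Subgroup.card_subgroup_dvd_card _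
    have h2 : Uw.index = a := by
      have e : line U w = U := Coprime.map_conj_eq (s.norm_U hw)
      calc Uw.index = (lineCent U H₀ N₁ w).relIndex (line U w) := by rw [e]; rfl
        _ = (U ⊓ sectionCent N₁ H₀).relIndex U :=
          relIndex_map_map_of_injective _ _ (MulAut.conj w).injective
        _ = a := by rw [inf_comm, inf_relIndex_right, hl.index_U₁]
    rwa [← Subgroup.index, h2] at h1
  refine ⟨c, ⟨hCbot, hUC.trans hCbot, rfl, hcardU, fun v hv hv1 => ?_, ?_, hdvd, ?_⟩, ?_⟩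
  · exact le_bot_iff.1 ((hinf v hv hv1).trans hCbot.le)
  · have hodd : Odd c := s.odd.of_dvd_nat (Subgroup.card_subgroup_dvd_card U1)
    have h1 : c ≠ 1 := fun e => by rw [hu, e, mul_one] at hau; omega
    obtain ⟨k, hk⟩ := hodd
    omega
  · have := s.p_prime.two_le
    omega
  · have ha0 : 0 < a := Nat.lt_of_lt_of_le Nat.zero_lt_one (s.one_lt_a hl).le
    rw [hI, hu, hp] at hTcard
    exact Nat.eq_of_mul_eq_mul_right (pow_pos ha0 2) (hTcard.trans (by ring))

end Setting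

end Cfsg.Agent.OddOrder.PF9
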