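import Cfsg.Agent.OddOrder.PF9.ExceptionCount

/-!
# Peterfalvi (9.11): coherence of the irreducible members in the exceptional case

With `φ₁` of degree `q a` and `ψ` of degree `q u = c q a` the image of `ψ - c φ₁` is
`ψ' - c φ₁'` in the two coherent extensions: the only other possibility is excluded by the norm of
the image of `Γ - φ₁`.
-/

set_option autoImplicit false
set_option linter.style.haveILetI false
set_option linter.unusedSectionVars false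

namespace Cfsg.Agent.OddOrder.PF9

open scoped ComplexConjugate
open Cfsg.Agent Cfsg.Agent.CharBasic Cfsg.Agent.CharInduce Finset
open scoped Classical

universe u v

variable {L : Type u} [Group L] [Fintype L] {G : Type v} [Group G] [Fintype G]
  {K H H₀ U W₁ W₂ N₁ : Subgroup L} {p q a c : ℕ} {τ : (L → ℂ) → (G → ℂ)}
  {R : (L → ℂ) → Finset (G → ℂ)} {S : Set (L → ℂ)}

/-- Generalized characters vanishing off `coreSupp K H`. -/
def suppGen (K H : Subgroup L) : Set (L → ℂ) :=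
  {α | Cfsg.IsGeneralizedCharacter L α ∧ ∀ g, g ∉ coreSupp K H → α g = 0}

theorem gen_of_zspan {T : Set (L → ℂ)} (hT : ∀ χ ∈ T, Cfsg.IsCharacter L χ) {α : L → ℂ}
    (hα : α ∈ Cfsg.zspan T) : Cfsg.IsGeneralizedCharacter L α := by
  induction hα using Submodule.span_induction with
  | mem f hf => exact H43.gen_of_char (hT f hf)
  | zero => exact H43.gen_zero
  | add f f' _ _ ih ih' => exact H43.gen_add ih ih'
  | smul n f _ ih => exact H43.gen_zsmul ih n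

theorem mem_suppGen {A : Subgroup L} [K.Normal] [H.Normal] {α : L → ℂ}
    (hα : α ∈ Cfsg.zspanOn (↑(calS K H A) : Set (L → ℂ)) ({1}ᶜ : Set L)) : α ∈ suppGen K H :=
  ⟨gen_of_zspan (fun χ hχ => by
      obtain ⟨θ, -, rfl⟩ := mem_calS.1 hχ
      exact IsChar.ind K (CharBasic.IsIrr.isCharacter θ.2)) hα.1,
    fun _g hg => zspan_vanish hα hg⟩

namespace Setting

variable (s : Setting K H H₀ U W₁ W₂ p q)
  (hS : Cfsg.IsCoherenceSystem S τ R) (hsub : ↑(calS K H (A₀ K H H₀)) ⊆ S)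
  (hext : Cfsg.IsLinearIsometryOn (suppGen K H) τ)
  (hl : Lines H H₀ U W₁ N₁ p a) (ex : Exceptional H H₀ U W₁ N₁ p a c)

include s hS hsub hext hl ex

set_option maxHeartbeats 800000 in
/-- Peterfalvi (9.11), exceptional case: `T ∪ Y` is coherent. -/
theorem exception_coherent
    (hT : ∀ φ ∈ calS K H (A₀ K H H₀), Cfsg.IsIrrCharacter L φ → φ 1 = ((q * a : ℕ) : ℂ) →
      φ ∈ lineInd K H H₀ W₁ N₁ ⁅U, U⁆)
    (hdeg : ∀ φ ∈ calS K H (A₀ K H H₀), φ ∉ lineInd K H H₀ W₁ N₁ ⁅U, U⁆ →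
      φ 1 = ((q * (sectionCent H H₀).relIndex U : ℕ) : ℂ))
    (hTcard : (lineInd K H H₀ W₁ N₁ ⁅U, U⁆).card = 2 * c) :
    Cfsg.IsCoherent
      (↑(lineInd K H H₀ W₁ N₁ ⁅U, U⁆ ∪ (calS K H (A₀ K H H₀)).filter fun φ : L → ℂ =>
        Cfsg.IsIrrCharacter L φ ∧ φ 1 = ((q * (sectionCent H H₀).relIndex U : ℕ) : ℂ)) :
        Set (L → ℂ)) ({1}ᶜ : Set L) τ ∧
      ((calS K H (A₀ K H H₀)).filter fun φ : L → ℂ => Cfsg.IsIrrCharacter L φ ∧
        φ 1 = ((q * (sectionCent H H₀).relIndex U : ℕ) : ℂ)).Nonempty := by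
  haveI := s.K_normal
  haveI := s.H_normal
  set S0 := calS K H (A₀ K H H₀) with hS0
  set T := lineInd K H H₀ W₁ N₁ ⁅U, U⁆ with hTdef
  set Y := S0.filter fun φ : L → ℂ =>
    Cfsg.IsIrrCharacter L φ ∧ φ 1 = ((q * (sectionCent H H₀).relIndex U : ℕ) : ℂ) with hY
  obtain ⟨-, hTsub, hTspec⟩ := s.lineInd_spec hl
    ((s.derived_le_C hl).trans ((s.C_le_lineCent hl W₁.one_mem).trans (s.U₁_eq hl).le))
    (Subgroup.commutator_mono inf_le_left inf_le_left)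
    (Subgroup.le_normalizer_iff_commutator_le_right.2
      (Subgroup.commutator_mono le_rfl (Subgroup.commutator_le_self U)))
  have hu := s.u_eq hl ex
  have ha1 := s.one_lt_a hl
  have hc3 := ex.three_le
  -- `m ≥ B + 1`
  obtain ⟨k, hk⟩ := ex.dvd
  have hk1 : 1 ≤ k := by
    rcases Nat.eq_zero_or_pos k with h | h
    · rw [h, mul_zero] at hk; omega
    · exact h
  set m := Y.card with hm
  have hmB : (a : ℤ) + ((q : ℤ) - 1) * k + 1 ≤ m := by
    have hid := s.count_identity hl ex hdeg hTcard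
    rw [← hm, ex.p_eq] at hid
    push_cast at hid
    have hlow := pow_lower a q s.two_lt_q
    have hca : (c : ℤ) ≤ a := by exact_mod_cast Nat.le_of_dvd (by omega) ex.dvd
    have hq3 : (3 : ℤ) ≤ q := by exact_mod_cast s.two_lt_q
    have hak : (a : ℤ) = c * k := by exact_mod_cast hk
    have ha : (2 : ℤ) ≤ a := by exact_mod_cast ha1
    have hc : (3 : ℤ) ≤ c := by exact_mod_cast hc3
    have hpos : (0 : ℤ) < q * (a * c) :=
      mul_pos (by linarith) (mul_pos (by linarith) (by linarith))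
    refine le_of_mul_le_mul_right ?_ hpos
    have e : ((a : ℤ) + ((q : ℤ) - 1) * k + 1) * (q * (a * c))
        = q * a ^ 2 * c + q * (q - 1) * a ^ 2 + q * a * c := by
      have : (k : ℤ) * c = a := by rw [hak]; ring
      linear_combination ((q : ℤ) * (q - 1) * a) * this
    rw [e]
    have hd0 : (0 : ℤ) ≤ (a : ℤ) - c := by linarith
    nlinarith [mul_nonneg hd0 (sq_nonneg (a : ℤ)),
      mul_nonneg (mul_nonneg hd0 (show (0 : ℤ) ≤ q by linarith)) (sq_nonneg (a : ℤ)),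
      mul_nonneg (mul_nonneg hd0 (show (0 : ℤ) ≤ q by linarith)) (show (0 : ℤ) ≤ a by linarith),
      mul_nonneg (mul_nonneg (show (0 : ℤ) ≤ q by linarith) (show (0 : ℤ) ≤ (q : ℤ) - 2 by linarith))
        (sq_nonneg (a : ℤ))]
  have hm3 : 3 ≤ m := by
    have hq1 : (0 : ℤ) ≤ ((q : ℤ) - 1) * k :=
      mul_nonneg (by have := s.two_lt_q; omega) (Int.natCast_nonneg k)
    omega
  have hYne : Y.Nonempty := Finset.card_pos.1 (by omega)
  refine ⟨?_, hYne⟩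
  have hYspec : ∀ φ ∈ Y, Cfsg.IsIrrCharacter L φ ∧ φ 1 = ((q * (a * c) : ℕ) : ℂ) := fun φ hφ => by
    rw [hY, Finset.mem_filter] at hφ
    exact ⟨hφ.2.1, hu ▸ hφ.2.2⟩
  have hYsub : Y ⊆ S0 := Finset.filter_subset _ _
  have hTne : T.Nonempty := Finset.card_pos.1 (by omega)
  have hTc : ∀ φ ∈ T, Cfsg.conjFun φ ∈ T := fun φ hφ =>
    hT _ (calS_conj (hTsub hφ)) (IsIrr.conj (hTspec φ hφ).1) (by
      show conj (φ 1) = _
      rw [(hTspec φ hφ).2, Complex.conj_natCast])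
  have hYc : ∀ φ ∈ Y, Cfsg.conjFun φ ∈ Y := fun φ hφ =>
    Finset.mem_filter.2 ⟨calS_conj (hYsub hφ), IsIrr.conj (hYspec φ hφ).1, by
      show conj (φ 1) = _
      rw [(hYspec φ hφ).2, Complex.conj_natCast, hu]⟩
  obtain ⟨-, σ, hσ, hσa⟩ := PF6.coherent_const_degree hS
    (T := (↑T : Set (L → ℂ))) ((Finset.coe_subset.2 hTsub).trans hsub) hTne hTc
    fun φ hφ ψ hψ => by rw [(hTspec φ hφ).2, (hTspec ψ hψ).2]
  obtain ⟨-, g, hg, hga⟩ := PF6.coherent_const_degree hS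
    (T := (↑Y : Set (L → ℂ))) ((Finset.coe_subset.2 hYsub).trans hsub) hYne hYc
    fun φ hφ ψ hψ => by rw [(hYspec φ hφ).2, (hYspec ψ hψ).2]
  have hau : q * a ≠ q * (a * c) := by
    intro e
    have h1 := Nat.eq_of_mul_eq_mul_left s.q_prime.pos e
    nlinarith
  have hdisj : ∀ φ ∈ Y, φ ∉ T := fun φ hY' hT' =>
    hau (Nat.cast_injective ((hTspec φ hT').2.symm.trans (hYspec φ hY').2))
  have hirr : ∀ φ ∈ T ∪ Y, Cfsg.IsIrrCharacter L φ := fun φ hφ =>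
    (Finset.mem_union.1 hφ).elim (fun h => (hTspec φ h).1) fun h => (hYspec φ h).1
  have horth : ∀ φ ∈ T ∪ Y, ∀ ψ ∈ T ∪ Y, Cfsg.classInner φ ψ = if φ = ψ then 1 else 0 :=
    fun φ hφ ψ hψ => classInner_irr (hirr φ hφ) (hirr ψ hψ)
  have hsubS0 : T ∪ Y ⊆ S0 := Finset.union_subset hTsub hYsub
  -- the common extension `f`
  let f : (L → ℂ) → (G → ℂ) := fun φ => if φ ∈ T then σ φ else g φ
  have hfT : ∀ φ ∈ T, f φ = σ φ := fun φ hφ => if_pos hφ
  have hfY : ∀ φ ∈ Y, f φ = g φ := fun φ hφ => if_neg (hdisj φ hφ)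
  have hfs : ∀ φ ∈ T ∪ Y, H43.Signed (f φ) := fun φ hφ => by
    rcases Finset.mem_union.1 hφ with h | h
    · rw [hfT φ h]
      exact H43.iso_signed hσ (H43.zspan_mem h) (classInner_irr_self (hTspec φ h).1)
    · rw [hfY φ h]
      exact H43.iso_signed hg (H43.zspan_mem h) (classInner_irr_self (hYspec φ h).1)
  have hinS : ∀ {α : L → ℂ}, α ∈ Cfsg.zspan (↑(T ∪ Y) : Set (L → ℂ)) → α 1 = 0 →
      α ∈ Cfsg.zspanOn S ({1}ᶜ : Set L) ∧ α ∈ suppGen K H := by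
    intro α hα h1
    have h0 : α ∈ Cfsg.zspanOn (↑S0 : Set (L → ℂ)) ({1}ᶜ : Set L) :=
      H43.zspanOn_compl_one.2 ⟨H43.zspan_mono (Finset.coe_subset.2 hsubS0) hα, h1⟩
    exact ⟨⟨H43.zspan_mono hsub h0.1, h0.2⟩, mem_suppGen h0⟩
  have hdiffT : ∀ φ ∈ T, ∀ φ' ∈ T, τ (φ - φ') = f φ - f φ' := fun φ hφ φ' hφ' => by
    have hm : φ - φ' ∈ Cfsg.zspan (↑T : Set (L → ℂ)) :=
      H43.zspan_sub (H43.zspan_mem hφ) (H43.zspan_mem hφ')
    rw [← hσa _ (H43.zspanOn_compl_one.2 ⟨hm, by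
      rw [Pi.sub_apply, (hTspec φ hφ).2, (hTspec φ' hφ').2, sub_self]⟩),
      H43.iso_sub hσ (H43.zspan_mem hφ) (H43.zspan_mem hφ') hm, hfT φ hφ, hfT φ' hφ']
  have hdiffY : ∀ φ ∈ Y, ∀ φ' ∈ Y, τ (φ - φ') = f φ - f φ' := fun φ hφ φ' hφ' => by
    have hm : φ - φ' ∈ Cfsg.zspan (↑Y : Set (L → ℂ)) :=
      H43.zspan_sub (H43.zspan_mem hφ) (H43.zspan_mem hφ')
    rw [← hga _ (H43.zspanOn_compl_one.2 ⟨hm, by
      rw [Pi.sub_apply, (hYspec φ hφ).2, (hYspec φ' hφ').2, sub_self]⟩),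
      H43.iso_sub hg (H43.zspan_mem hφ) (H43.zspan_mem hφ') hm, hfY φ hφ, hfY φ' hφ']
  have memD : ∀ φ ∈ T ∪ Y, ∀ φ' ∈ T ∪ Y, φ 1 = φ' 1 →
      φ - φ' ∈ Cfsg.zspanOn S ({1}ᶜ : Set L) ∧ φ - φ' ∈ suppGen K H := fun φ hφ φ' hφ' e =>
    hinS (H43.zspan_sub (H43.zspan_mem hφ) (H43.zspan_mem hφ')) (by rw [Pi.sub_apply, e, sub_self])
  have hfTT : ∀ φ ∈ T, ∀ φ' ∈ T, Cfsg.classInner (f φ) (f φ') = if φ = φ' then 1 else 0 :=
    fun φ hφ φ' hφ' => by
      rw [hfT φ hφ, hfT φ' hφ', H43.iso_inner hσ (H43.zspan_mem hφ) (H43.zspan_mem hφ'),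
        horth φ (Finset.mem_union_left _ hφ) φ' (Finset.mem_union_left _ hφ')]
  have hfYY : ∀ φ ∈ Y, ∀ φ' ∈ Y, Cfsg.classInner (f φ) (f φ') = if φ = φ' then 1 else 0 :=
    fun φ hφ φ' hφ' => by
      rw [hfY φ hφ, hfY φ' hφ', H43.iso_inner hg (H43.zspan_mem hφ) (H43.zspan_mem hφ'),
        horth φ (Finset.mem_union_right _ hφ) φ' (Finset.mem_union_right _ hφ')]
  have hfTY : ∀ φ ∈ T, ∀ ψ ∈ Y, Cfsg.classInner (f φ) (f ψ) = 0 := by
    refine orth_of_diff T Y f hfs hfTT hfYY (fun i hi i' hi' j hj j' hj' => ?_) (by omega) hm3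
    rw [← hdiffT i hi i' hi', ← hdiffY j hj j' hj', H43.iso_inner hS.isometry
      (memD i (Finset.mem_union_left _ hi) i' (Finset.mem_union_left _ hi')
        ((hTspec i hi).2.trans (hTspec i' hi').2.symm)).1
      (memD j (Finset.mem_union_right _ hj) j' (Finset.mem_union_right _ hj')
        ((hYspec j hj).2.trans (hYspec j' hj').2.symm)).1]
    have h0 : ∀ x ∈ T, ∀ y ∈ Y, Cfsg.classInner x y = 0 := fun x hx y hy => by
      rw [horth x (Finset.mem_union_left _ hx) y (Finset.mem_union_right _ hy),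
        if_neg fun e : x = y => hdisj y hy (e ▸ hx)]
    simp [classInner_sub_left, classInner_sub_right, h0 i hi j hj, h0 i hi j' hj', h0 i' hi' j hj,
      h0 i' hi' j' hj']
  have hforth : ∀ φ ∈ T ∪ Y, ∀ ψ ∈ T ∪ Y,
      Cfsg.classInner (f φ) (f ψ) = if φ = ψ then 1 else 0 := fun φ hφ ψ hψ => by
    rcases Finset.mem_union.1 hφ with h | h <;> rcases Finset.mem_union.1 hψ with h' | h'
    · exact hfTT φ h ψ h'
    · rw [hfTY φ h ψ h', if_neg fun e : φ = ψ => hdisj ψ h' (e ▸ h)]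
    · rw [← classInner_conj_symm, hfTY ψ h' φ h, map_zero,
        if_neg fun e : φ = ψ => hdisj φ h (e ▸ h')]
    · exact hfYY φ h ψ h'
  obtain ⟨φ₁, hφ₁⟩ := hTne
  obtain ⟨ψ, hψ⟩ := hYne
  have hφ₁u := Finset.mem_union_left Y hφ₁
  have hψu := Finset.mem_union_right T hψ
  have hψφ : ψ ≠ φ₁ := fun e => hdisj ψ hψ (e ▸ hφ₁)
  set α₀ : L → ℂ := ψ - (c : ℤ) • φ₁ with hα₀
  have hα₀m := hinS (α := α₀) (H43.zspan_sub (H43.zspan_mem hψu) (H43.zspan_zsmul (H43.zspan_mem hφ₁u) _))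
    (by
      rw [hα₀, Pi.sub_apply, Pi.smul_apply, (hYspec ψ hψ).2, (hTspec φ₁ hφ₁).2, zsmul_eq_mul]
      push_cast
      ring)
  -- coefficients of `τ α₀`
  have hτα₀ := H43.iso_gen hS.isometry hα₀m.1
  choose b hb using fun φ : {x // x ∈ T ∪ Y} => H43.gen_inner_int hτα₀ (hfs φ φ.2).gen
  let bb : (L → ℂ) → ℤ := fun φ => if h : φ ∈ T ∪ Y then b ⟨φ, h⟩ else 0
  have hbb : ∀ φ ∈ T ∪ Y, Cfsg.classInner (τ α₀) (f φ) = bb φ := fun φ hφ => by
    simp only [bb, dif_pos hφ]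
    exact hb ⟨φ, hφ⟩
  have hinner0 : ∀ φ ∈ T ∪ Y, Cfsg.classInner α₀ φ
      = (if ψ = φ then 1 else 0) - (c : ℂ) * if φ₁ = φ then 1 else 0 := fun φ hφ => by
    rw [hα₀, classInner_sub_left, H43.classInner_zsmul_left, horth ψ hψu φ hφ, horth φ₁ hφ₁u φ hφ,
      Int.cast_natCast]
  have hbT : ∀ φ ∈ T, φ ≠ φ₁ → bb φ = bb φ₁ + c := fun φ hφ hne => by
    have hu' := Finset.mem_union_left Y hφ
    have e := H43.iso_inner hS.isometry hα₀m.1 (memD φ hu' φ₁ hφ₁u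
      ((hTspec φ hφ).2.trans (hTspec φ₁ hφ₁).2.symm)).1
    rw [hdiffT φ hφ φ₁ hφ₁, classInner_sub_right, classInner_sub_right, hbb φ hu', hbb φ₁ hφ₁u,
      hinner0 φ hu', hinner0 φ₁ hφ₁u, if_neg fun e : ψ = φ => hdisj ψ hψ (e ▸ hφ),
      if_neg (Ne.symm hne), if_neg hψφ, if_pos rfl] at e
    have : ((bb φ - bb φ₁ : ℤ) : ℂ) = ((c : ℤ) : ℂ) := by push_cast; linear_combination e
    have := Int.cast_injective this
    omega
  have hbY : ∀ φ ∈ Y, φ ≠ ψ → bb φ = bb ψ - 1 := fun φ hφ hne => by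
    have hu' := Finset.mem_union_right T hφ
    have e := H43.iso_inner hS.isometry hα₀m.1 (memD φ hu' ψ hψu
      ((hYspec φ hφ).2.trans (hYspec ψ hψ).2.symm)).1
    rw [hdiffY φ hφ ψ hψ, classInner_sub_right, classInner_sub_right, hbb φ hu', hbb ψ hψu,
      hinner0 φ hu', hinner0 ψ hψu, if_neg (Ne.symm hne),
      if_neg fun e : φ₁ = φ => hdisj φ hφ (e ▸ hφ₁), if_pos rfl, if_neg (Ne.symm hψφ)] at e
    have : ((bb φ - bb ψ : ℤ) : ℂ) = ((-1 : ℤ) : ℂ) := by push_cast; linear_combination e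
    have := Int.cast_injective this
    omega
  set x : ℤ := bb φ₁ + c with hx
  set e₀ : ℤ := bb ψ - 1 with he₀
  have hTY : Disjoint T Y := Finset.disjoint_left.2 fun φ h h' => hdisj φ h' h
  have hcardE : ((T.erase φ₁).card : ℤ) = 2 * c - 1 := by
    rw [card_erase_of_mem hφ₁, hTcard]; omega
  have hcardY : ((Y.erase ψ).card : ℤ) = (m : ℤ) - 1 := by
    rw [card_erase_of_mem hψ, ← hm]; omega
  have hsumb : ∑ φ ∈ T ∪ Y, bb φ ^ 2
      = (x - c) ^ 2 + (2 * c - 1) * x ^ 2 + ((e₀ + 1) ^ 2 + ((m : ℤ) - 1) * e₀ ^ 2) := by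
    rw [sum_union hTY, ← add_sum_erase _ _ hφ₁, ← add_sum_erase Y _ hψ,
      sum_congr rfl (fun φ hφ => by
        rw [hbT φ (Finset.mem_erase.1 hφ).2 (Finset.mem_erase.1 hφ).1] :
        ∀ φ ∈ T.erase φ₁, bb φ ^ 2 = x ^ 2),
      sum_congr rfl (fun φ hφ => by
        rw [hbY φ (Finset.mem_erase.1 hφ).2 (Finset.mem_erase.1 hφ).1] :
        ∀ φ ∈ Y.erase ψ, bb φ ^ 2 = e₀ ^ 2),
      sum_const, sum_const, nsmul_eq_mul, nsmul_eq_mul, hcardE, hcardY, hx, he₀]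
    ring
  have hN₀ : Cfsg.classInner (τ α₀) (τ α₀) = (((1 + (c : ℝ) ^ 2) : ℝ) : ℂ) := by
    have h2 : ∀ φ, Cfsg.classInner α₀ ((c : ℤ) • φ) = (c : ℂ) * Cfsg.classInner α₀ φ := fun φ => by
      rw [H43.classInner_zsmul_right, Int.cast_natCast]
    rw [H43.iso_inner hS.isometry hα₀m.1 hα₀m.1]
    nth_rewrite 2 [hα₀]
    rw [classInner_sub_right, h2, hinner0 ψ hψu, hinner0 φ₁ hφ₁u, if_pos rfl, if_pos rfl,
      if_neg hψφ, if_neg (Ne.symm hψφ)]
    push_cast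
    ring
  obtain ⟨hle₀, heq₀⟩ := bessel_int (T ∪ Y) f hforth bb hbb hN₀
  rw [hsumb] at hle₀ heq₀
  have hle₁ : (x - c) ^ 2 + (2 * c - 1) * x ^ 2 + ((e₀ + 1) ^ 2 + ((m : ℤ) - 1) * e₀ ^ 2)
      ≤ 1 + (c : ℤ) ^ 2 := by exact_mod_cast hle₀
  have hxx : 0 ≤ x * x - x := by nlinarith [sq_nonneg (2 * x - 1)]
  have hexp : 2 * (c : ℤ) * (x * x - x) + (m : ℤ) * (e₀ * e₀) + 2 * e₀ ≤ 0 := by
    have e : (x - c) ^ 2 + (2 * c - 1) * x ^ 2 + ((e₀ + 1) ^ 2 + ((m : ℤ) - 1) * e₀ ^ 2)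
        = 1 + (c : ℤ) ^ 2 + (2 * (c : ℤ) * (x * x - x) + (m : ℤ) * (e₀ * e₀) + 2 * e₀) := by ring
    linarith
  have hcx : 0 ≤ 2 * (c : ℤ) * (x * x - x) :=
    mul_nonneg (mul_nonneg (by norm_num) (Int.natCast_nonneg c)) hxx
  have he : e₀ = 0 := by
    by_contra hne
    have h1 : 1 ≤ e₀ * e₀ := Int.add_one_le_iff.2 (mul_self_pos.2 hne)
    have h2 : 0 ≤ 2 * (e₀ * e₀) + 2 * e₀ := by
      rcases lt_or_gt_of_ne hne with h | h
      · nlinarith
      · linarith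
    have hme : 3 * (e₀ * e₀) ≤ (m : ℤ) * (e₀ * e₀) :=
      mul_le_mul_of_nonneg_right (by exact_mod_cast hm3) (by linarith)
    linarith
  have hx01 : x = 0 ∨ x = 1 := by
    rw [he] at hexp
    have hc : (3 : ℤ) ≤ c := by exact_mod_cast hc3
    have h0 : x * x - x = 0 := by
      rcases hxx.eq_or_lt with h | h
      · exact h.symm
      · exfalso
        have h6 : 2 * (3 : ℤ) * (x * x - x) ≤ 2 * (c : ℤ) * (x * x - x) :=
          mul_le_mul_of_nonneg_right (by linarith) hxx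
        linarith
    have h1 : x * (x - 1) = 0 := by rw [mul_sub, mul_one]; exact h0
    rcases mul_eq_zero.1 h1 with h | h
    · exact Or.inl h
    · exact Or.inr (by linarith)
  have hτeq : τ α₀ = ∑ φ ∈ T ∪ Y, (bb φ : ℂ) • f φ := heq₀ (by
    rw [he]
    rcases hx01 with h | h <;> rw [h] <;> push_cast <;> ring)
  -- exclude `x = 1`
  have hx0 : x = 0 := by
    refine hx01.resolve_right fun hx1 => ?_
    set γ : L → ℂ := gammaFun K H H₀ U N₁ a - φ₁ with hγ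
    have hγm : γ ∈ suppGen K H := by
      refine ⟨H43.gen_sub (s.gamma_gen hl ex).1 (H43.gen_of_irr (hTspec φ₁ hφ₁).1), fun y hy => ?_⟩
      rw [hγ, Pi.sub_apply]
      by_cases hy1 : y = 1
      · rw [hy1, s.gamma_one hl ex, (hTspec φ₁ hφ₁).2, sub_self]
      · rw [s.gamma_vanish hl ex hy hy1, calS_vanish (hTsub hφ₁) hy hy1, sub_zero]
    have hinnerγ : ∀ φ ∈ T ∪ Y, Cfsg.classInner γ φ = -(if φ₁ = φ then 1 else 0) := fun φ hφ => by
      rw [hγ, classInner_sub_left, s.gamma_orth hl ex (hsubS0 hφ) (hirr φ hφ), horth φ₁ hφ₁u φ hφ,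
        zero_sub]
    have hτγ := H43.iso_gen hext hγm
    choose d hd using fun φ : {x // x ∈ T ∪ Y} => H43.gen_inner_int hτγ (hfs φ φ.2).gen
    let dd : (L → ℂ) → ℤ := fun φ => if h : φ ∈ T ∪ Y then d ⟨φ, h⟩ else 0
    have hdd : ∀ φ ∈ T ∪ Y, Cfsg.classInner (τ γ) (f φ) = dd φ := fun φ hφ => by
      simp only [dd, dif_pos hφ]
      exact hd ⟨φ, hφ⟩
    have hdT : ∀ φ ∈ T, φ ≠ φ₁ → dd φ = dd φ₁ + 1 := fun φ hφ hne => by
      have hu' := Finset.mem_union_left Y hφ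
      have e := H43.iso_inner hext hγm (memD φ hu' φ₁ hφ₁u
        ((hTspec φ hφ).2.trans (hTspec φ₁ hφ₁).2.symm)).2
      rw [hdiffT φ hφ φ₁ hφ₁, classInner_sub_right, classInner_sub_right, hdd φ hu', hdd φ₁ hφ₁u,
        hinnerγ φ hu', hinnerγ φ₁ hφ₁u, if_neg (Ne.symm hne), if_pos rfl] at e
      have : ((dd φ - dd φ₁ : ℤ) : ℂ) = ((1 : ℤ) : ℂ) := by push_cast; linear_combination e
      have := Int.cast_injective this
      omega
    have hdY : ∀ φ ∈ Y, φ ≠ ψ → dd φ = dd ψ := fun φ hφ _hne => by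
      have hu' := Finset.mem_union_right T hφ
      have e := H43.iso_inner hext hγm (memD φ hu' ψ hψu
        ((hYspec φ hφ).2.trans (hYspec ψ hψ).2.symm)).2
      rw [hdiffY φ hφ ψ hψ, classInner_sub_right, classInner_sub_right, hdd φ hu', hdd ψ hψu,
        hinnerγ φ hu', hinnerγ ψ hψu, if_neg fun e : φ₁ = φ => hdisj φ hφ (e ▸ hφ₁),
        if_neg (Ne.symm hψφ)] at e
      have : ((dd φ - dd ψ : ℤ) : ℂ) = ((0 : ℤ) : ℂ) := by push_cast; linear_combination e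
      have := Int.cast_injective this
      omega
    set z : ℤ := dd φ₁ + 1 with hz
    set y : ℤ := dd ψ with hy
    have hrel : (1 - (c : ℤ)) * (z - 1) + (2 * c - 1) * z + y = c := by
      have e : Cfsg.classInner (τ γ) (τ α₀) = ((c : ℤ) : ℂ) := by
        rw [H43.iso_inner hext hγm hα₀m.2, hα₀, classInner_sub_right,
          H43.classInner_zsmul_right, hinnerγ ψ hψu, hinnerγ φ₁ hφ₁u, if_pos rfl,
          if_neg (Ne.symm hψφ)]
        push_cast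
        ring
      rw [hτeq, classInner_sum_right] at e
      have e' : ((∑ φ ∈ T ∪ Y, bb φ * dd φ : ℤ) : ℂ) = ((c : ℤ) : ℂ) := by
        rw [← e, Int.cast_sum]
        refine sum_congr rfl fun φ hφ => ?_
        rw [CharBasic.classInner_smul_right, hdd φ hφ, map_intCast, Int.cast_mul]
      have e2 := Int.cast_injective e'
      rw [sum_union hTY, ← add_sum_erase _ _ hφ₁, ← add_sum_erase Y _ hψ,
        sum_congr rfl (fun φ hφ => by
          rw [hbT φ (Finset.mem_erase.1 hφ).2 (Finset.mem_erase.1 hφ).1,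
            hdT φ (Finset.mem_erase.1 hφ).2 (Finset.mem_erase.1 hφ).1] :
          ∀ φ ∈ T.erase φ₁, bb φ * dd φ = x * z),
        sum_congr rfl (fun φ hφ => by
          rw [hbY φ (Finset.mem_erase.1 hφ).2 (Finset.mem_erase.1 hφ).1,
            hdY φ (Finset.mem_erase.1 hφ).2 (Finset.mem_erase.1 hφ).1] :
          ∀ φ ∈ Y.erase ψ, bb φ * dd φ = e₀ * y),
        sum_const, sum_const, nsmul_eq_mul, nsmul_eq_mul, hcardE, hcardY, he, hx1,
        show bb φ₁ = x - c by omega, show bb ψ = e₀ + 1 by omega,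
        show dd φ₁ = z - 1 by omega] at e2
      rw [he, hx1] at e2
      linarith
    have hsumd : ∑ φ ∈ T ∪ Y, dd φ ^ 2
        = (z - 1) ^ 2 + (2 * c - 1) * z ^ 2 + (m : ℤ) * y ^ 2 := by
      rw [sum_union hTY, ← add_sum_erase _ _ hφ₁, ← add_sum_erase Y _ hψ,
        sum_congr rfl (fun φ hφ => by
          rw [hdT φ (Finset.mem_erase.1 hφ).2 (Finset.mem_erase.1 hφ).1] :
          ∀ φ ∈ T.erase φ₁, dd φ ^ 2 = z ^ 2),
        sum_congr rfl (fun φ hφ => by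
          rw [hdY φ (Finset.mem_erase.1 hφ).2 (Finset.mem_erase.1 hφ).1] :
          ∀ φ ∈ Y.erase ψ, dd φ ^ 2 = y ^ 2),
        sum_const, sum_const, nsmul_eq_mul, nsmul_eq_mul, hcardE, hcardY, hz, hy]
      ring
    have hNγ : Cfsg.classInner (τ γ) (τ γ)
        = (((a : ℝ) + ((q : ℝ) - 1) * k + 1 : ℝ) : ℂ) := by
      have hi : Cfsg.classInner φ₁ (gammaFun K H H₀ U N₁ a) = 0 := by
        rw [← classInner_conj_symm, s.gamma_orth hl ex (hTsub hφ₁) (hTspec φ₁ hφ₁).1, map_zero]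
      rw [H43.iso_inner hext hγm hγm, hγ, classInner_sub_left, classInner_sub_right,
        classInner_sub_right, s.gamma_norm hl ex, hi,
        s.gamma_orth hl ex (hTsub hφ₁) (hTspec φ₁ hφ₁).1, classInner_irr_self (hTspec φ₁ hφ₁).1]
      have hcne : (c : ℝ) ≠ 0 := Nat.cast_ne_zero.2 (by omega)
      have : (a : ℝ) / c = k := by
        rw [hk, Nat.cast_mul, mul_div_cancel_left₀ _ hcne]
      rw [this]
      push_cast
      ring
    obtain ⟨hle, -⟩ := bessel_int (T ∪ Y) f hforth dd hdd hNγ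
    rw [hsumd] at hle
    have hle' : (z - 1) ^ 2 + (2 * c - 1) * z ^ 2 + (m : ℤ) * y ^ 2
        ≤ (a : ℤ) + ((q : ℤ) - 1) * k + 1 := by exact_mod_cast hle
    have hy' : y = 1 - c * z := by linarith
    have hc : (3 : ℤ) ≤ c := by exact_mod_cast hc3
    have hmz : (0 : ℤ) ≤ m := Int.natCast_nonneg m
    by_cases hz0 : z = 0
    · rw [hy', hz0] at hle'
      have e : ((0 : ℤ) - 1) ^ 2 + (2 * (c : ℤ) - 1) * 0 ^ 2 + (m : ℤ) * (1 - c * 0) ^ 2 = 1 + m := by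
        ring
      linarith
    · have hz1 : 1 ≤ z ^ 2 := by
        rw [pow_two]
        exact Int.add_one_le_iff.2 (mul_self_pos.2 hz0)
      have hy1 : 1 ≤ y ^ 2 := by
        have hy0 : y ≠ 0 := fun h0 => by
          rw [h0] at hy'
          rcases lt_or_gt_of_ne hz0 with h | h
          · have : (c : ℤ) * z ≤ 3 * z := mul_le_mul_of_nonpos_right hc h.le
            linarith
          · have : 3 * z ≤ (c : ℤ) * z := mul_le_mul_of_nonneg_right hc h.le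
            omega
        rw [pow_two]
        exact Int.add_one_le_iff.2 (mul_self_pos.2 hy0)
      have h1 : (2 * (c : ℤ) - 1) * 1 ≤ (2 * (c : ℤ) - 1) * z ^ 2 :=
        mul_le_mul_of_nonneg_left hz1 (by linarith)
      have h2 : (m : ℤ) * 1 ≤ (m : ℤ) * y ^ 2 := mul_le_mul_of_nonneg_left hy1 hmz
      linarith [sq_nonneg (z - 1)]
  have hval : τ α₀ = f ψ - (c : ℤ) • f φ₁ := by
    rw [hτeq, sum_eq_add_of_mem ψ φ₁ hψu hφ₁u hψφ]
    · rw [show bb ψ = 1 by omega, show bb φ₁ = -(c : ℤ) by omega, Int.cast_one, one_smul,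
        Int.cast_smul_eq_zsmul, neg_smul, sub_eq_add_neg]
    · intro φ hφ hne
      rcases Finset.mem_union.1 hφ with h | h
      · rw [show bb φ = 0 by rw [hbT φ h hne.2]; omega, Int.cast_zero, zero_smul]
      · rw [show bb φ = 0 by rw [hbY φ h hne.1]; omega, Int.cast_zero, zero_smul]
  refine H43.coherent_of_images (T ∪ Y) S ((Finset.coe_subset.2 hsubS0).trans hsub) τ hS.isometry
    (fun φ hφ e => CharBasic.IsIrr.one_ne_zero (hirr φ hφ) (congrFun e 1))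
    (fun φ hφ φ' hφ' hne => by rw [horth φ hφ φ' hφ', if_neg hne])
    (fun φ => if φ ∈ T then ((q * a : ℕ) : ℤ) else ((q * (a * c) : ℕ) : ℤ)) (fun φ hφ => ?_)
    φ₁ hφ₁u ?_ f (fun φ hφ => (hfs φ hφ).gen)
    (fun φ hφ φ' hφ' => by rw [hforth φ hφ φ' hφ', horth φ hφ φ' hφ']) (fun φ hφ => ?_)
    ⟨ψ, hψu, hψφ⟩
  · rcases Finset.mem_union.1 hφ with h | h
    · rw [if_pos h, (hTspec φ h).2, Int.cast_natCast]
    · rw [if_neg (hdisj φ h), (hYspec φ h).2, Int.cast_natCast]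
  · rw [if_pos hφ₁]
    exact_mod_cast (Nat.mul_ne_zero s.q_prime.ne_zero (by omega))
  · rw [if_pos hφ₁]
    rcases Finset.mem_union.1 hφ with h | h
    · rw [if_pos h, ← smul_sub, ← smul_sub,
        hS.isometry.2.1 _ (memD φ hφ φ₁ hφ₁u ((hTspec φ h).2.trans (hTspec φ₁ hφ₁).2.symm)).1,
        hdiffT φ h φ₁ hφ₁]
    · rw [if_neg (hdisj φ h), show ((q * (a * c) : ℕ) : ℤ) = ((q * a : ℕ) : ℤ) * (c : ℤ) by
        push_cast; ring, mul_smul, ← smul_sub, mul_smul, ← smul_sub]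
      have hd : φ - ψ ∈ Cfsg.zspanOn S ({1}ᶜ : Set L) :=
        (memD φ hφ ψ hψu ((hYspec φ h).2.trans (hYspec ψ hψ).2.symm)).1
      have e : φ - (c : ℤ) • φ₁ = (φ - ψ) + α₀ := by rw [hα₀]; abel
      rw [e, hS.isometry.2.1 _ (H43.zspanOn_add hd hα₀m.1), hS.isometry.1 _ hd _ hα₀m.1,
        hdiffY φ h ψ hψ, hval]
      congr 1
      abel

end Setting

end Cfsg.Agent.OddOrder.PF9
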