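import Cfsg.Agent.OddOrder.PF9.Exception
import Cfsg.Agent.OddOrder.PF9.Combinatorics
import Cfsg.Agent.S1496

/-!
# Peterfalvi (9.11): counting in the exceptional case, and the function `Γ`

`Γ = Ind_{H U₁}^L 1`: it is supported on `coreSupp`, orthogonal to the irreducible members of
`S(H₀)`, and has norm `a + (q - 1) a / c`.
-/

set_option autoImplicit false
set_option linter.style.haveILetI false
set_option linter.unusedSectionVars false

namespace Cfsg.Agent.OddOrder.PF9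

open scoped ComplexConjugate
open scoped commutatorElement
open Cfsg.Agent Cfsg.Agent.CharBasic Cfsg.Agent.CharInduce Subgroup Finset
open scoped Classical

universe u

variable {L : Type u} [Group L] [Fintype L]

/-- `S(A)` is the part of `PF6.seqInd K A` not trivial on `H`. -/
theorem calS_eq_sdiff {K H A : Subgroup L} [K.Normal] [H.Normal] [A.Normal] (hHK : H ≤ K)
    (hAK : A ≤ K) : calS K H A = PF6.seqInd K A \ PF6.seqInd K (A ⊔ H) := by
  ext φ
  rw [Finset.mem_sdiff]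
  constructor
  · intro hφ
    refine ⟨calS_subset K H A hφ, fun h => ?_⟩
    obtain ⟨θ, hθ, e⟩ := mem_calS.1 hφ
    obtain ⟨θ', hθ', e'⟩ := (PF6.mem_seqInd K).1 h
    obtain ⟨b, hb, hne⟩ := (mem_thetasS.1 hθ).2
    exact hne (((PF6.mem_thetas K).1 (PF6.mem_thetas_of_indFun_eq K hθ' (e'.trans e.symm))).2 b
      (mem_sup_right hb))
  · rintro ⟨h1, h2⟩
    obtain ⟨θ, hθ, e⟩ := (PF6.mem_seqInd K).1 h1
    refine mem_calS.2 ⟨θ, mem_thetasS.2 ⟨((PF6.mem_thetas K).1 hθ).2, ?_⟩, e⟩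
    by_contra hno
    push Not at hno
    refine h2 ((PF6.mem_seqInd K).2 ⟨θ, (PF6.mem_thetas K).2 ⟨((PF6.mem_thetas K).1 hθ).1,
      fun b hb => ?_⟩, e⟩)
    obtain ⟨Kr, -, hker, -⟩ := CharBasic.IsChar.exists_kernel (CharBasic.IsIrr.isCharacter θ.2)
    have hle : A ⊔ H ≤ Kr.map K.subtype := sup_le
      (fun g hg => ⟨⟨g, hAK hg⟩, (hker _).2 (((PF6.mem_thetas K).1 hθ).2 _ hg), rfl⟩)
      fun g hg => ⟨⟨g, hHK hg⟩, (hker _).2 (hno _ hg), rfl⟩
    obtain ⟨m, hm, e''⟩ := hle hb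
    exact (hker b).1 ((show m = b from Subtype.ext e'') ▸ hm)

variable {K H H₀ U W₁ W₂ N₁ : Subgroup L} {p q a c : ℕ}

/-- `Ind_{H U₁}^L 1`, written as induced from `a` times the indicator on `K`. -/
noncomputable def gammaFun (K H H₀ U N₁ : Subgroup L) (a : ℕ) : L → ℂ :=
  Cfsg.indFun K fun x : K => if (x : L) ∈ H ⊔ U ⊓ sectionCent N₁ H₀ then (a : ℂ) else 0

namespace Setting

variable (s : Setting K H H₀ U W₁ W₂ p q) (hl : Lines H H₀ U W₁ N₁ p a)
  (ex : Exceptional H H₀ U W₁ N₁ p a c)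

include s hl ex

theorem N_eq_H : K ⊓ sectionCent H H₀ = H := by
  rw [s.N_eq, ex.cent_bot, sup_bot_eq]

theorem A₀_eq : A₀ K H H₀ = H₀ := by
  rw [A₀, s.N_eq_H hl ex]
  exact sup_eq_left.2 s.comm

theorem u_eq : (sectionCent H H₀).relIndex U = a * c := by
  rw [← inf_relIndex_right, inf_comm, ex.cent_bot, relIndex_bot_left, ex.card_U]

theorem relIndex_H_K : H.relIndex K = a * c := by
  haveI := s.H_normal
  conv_lhs => rw [← s.sup]
  rw [Subgroup.relIndex_sup_left, ← inf_relIndex_right, s.inf, relIndex_bot_left, ex.card_U]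

/-- The irreducible members of degree `q u`. -/
theorem count_identity
    (hdeg : ∀ φ ∈ calS K H (A₀ K H H₀), φ ∉ lineInd K H H₀ W₁ N₁ ⁅U, U⁆ →
      φ 1 = ((q * (sectionCent H H₀).relIndex U : ℕ) : ℂ))
    (hT : (lineInd K H H₀ W₁ N₁ ⁅U, U⁆).card = 2 * c) :
    (p : ℤ) ^ q = 1 + ((p : ℤ) - 1) * (a * c) + 2 * q * a +
      (((calS K H (A₀ K H H₀)).filter fun φ : L → ℂ => Cfsg.IsIrrCharacter L φ ∧
        φ 1 = ((q * (sectionCent H H₀).relIndex U : ℕ) : ℂ)).card : ℤ) * (q * (a * c)) := by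
  haveI := s.K_normal
  haveI := s.H_normal
  haveI := s.H₀_normal
  haveI := s.A₀_normal
  set u := (sectionCent H H₀).relIndex U with hu
  have hA0 := s.A₀_eq hl ex
  set S0 := calS K H (A₀ K H H₀)
  set T := lineInd K H H₀ W₁ N₁ ⁅U, U⁆
  set Y := S0.filter fun φ : L → ℂ => Cfsg.IsIrrCharacter L φ ∧ φ 1 = ((q * u : ℕ) : ℂ)
  obtain ⟨-, hTsub, hTspec⟩ := s.lineInd_spec hl
    ((s.derived_le_C hl).trans ((s.C_le_lineCent hl W₁.one_mem).trans (s.U₁_eq hl).le))
    (commutator_mono inf_le_left inf_le_left)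
    (le_normalizer_iff_commutator_le_right.2 (commutator_mono le_rfl (commutator_le_self U)))
  have hau : a ≠ u := by
    rw [hu, s.u_eq hl ex]
    intro e
    have h3 := ex.three_le
    have ha := (s.one_lt_a hl)
    nlinarith
  have hq0 : (q : ℂ) ≠ 0 := Nat.cast_ne_zero.2 s.q_prime.ne_zero
  have hdisj : Disjoint T Y := by
    refine Finset.disjoint_left.2 fun φ hT hY => hau ?_
    have e := (hTspec φ hT).2.symm.trans (Finset.mem_filter.1 hY).2.2
    exact Nat.eq_of_mul_eq_mul_left s.q_prime.pos (Nat.cast_injective e)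
  set Rd := S0.filter fun φ : L → ℂ => ¬ Cfsg.IsIrrCharacter L φ
  have hsplit : S0 = T ∪ Y ∪ Rd := by
    ext φ
    simp only [Finset.mem_union, Y, Rd, Finset.mem_filter]
    constructor
    · intro hφ
      by_cases hTm : φ ∈ T
      · exact Or.inl (Or.inl hTm)
      by_cases hi : Cfsg.IsIrrCharacter L φ
      · exact Or.inl (Or.inr ⟨hφ, hi, hdeg φ hφ hTm⟩)
      · exact Or.inr ⟨hφ, hi⟩
    · rintro ((h | h) | h)
      · exact hTsub h
      · exact h.1
      · exact h.1
  have hdisj2 : Disjoint (T ∪ Y) Rd := by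
    refine Finset.disjoint_left.2 fun φ h hR => (Finset.mem_filter.1 hR).2 ?_
    rcases Finset.mem_union.1 h with h | h
    · exact (hTspec φ h).1
    · exact (Finset.mem_filter.1 h).2.1
  have hfS : fixedS K H W₁ H₀ = fixedS K H W₁ (A₀ K H H₀) := by rw [hA0]
  have hRd : Rd = (fixedS K H W₁ H₀).image fun θ : Cfsg.IrrCharacter K =>
      Cfsg.indFun K (θ : K → ℂ) := by
    ext φ
    simp only [Rd, Finset.mem_filter, Finset.mem_image]
    constructor
    · rintro ⟨hφ, hi⟩
      obtain ⟨θ, hθ, rfl⟩ := mem_calS.1 hφ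
      rcases s.indFun_cases le_sup_left hθ with h | h
      · exact absurd h.2 hi
      · exact ⟨θ, h.1, rfl⟩
    · rintro ⟨θ, hθ, rfl⟩
      have hθ' : θ ∈ thetasS K H (A₀ K H H₀) := (Finset.mem_filter.1 (hfS ▸ hθ)).1
      refine ⟨mem_calS.2 ⟨θ, hθ', rfl⟩, ?_⟩
      rcases s.indFun_cases le_sup_left hθ' with h | h
      · exact absurd hθ h.1
      · exact h.2.2.2.1
  have hRcard : Rd.card = p - 1 := by
    rw [hRd, card_image_of_injOn, s.card_fixedS]
    intro θ hθ θ' hθ' e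
    have hθS : θ' ∈ thetasS K H (A₀ K H H₀) := (Finset.mem_filter.1 (hfS ▸ hθ')).1
    rcases s.indFun_cases le_sup_left hθS with h | h
    · exact absurd hθ' h.1
    · exact h.2.2.2.2 θ e
  have hW : ∑ φ ∈ S0, PF6.weight φ = (q : ℝ) * u * ((p : ℝ) ^ q - 1) := by
    have e1 := PF6.sum_weight_seqInd K (A₀ K H H₀)
    have e2 := PF6.sum_weight_seqInd K (A₀ K H H₀ ⊔ H)
    have hS : S0 = PF6.seqInd K (A₀ K H H₀) \ PF6.seqInd K (A₀ K H H₀ ⊔ H) :=
      calS_eq_sdiff s.H_le (hA0.le.trans (s.le.trans s.H_le))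
    rw [hS, Finset.sum_sdiff_eq_sub (PF6.seqInd_mono K le_sup_left), e1, e2,
      hA0, sup_eq_right.2 s.le, s.relIndex_H_K hl ex, hu, s.u_eq hl ex,
      ← Subgroup.relIndex_mul_relIndex H₀ H K s.le s.H_le, s.index_H, s.relIndex_H_K hl ex,
      s.hyp.index_eq, s.card_W₁]
    push_cast
    ring
  have hwT : ∀ φ ∈ T, PF6.weight φ = ((q : ℝ) * a) ^ 2 := fun φ hφ => by
    rw [weight_of_irr (hTspec φ hφ).1 (hTspec φ hφ).2]
    push_cast; ring
  have hwY : ∀ φ ∈ Y, PF6.weight φ = ((q : ℝ) * u) ^ 2 := fun φ hφ => by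
    rw [weight_of_irr (Finset.mem_filter.1 hφ).2.1 (Finset.mem_filter.1 hφ).2.2]
    push_cast; ring
  have hwR : ∀ φ ∈ Rd, PF6.weight φ = (q : ℝ) * u ^ 2 := fun φ hφ => by
    obtain ⟨hφS, hi⟩ := Finset.mem_filter.1 hφ
    obtain ⟨d, -, -, hd, h⟩ := s.member_cases le_rfl hφS
    obtain ⟨rfl, hn, -⟩ := h.resolve_left hi
    rw [PF6.weight, hd, hn, Complex.natCast_re, Complex.natCast_re]
    have : (q : ℝ) ≠ 0 := Nat.cast_ne_zero.2 s.q_prime.ne_zero
    field_simp
    push_cast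
    rw [← hu]
    ring
  rw [hsplit, sum_union hdisj2, sum_union hdisj, sum_congr rfl hwT, sum_congr rfl hwY,
    sum_congr rfl hwR, sum_const, sum_const, sum_const, hT, hRcard, nsmul_eq_mul, nsmul_eq_mul,
    nsmul_eq_mul] at hW
  have hpc : ((p - 1 : ℕ) : ℝ) = (p : ℝ) - 1 := by
    rw [Nat.cast_sub s.p_prime.one_le, Nat.cast_one]
  have huac : (u : ℝ) = (a : ℝ) * c := by rw [hu, s.u_eq hl ex, Nat.cast_mul]
  rw [hpc, huac] at hW
  have hne : (q : ℝ) * ((a : ℝ) * c) ≠ 0 := by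
    have h1 : (q : ℝ) ≠ 0 := Nat.cast_ne_zero.2 s.q_prime.ne_zero
    have h2 : (a : ℝ) ≠ 0 := Nat.cast_ne_zero.2 (by have := s.one_lt_a hl; omega)
    have h3 : (c : ℝ) ≠ 0 := Nat.cast_ne_zero.2 (by have := ex.three_le; omega)
    exact mul_ne_zero h1 (mul_ne_zero h2 h3)
  have key : ((p : ℝ) ^ q) = 1 + ((p : ℝ) - 1) * (a * c) + 2 * q * a + (Y.card : ℝ) * (q * (a * c)) := by
    apply mul_left_cancel₀ hne
    push_cast at hW
    linear_combination -hW
  exact_mod_cast key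

theorem X_le : H ⊔ U ⊓ sectionCent N₁ H₀ ≤ K := sup_le s.H_le (inf_le_left.trans s.U_le)

theorem K_normalizes_X :
    K ≤ normalizer ((H ⊔ U ⊓ sectionCent N₁ H₀ : Subgroup L) : Set L) := by
  haveI := s.H_normal
  refine fun g hg => Coprime.mem_normalizer_of_map_conj ?_
  obtain ⟨h, hh, v, hv, rfl⟩ := s.mem_K hg
  rw [← Coprime.map_conj_map_conj, Subgroup.map_sup,
    Coprime.map_conj_eq (show v ∈ normalizer (H : Set L) by rw [normalizer_eq_top]; exact mem_top v),
    Coprime.map_conj_eq (s.U_normalizes_U₁ hl hv), Coprime.map_conj_eq]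
  exact le_normalizer (mem_sup_left hh)

theorem card_X : Nat.card ↥(H ⊔ U ⊓ sectionCent N₁ H₀) = Nat.card H * c := by
  haveI := s.H_normal
  rw [Coprime.card_sup (show U ⊓ sectionCent N₁ H₀ ≤ normalizer (H : Set L) by
    rw [normalizer_eq_top]; exact le_top) (le_bot_iff.1 ((inf_le_inf_left H inf_le_left).trans
      s.inf.le)), ex.card_U₁]

theorem gamma_gen : Cfsg.IsGeneralizedCharacter L (gammaFun K H H₀ U N₁ a) ∧
    Cfsg.IsCharacter L (gammaFun K H H₀ U N₁ a) := by
  set X := H ⊔ U ⊓ sectionCent N₁ H₀ with hX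
  haveI : (X.subgroupOf K).Normal := normal_subgroupOf_of_le_normalizer (s.K_normalizes_X hl ex)
  have hidx : (X.subgroupOf K).index = a := by
    have h := s.relIndex_K_lineCent hl W₁.one_mem
    rwa [show lineCent U H₀ N₁ 1 = U ⊓ sectionCent N₁ H₀ from line_one] at h
  have e : (fun x : K => if (x : L) ∈ X then (a : ℂ) else 0)
      = Cfsg.indFun (X.subgroupOf K) (fun _ => 1) := by
    funext x
    by_cases hx : (x : L) ∈ X
    · rw [if_pos hx, show x = ((⟨x, mem_subgroupOf.2 hx⟩ : X.subgroupOf K) : K) from rfl,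
        indFun_normal_coe]
      simp only [conjFun_one_char, sum_const, card_univ, nsmul_eq_mul, mul_one,
        ← Nat.card_eq_fintype_card]
      rw [← (X.subgroupOf K).card_mul_index, hidx, Nat.cast_mul, ← mul_assoc,
        inv_mul_cancel₀ (card_ne_zero_complex _), one_mul]
    · rw [if_neg hx, indFun_eq_zero_of_normal _ _ (fun h => hx (mem_subgroupOf.1 h))]
  have hc : Cfsg.IsCharacter L (gammaFun K H H₀ U N₁ a) := by
    rw [gammaFun, e]
    exact IsChar.ind K (IsChar.ind (X.subgroupOf K) IsChar.one)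
  exact ⟨H43.gen_of_char hc, hc⟩

theorem gamma_one : gammaFun K H H₀ U N₁ a 1 = ((q * a : ℕ) : ℂ) := by
  rw [gammaFun, indFun_one, s.hyp.index_eq, s.card_W₁, if_pos (by simp), Nat.cast_mul]

theorem gamma_vanish {g : L} (hg : g ∉ coreSupp K H) (hg1 : g ≠ 1) :
    gammaFun K H H₀ U N₁ a g = 0 := by
  haveI := s.K_normal
  haveI := s.H_normal
  haveI := s.H₀_normal
  by_cases hgK : g ∈ K
  · rw [gammaFun, show g = ((⟨g, hgK⟩ : K) : L) from rfl, indFun_normal_coe]
    refine mul_eq_zero_of_right _ (Finset.sum_eq_zero fun y _ => ?_)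
    show (if _ then (a : ℂ) else 0) = 0
    rw [if_neg]
    show ¬ y * g * y⁻¹ ∈ _
    intro hy
    have hy' : y * g * y⁻¹ ∈ ((H ⊔ U ⊓ sectionCent N₁ H₀ : Subgroup L) : Set L) := hy
    rw [Subgroup.normal_mul] at hy'
    obtain ⟨h, hh, v, hv, e⟩ := Set.mem_mul.1 hy'
    -- conjugate so that the two parts commute
    have hcop : (orderOf v).Coprime (Nat.card H) := by
      refine (s.coprime.symm).coprime_dvd_left ?_
      simpa [Subgroup.orderOf_mk] using orderOf_dvd_natCard (⟨v, hv.1⟩ : U)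
    obtain ⟨x, -, d, hd, hdv, e2⟩ := S1496.result H v
      (by rw [normalizer_eq_top]; exact mem_top v) hcop h hh
    have efix : ∃ k ∈ H, k ≠ 1 ∧ (d * v) * k = k * (d * v) := by
      by_cases hd1 : d = 1
      · have hv1 : v ≠ 1 := by
          intro hv1
          apply hg1
          rw [hd1, hv1, one_mul, mul_one, conj_eq_one_iff] at e2
          rw [e2, hv1, one_mul] at e
          exact conj_eq_one_iff.1 e.symm
        obtain ⟨n, hn, hn0⟩ : ∃ n ∈ N₁, n ∉ H₀ := by
          by_contra hno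
          push Not at hno
          have := hl.index
          rw [relIndex_eq_one.2 hno] at this
          exact s.p_prime.one_lt.ne this
        have hZ : Subgroup.zpowers v ≤ U ⊓ sectionCent N₁ H₀ := zpowers_le.2 hv
        obtain ⟨k, hk, hkn⟩ := Coprime.exists_centralizer_mem_of_comm_mem (K := H)
          (A := Subgroup.zpowers v) (by rw [normalizer_eq_top]; exact le_top)
          (s.coprime.symm.coprime_dvd_left (card_dvd_of_le (hZ.trans inf_le_left)))
          (Or.inl (Group.isSolvable_of_comm fun x y => IsMulCommutative.is_comm.comm x y))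
          s.le (by rw [normalizer_eq_top]; exact le_top) (by rw [normalizer_eq_top]; exact le_top)
          (hl.le hn) fun z hz => (hZ hz).2.2.2 n hn
        refine ⟨k, hk.1, fun hk1 => hn0 ?_, ?_⟩
        · rw [hk1, mul_one] at hkn
          simpa using H₀.inv_mem hkn
        · rw [hd1, one_mul]
          exact mem_centralizer_iff.1 hk.2 v (mem_zpowers v)
      · exact ⟨d, hd, hd1, by rw [mul_assoc, ← hdv]⟩
    obtain ⟨k, hk, hk1, hkc⟩ := efix
    have e3 : (x * y) * g * (x * y)⁻¹ = d * v := by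
      rw [← e2, e]
      group
    refine hg ⟨hgK, hg1, (x * y)⁻¹ * k * (x * y), ?_, fun h1 => hk1 ?_, ?_⟩
    · simpa [mul_assoc] using Subgroup.Normal.conj_mem ‹H.Normal› _ hk (x * y)⁻¹
    · have := congrArg (fun z => (x * y) * z * (x * y)⁻¹) h1
      simpa [mul_assoc] using this
    · calc g * ((x * y)⁻¹ * k * (x * y))
          = (x * y)⁻¹ * ((x * y) * g * (x * y)⁻¹ * k) * (x * y) := by group
        _ = (x * y)⁻¹ * (d * v * k) * (x * y) := by rw [e3]
        _ = (x * y)⁻¹ * (k * ((x * y) * g * (x * y)⁻¹)) * (x * y) := by rw [hkc, e3]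
        _ = (x * y)⁻¹ * k * (x * y) * g := by group
  · exact indFun_eq_zero_of_normal K _ hgK

theorem gamma_orth {A : Subgroup L} {φ : L → ℂ} (hφ : φ ∈ calS K H A)
    (hi : Cfsg.IsIrrCharacter L φ) : Cfsg.classInner (gammaFun K H H₀ U N₁ a) φ = 0 := by
  haveI := s.K_normal
  haveI := s.H_normal
  by_contra hne
  obtain ⟨θ, hθ, rfl⟩ := mem_calS.1 hφ
  obtain ⟨b, hb, hbne⟩ := (mem_thetasS.1 hθ).2
  apply hbne
  have hΓc := (s.gamma_gen hl ex).2
  have hΓH : ∀ h ∈ H, gammaFun K H H₀ U N₁ a h = gammaFun K H H₀ U N₁ a 1 := by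
    intro h hh
    rw [gammaFun, show h = ((⟨h, s.H_le hh⟩ : K) : L) from rfl, indFun_normal_coe,
      show (1 : L) = ((1 : K) : L) from rfl, indFun_normal_coe]
    refine congrArg _ (Finset.sum_congr rfl fun y _ => ?_)
    show (if _ then (a : ℂ) else 0) = if _ then (a : ℂ) else 0
    have h1 : y * h * y⁻¹ ∈ H := Subgroup.Normal.conj_mem ‹H.Normal› _ hh y
    have h2 : y * ((1 : K) : L) * y⁻¹ ∈ H := Subgroup.Normal.conj_mem ‹H.Normal› _ (one_mem H) y
    rw [if_pos (show y * h * y⁻¹ ∈ H ⊔ U ⊓ sectionCent N₁ H₀ from mem_sup_left h1),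
      if_pos (show y * ((1 : K) : L) * y⁻¹ ∈ H ⊔ U ⊓ sectionCent N₁ H₀ from mem_sup_left h2)]
  have hres : Cfsg.classInner (fun k : K => Cfsg.indFun K (θ : K → ℂ) k) (θ : K → ℂ) ≠ 0 := by
    rw [← classInner_indFun_right K _ _ (isClassFunction_indFun K _)]
    exact PF6.classInner_indFun_self_ne_zero K θ.2
  exact PF6.eq_one_of_constituent (IsChar.res (CharBasic.IsIrr.isCharacter hi) K) θ.2 hres
    (PF6.eq_one_of_constituent hΓc hi hne (hΓH _ hb))

theorem gamma_norm :
    Cfsg.classInner (gammaFun K H H₀ U N₁ a) (gammaFun K H H₀ U N₁ a)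
      = (((a : ℝ) + ((q : ℝ) - 1) * ((a : ℝ) / c) : ℝ) : ℂ) := by
  haveI := s.K_normal
  haveI := s.H_normal
  set X := H ⊔ U ⊓ sectionCent N₁ H₀ with hXdef
  set f : K → ℂ := fun x => if (x : L) ∈ X then (a : ℂ) else 0 with hf
  have hXK : X ≤ K := s.X_le hl ex
  have hXn := s.K_normalizes_X hl ex
  let F : L → ℕ := fun y => (univ.filter fun x : K => (x : L) ∈ X ∧ y * (x : L) * y⁻¹ ∈ X).card
  have hcount : ∀ w ∈ W₁, F w = Nat.card H * (if w = 1 then c else 1) := by
    intro w hw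
    have e : F w = Nat.card ↥(X ⊓ line X w⁻¹) := by
      show (univ.filter fun x : K => (x : L) ∈ X ∧ w * (x : L) * w⁻¹ ∈ X).card = _
      rw [← Fintype.card_subtype, ← Nat.card_eq_fintype_card]
      exact Nat.card_congr
        { toFun := fun x => ⟨((x : K) : L), x.2.1, w * ((x : K) : L) * w⁻¹, x.2.2, by simp [mul_assoc]⟩
          invFun := fun g => ⟨⟨g, hXK g.2.1⟩, g.2.1, by
            obtain ⟨b, hb, e⟩ := g.2.2
            show w * (g : L) * w⁻¹ ∈ X
            rw [← e]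
            simpa [mul_assoc] using hb⟩
          left_inv := fun x => rfl
          right_inv := fun g => rfl }
    rw [e]
    split_ifs with h1
    · rw [h1, inv_one, line_one, inf_idem, hXdef, s.card_X hl ex]
    · rw [mul_one]
      have e2 : X ⊓ line X w⁻¹ = H := by
        have hH : line H w⁻¹ = H :=
          Coprime.map_conj_eq (by rw [normalizer_eq_top]; exact mem_top w⁻¹)
        refine le_antisymm ?_ (le_inf le_sup_left
          (hH.ge.trans (Subgroup.map_mono le_sup_left)))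
        rintro g ⟨hg, hg'⟩
        have hXw : line X w⁻¹ = H ⊔ lineCent U H₀ N₁ w⁻¹ := by
          rw [hXdef]
          show (H ⊔ U ⊓ sectionCent N₁ H₀).map _ = _
          rw [Subgroup.map_sup]
          exact congrArg (· ⊔ _) hH
        rw [hXw] at hg'
        have hg1 : g ∈ ((H ⊔ U ⊓ sectionCent N₁ H₀ : Subgroup L) : Set L) := hg
        have hg2 : g ∈ ((H ⊔ lineCent U H₀ N₁ w⁻¹ : Subgroup L) : Set L) := hg'
        rw [Subgroup.normal_mul] at hg1 hg2
        obtain ⟨h, hh, v, hv, rfl⟩ := Set.mem_mul.1 hg1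
        obtain ⟨h', hh', v', hv', e'⟩ := Set.mem_mul.1 hg2
        have hv'U := s.lineCent_le_U hl (inv_mem hw) hv'
        have : h⁻¹ * h' ∈ H ⊓ U := ⟨H.mul_mem (H.inv_mem hh) hh', by
          have e'' : h⁻¹ * h' = v * v'⁻¹ := by
            rw [eq_mul_inv_iff_mul_eq, mul_assoc, e', inv_mul_cancel_left]
          rw [e'']
          exact U.mul_mem hv.1 (U.inv_mem hv'U)⟩
        rw [s.inf, mem_bot, inv_mul_eq_one] at this
        rw [← this, mul_left_cancel_iff] at e'
        have hvv : v ∈ (U ⊓ sectionCent N₁ H₀) ⊓ lineCent U H₀ N₁ w⁻¹ := ⟨hv, e' ▸ hv'⟩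
        rw [ex.inf_lineCent w⁻¹ (inv_mem hw) (by simpa using h1), mem_bot] at hvv
        rw [hvv, mul_one]
        exact hh
      rw [e2]
  have hshift : ∀ k ∈ K, ∀ w : L, F (k * w) = F w := by
    intro k hk w
    refine congrArg Finset.card (Finset.filter_congr fun x _ => and_congr_right fun _ => ?_)
    rw [show k * w * (x : L) * (k * w)⁻¹ = k * (w * (x : L) * w⁻¹) * k⁻¹ by group]
    exact (mem_normalizer_iff.1 (hXn hk) _).symm
  have hsum : ∑ y : L, (F y : ℂ) = (Nat.card K : ℂ) * ((Nat.card H : ℂ) * ((c : ℂ) + q - 1)) := by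
    have hcomp := s.hyp.isComplement
    rw [← Fintype.sum_bijective (fun z : K × W₁ => (z.1 : L) * (z.2 : L)) hcomp _ _ fun _ => rfl,
      Fintype.sum_prod_type]
    simp only [fun (k : K) (w : W₁) => hshift (k : L) k.2 (w : L), sum_const, card_univ,
      nsmul_eq_mul, ← Nat.card_eq_fintype_card (α := K)]
    congr 1
    rw [Finset.sum_congr rfl
        (g := fun w : W₁ => ((Nat.card H * if (w : L) = 1 then c else 1 : ℕ) : ℂ))
        (fun w _ => by rw [hcount (w : L) w.2]),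
      ← Finset.add_sum_erase _ _ (Finset.mem_univ (1 : W₁)), if_pos (show ((1 : W₁) : L) = 1 from rfl),
      Finset.sum_congr rfl (g := fun _ : W₁ => ((Nat.card H * 1 : ℕ) : ℂ)) (fun w hw => by
        rw [if_neg (fun e : (w : L) = 1 => (Finset.mem_erase.1 hw).1 (Subtype.ext e))]),
      sum_const, card_erase_of_mem (Finset.mem_univ _), card_univ, ← Nat.card_eq_fintype_card,
      s.card_W₁, nsmul_eq_mul]
    push_cast [Nat.cast_sub s.q_prime.one_le]
    ring
  rw [gammaFun, classInner_indFun_left K _ _ (isClassFunction_indFun K _)]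
  show (Nat.card K : ℂ)⁻¹ * ∑ x : K, f x * conj (Cfsg.indFun K f x) = _
  have hfr : ∀ x : K, conj (Cfsg.indFun K f x)
      = (Nat.card K : ℂ)⁻¹ * ∑ y : L, CharInduce.conjFun K f y x := by
    intro x
    rw [indFun_normal_coe, map_mul, map_inv₀, map_natCast, map_sum]
    congr 1
    refine Finset.sum_congr rfl fun y _ => ?_
    show conj (if _ then (a : ℂ) else 0) = if _ then (a : ℂ) else 0
    split_ifs <;> simp
  simp only [hfr, mul_sum]
  rw [Finset.sum_comm]
  have hinner : ∀ y : L, ∑ x : K, (Nat.card K : ℂ)⁻¹ * (f x * ((Nat.card K : ℂ)⁻¹ *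
      CharInduce.conjFun K f y x)) = (Nat.card K : ℂ)⁻¹ * (Nat.card K : ℂ)⁻¹ * (a : ℂ) ^ 2 * F y := by
    intro y
    have : ∀ x : K, (Nat.card K : ℂ)⁻¹ * (f x * ((Nat.card K : ℂ)⁻¹ * CharInduce.conjFun K f y x))
        = if (x : L) ∈ X ∧ y * (x : L) * y⁻¹ ∈ X then
          (Nat.card K : ℂ)⁻¹ * (Nat.card K : ℂ)⁻¹ * (a : ℂ) ^ 2 else 0 := by
      intro x
      show _ * ((if (x : L) ∈ X then (a : ℂ) else 0) *
        (_ * (if y * (x : L) * y⁻¹ ∈ X then (a : ℂ) else 0))) = _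
      by_cases h1 : (x : L) ∈ X <;> by_cases h2 : y * (x : L) * y⁻¹ ∈ X <;>
        simp [h1, h2]
      ring
    rw [Finset.sum_congr rfl fun x _ => this x, ← Finset.sum_filter, sum_const, nsmul_eq_mul]
    ring
  rw [Finset.sum_congr rfl fun y _ => hinner y, ← mul_sum, hsum]
  have hK : Nat.card K = Nat.card H * (a * c) := by
    rw [← s.relIndex_H_K hl ex, ← relIndex_bot_left H, ← relIndex_bot_left K]
    exact (Subgroup.relIndex_mul_relIndex ⊥ H K bot_le s.H_le).symm
  have hHne : (Nat.card H : ℂ) ≠ 0 := card_ne_zero_complex _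
  have ha : (a : ℂ) ≠ 0 := Nat.cast_ne_zero.2 (by have := s.one_lt_a hl; omega)
  have hc : (c : ℂ) ≠ 0 := Nat.cast_ne_zero.2 (by have := ex.three_le; omega)
  rw [hK]
  push_cast
  field_simp
  ring

end Setting

end Cfsg.Agent.OddOrder.PF9
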