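import Cfsg.Agent.OddOrder.PF9.Inertia

/-!
# The set `S(A)` of Peterfalvi section 9 and its reducible members

`calS K H A`: functions induced from the irreducible characters of `K` trivial on `A` and nontrivial
on `H`.  For `H₀ ≤ A` with `A ⊓ W₂ ≤ H₀` exactly `p - 1` of these characters of `K` are fixed by
`W₁`; they are trivial on `H₀ C`, of degree `u`, and give the reducible members.
-/

set_option autoImplicit false
set_option linter.style.haveILetI false
set_option linter.unusedSectionVars false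

namespace Cfsg.Agent.OddOrder.PF9

open scoped ComplexConjugate
open scoped commutatorElement
open Cfsg.Agent Cfsg.Agent.CharBasic Cfsg.Agent.CharInduce Subgroup Finset H43
open scoped Classical

universe u

variable {L : Type u} [Group L] [Fintype L]

/-- Peterfalvi's `S(A)` in section 9. -/
noncomputable def calS (K H A : Subgroup L) : Finset (L → ℂ) :=
  (thetasS K H A).image fun θ : Cfsg.IrrCharacter K => Cfsg.indFun K (θ : K → ℂ)

theorem mem_calS {K H A : Subgroup L} {φ : L → ℂ} :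
    φ ∈ calS K H A ↔ ∃ θ ∈ thetasS K H A, Cfsg.indFun K (θ : K → ℂ) = φ := by
  simp [calS]

theorem thetasS_subset (K H A : Subgroup L) : thetasS K H A ⊆ PF6.thetas K A :=
  Finset.filter_subset _ _

theorem thetasS_mono {K H A B : Subgroup L} (h : A ≤ B) : thetasS K H B ⊆ thetasS K H A :=
  fun _θ hθ => mem_thetasS.2 ⟨fun a ha => (mem_thetasS.1 hθ).1 a (h ha), (mem_thetasS.1 hθ).2⟩

theorem calS_mono {K H A B : Subgroup L} (h : A ≤ B) : calS K H B ⊆ calS K H A :=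
  Finset.image_subset_image (thetasS_mono h)

theorem calS_subset (K H A : Subgroup L) : calS K H A ⊆ PF6.seqInd K A := fun φ hφ => by
  obtain ⟨θ, hθ, e⟩ := mem_calS.1 hφ
  exact (PF6.mem_seqInd K).2 ⟨θ, thetasS_subset K H A hθ, e⟩

theorem thetasS_of_indFun_eq {K H A : Subgroup L} [K.Normal] [A.Normal] [H.Normal]
    {θ θ' : Cfsg.IrrCharacter K} (hθ : θ ∈ thetasS K H A)
    (e : Cfsg.indFun K (θ : K → ℂ) = Cfsg.indFun K (θ' : K → ℂ)) : θ' ∈ thetasS K H A := by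
  have hm := PF6.mem_thetas_of_indFun_eq K (thetasS_subset K H A hθ) e
  refine mem_thetasS.2 ⟨((PF6.mem_thetas K).1 hm).2, ?_⟩
  by_contra hno
  push Not at hno
  have h' : θ' ∈ PF6.thetas K H := (PF6.mem_thetas K).2 ⟨((PF6.mem_thetas K).1 hm).1, hno⟩
  obtain ⟨a, ha, hne⟩ := (mem_thetasS.1 hθ).2
  exact hne (((PF6.mem_thetas K).1 (PF6.mem_thetas_of_indFun_eq K h' e.symm)).2 a ha)

theorem calS_conj {K H A : Subgroup L} {φ : L → ℂ} (hφ : φ ∈ calS K H A) :
    Cfsg.conjFun φ ∈ calS K H A := by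
  obtain ⟨θ, hθ, rfl⟩ := mem_calS.1 hφ
  obtain ⟨h1, a, ha, hne⟩ := mem_thetasS.1 hθ
  refine mem_calS.2 ⟨⟨_, CharInduce.IsIrr.conj θ.2⟩, mem_thetasS.2 ⟨fun b hb => congrArg conj (h1 b hb),
    a, ha, fun e => hne ((starRingEnd ℂ).injective e)⟩, funext fun g => (conj_indFun K _ g).symm⟩

variable {K H H₀ U W₁ W₂ : Subgroup L} {p q : ℕ}

/-- The members of `thetasS` fixed by `W₁`. -/
noncomputable def fixedS (K H W₁ A : Subgroup L) [K.Normal] : Finset (Cfsg.IrrCharacter K) :=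
  (thetasS K H A).filter fun θ => ∀ w ∈ W₁, CharInduce.conjFun K (θ : K → ℂ) w = θ

namespace Setting

variable (s : Setting K H H₀ U W₁ W₂ p q)

include s

theorem theta_ker_iff (A : Subgroup L) [A.Normal] (hA : A ≤ K) (ω : ↥(W₁ ⊔ W₂) →* ℂˣ) :
    (∀ a : K, (a : L) ∈ A → s.hyp.theta ω a = s.hyp.theta ω 1) ↔
      ∀ w : ↥(W₁ ⊔ W₂), (w : L) ∈ A → ω w = 1 := by
  rw [← s.hyp.mu_ker_iff A hA ω]
  exact ⟨fun h a ha => h ⟨a, hA ha⟩ ha, fun h a ha => h a ha⟩

theorem fixedS_eq_image :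
    haveI := s.K_normal
    fixedS K H W₁ H₀ =
      ((univ.filter fun ω : ↥(W₁ ⊔ W₂) →* ℂˣ => TrivL ω ∧
          ∀ w : ↥(W₁ ⊔ W₂), (w : L) ∈ H₀ → ω w = 1).erase 1).image
        fun ω => (⟨s.hyp.theta ω, s.hyp.theta_irr ω⟩ : Cfsg.IrrCharacter K) := by
  haveI := s.K_normal
  haveI := s.H_normal
  haveI := s.H₀_normal
  ext θ
  rw [fixedS, Finset.mem_filter, mem_thetasS, Finset.mem_image]
  constructor
  · rintro ⟨⟨h1, a, ha, hne⟩, hfix⟩
    obtain ⟨ω, hω, e⟩ := s.hyp.exists_theta θ.2 hfix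
    refine ⟨ω, mem_erase.2 ⟨fun h0 => hne ?_, mem_filter.2 ⟨mem_univ _, hω,
      (s.theta_ker_iff H₀ (s.le.trans s.H_le) ω).1 fun b hb => by rw [← e]; exact h1 b hb⟩⟩,
      Subtype.ext e.symm⟩
    rw [e, h0, s.hyp.theta_one]
  · rintro ⟨ω, hω, rfl⟩
    obtain ⟨hω1, -, hTL, hω0⟩ := by simpa only [mem_erase, Finset.mem_filter] using hω
    refine ⟨⟨(s.theta_ker_iff H₀ (s.le.trans s.H_le) ω).2 hω0, ?_⟩, fun w _ => s.hyp.theta_fixed ω w⟩
    by_contra hno
    push Not at hno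
    refine hω1 (linear_ext s.hyp.pair (fun w hw => by rw [hTL w hw, MonoidHom.one_apply])
      fun w hw => ?_)
    rw [MonoidHom.one_apply]
    exact (s.theta_ker_iff H s.H_le ω).1 hno w (s.W₂_le hw)

/-- There are `p - 1` fixed characters. -/
theorem card_fixedS :
    haveI := s.K_normal
    (fixedS K H W₁ H₀).card = p - 1 := by
  haveI := s.K_normal
  haveI := s.hyp.pair.2.2.2.2.1
  rw [s.fixedS_eq_image, card_image_of_injOn ?inj, card_erase_of_mem ?mem]
  case mem =>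
    exact mem_filter.2 ⟨mem_univ _, fun _ _ => rfl, fun _ _ => rfl⟩
  case inj =>
    intro ω hω ω' hω' e
    simp only [coe_erase, coe_filter, Set.mem_sdiff, Set.mem_ofPred_eq] at hω hω'
    refine linear_ext s.hyp.pair (fun w hw => by rw [hω.1.2.1 w hw, hω'.1.2.1 w hw]) ?_
    exact s.hyp.theta_eq_iff.1 (congrArg Subtype.val e)
  refine congrArg (· - 1) ?_
  let W := W₁ ⊔ W₂
  let S : Subgroup W := W₁.subgroupOf W ⊔ H₀.subgroupOf W
  have hcard : (univ.filter fun ω : W →* ℂˣ => TrivL ω ∧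
      ∀ w : W, (w : L) ∈ H₀ → ω w = 1).card = S.index := by
    rw [← PF4.card_linear_trivial_on S, Nat.card_eq_fintype_card, Fintype.card_subtype]
    refine congrArg Finset.card (Finset.filter_congr fun ω _ => ⟨fun h => ?_, fun h => ?_⟩)
    · have : S ≤ ω.ker := sup_le (fun w hw => h.1 w hw) fun w hw => h.2 w hw
      exact fun y hy => this hy
    · exact ⟨fun w hw => h w (mem_sup_left hw), fun w hw => h w (mem_sup_right hw)⟩
  refine hcard.trans ?_
  letI : CommGroup W := IsCyclic.commGroup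
  haveI : S.Normal := ⟨fun n hn g => by rwa [mul_comm g n, mul_inv_cancel_right]⟩
  have hsup : S ⊔ W₂.subgroupOf W = ⊤ := by
    refine eq_top_iff.2 fun w _ => ?_
    obtain ⟨a, b, ha, hb, rfl⟩ := exists_mul_decomp s.hyp.pair w
    exact mul_mem (mem_sup_left (mem_sup_left ha)) (mem_sup_right hb)
  rw [← relIndex_top_right, ← hsup, relIndex_sup_left, ← inf_relIndex_right]
  have hinf : S ⊓ W₂.subgroupOf W = (H₀ ⊓ W₂).subgroupOf W := by
    refine le_antisymm (fun w hw => ?_) fun w hw => ⟨mem_sup_right hw.1, hw.2⟩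
    obtain ⟨hwS, hw2⟩ := hw
    obtain ⟨a, ha, b, hb, rfl⟩ := Subgroup.mem_sup.1 hwS
    have hbK : (b : L) ∈ K := s.H_le (s.le hb)
    have hb2 : (b : L) ∈ W₂ := s.hyp.mem_W₂_of_mem_K b hbK
    have ha1 : (a : L) = 1 := s.hyp.mem_inf_iff (s.hyp.le (by
      have := W₂.mul_mem hw2 (W₂.inv_mem hb2)
      simpa using this)) ha
    have : a = 1 := Subtype.ext ha1
    rw [this, one_mul]
    exact ⟨hb, hb2⟩
  rw [hinf, relIndex_subgroupOf le_sup_right, inf_relIndex_right, s.index_W₂]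

/-- Fixed characters trivial on `H₀` are trivial on every normal `A ≤ K` with `W₂ ⊓ A ≤ H₀`. -/
theorem fixedS_subset {A : Subgroup L} [A.Normal] (hA : A ≤ K) (hA2 : W₂ ⊓ A ≤ H₀) :
    haveI := s.K_normal
    fixedS K H W₁ H₀ ⊆ fixedS K H W₁ A := by
  haveI := s.K_normal
  haveI := s.H₀_normal
  intro θ hθ
  rw [fixedS, Finset.mem_filter, mem_thetasS] at hθ ⊢
  obtain ⟨⟨h1, h2⟩, hfix⟩ := hθ
  obtain ⟨ω, -, e⟩ := s.hyp.exists_theta θ.2 hfix
  refine ⟨⟨fun a ha => ?_, h2⟩, hfix⟩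
  have hω0 := (s.theta_ker_iff H₀ (s.le.trans s.H_le) ω).1 fun b hb => by rw [← e]; exact h1 b hb
  have := (s.theta_ker_iff A hA ω).2 fun w hw =>
    hω0 w (hA2 ⟨s.hyp.mem_W₂_of_mem_K w (hA hw), hw⟩)
  rw [e]
  exact this a ha

theorem fixedS_eq {A : Subgroup L} [A.Normal] (hA : A ≤ K) (hA2 : W₂ ⊓ A ≤ H₀) (h0 : H₀ ≤ A) :
    haveI := s.K_normal
    fixedS K H W₁ A = fixedS K H W₁ H₀ :=
  haveI := s.K_normal
  (Finset.filter_subset_filter _ (thetasS_mono h0)).antisymm (s.fixedS_subset hA hA2)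

/-- `H₀ C` is normal. -/
theorem HC_normal : (H₀ ⊔ U ⊓ sectionCent H H₀).Normal := by
  haveI := s.H_normal
  haveI := s.H₀_normal
  haveI := s.cent_normal
  set C := U ⊓ sectionCent H H₀ with hC
  have hU : ∀ x : L, x ∈ normalizer (U : Set L) → x ∈ normalizer ((H₀ ⊔ C : Subgroup L) : Set L) := by
    intro x hx
    refine Coprime.mem_normalizer_of_map_conj ?_
    rw [Subgroup.map_sup, hC, Subgroup.map_inf _ _ _ (MulAut.conj x).injective,
      Coprime.map_conj_eq hx,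
      Coprime.map_conj_eq (by rw [normalizer_eq_top]; exact mem_top x),
      Coprime.map_conj_eq (by rw [normalizer_eq_top]; exact mem_top x)]
  refine normalizer_eq_top_iff.1 (top_le_iff.1 ?_)
  rw [← s.hyp.sup_eq, ← s.sup]
  refine sup_le (sup_le ?_ fun x hx => hU x (le_normalizer hx)) fun x hx => hU x (s.norm_U hx)
  refine le_normalizer_iff_commutator_le_right.2 ((commutator_le.2 fun h hh g hg => ?_).trans le_sup_left)
  have hgc : g ∈ sectionCent H H₀ :=
    sup_le (s.le.trans s.H_le_cent) (inf_le_right : C ≤ sectionCent H H₀) hg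
  have h1 := H₀.inv_mem (mem_sectionCent_iff.1 hgc h hh)
  rwa [← commutatorElement_def, commutatorElement_inv] at h1

theorem HC_inf_H : (H₀ ⊔ U ⊓ sectionCent H H₀) ⊓ H ≤ H₀ := by
  haveI := s.H₀_normal
  intro x hx
  obtain ⟨hx1, hxH⟩ := hx
  have hx1' : x ∈ ((H₀ ⊔ U ⊓ sectionCent H H₀ : Subgroup L) : Set L) := hx1
  rw [Subgroup.normal_mul] at hx1'
  obtain ⟨a, ha, c, hc, rfl⟩ := Set.mem_mul.1 hx1'
  have hcH : c ∈ H := by
    have := H.mul_mem (H.inv_mem (s.le ha)) hxH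
    rwa [inv_mul_cancel_left] at this
  have : c = 1 := by
    have : c ∈ H ⊓ U := ⟨hcH, hc.1⟩
    rwa [s.inf, mem_bot] at this
  rwa [this, mul_one]

theorem HC_le : H₀ ⊔ U ⊓ sectionCent H H₀ ≤ K :=
  sup_le (s.le.trans s.H_le) (inf_le_left.trans s.U_le)

theorem A₀_le_HC : A₀ K H H₀ ≤ H₀ ⊔ U ⊓ sectionCent H H₀ := by
  haveI := s.HC_normal
  refine sup_le le_sup_left (commutator_le.2 fun x hx y hy => ?_)
  rw [s.N_eq] at hx hy
  haveI := s.H_normal
  rw [← SetLike.mem_coe, Subgroup.normal_mul] at hx hy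
  obtain ⟨h, hh, c, hc, rfl⟩ := Set.mem_mul.1 hx
  obtain ⟨k, hk, d, hd, rfl⟩ := Set.mem_mul.1 hy
  rw [← QuotientGroup.eq_one_iff]
  show (QuotientGroup.mk' _) ⁅h * c, k * d⁆ = 1
  rw [map_commutatorElement, map_mul, map_mul,
    (QuotientGroup.eq_one_iff c).2 (mem_sup_right hc) |> fun e => (show QuotientGroup.mk' (H₀ ⊔ U ⊓ sectionCent H H₀) c = 1 from e),
    (QuotientGroup.eq_one_iff d).2 (mem_sup_right hd) |> fun e => (show QuotientGroup.mk' (H₀ ⊔ U ⊓ sectionCent H H₀) d = 1 from e),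
    mul_one, mul_one, ← map_commutatorElement]
  exact (QuotientGroup.eq_one_iff _).2 (mem_sup_left (s.comm (commutator_mem_commutator hh hk)))

theorem fixedS_HC :
    haveI := s.K_normal
    fixedS K H W₁ (H₀ ⊔ U ⊓ sectionCent H H₀) = fixedS K H W₁ H₀ :=
  haveI := s.HC_normal
  s.fixedS_eq s.HC_le ((inf_le_inf_right _ s.W₂_le).trans (inf_comm H _ ▸ s.HC_inf_H)) le_sup_left

theorem fixedS_degree {θ : Cfsg.IrrCharacter K}
    (hθ : haveI := s.K_normal; θ ∈ fixedS K H W₁ H₀) :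
    (θ : K → ℂ) 1 = ((sectionCent H H₀).relIndex U : ℕ) := by
  haveI := s.K_normal
  rw [← s.fixedS_HC, fixedS, Finset.mem_filter] at hθ
  exact s.degree_fixed s.A₀_le_HC hθ.1 hθ.2

/-- A member is irreducible or comes from a fixed character. -/
theorem indFun_cases {A : Subgroup L} (hA : H₀ ≤ A) {θ : Cfsg.IrrCharacter K}
    (hθ : θ ∈ thetasS K H A) :
    haveI := s.K_normal
    (θ ∉ fixedS K H W₁ H₀ ∧ Cfsg.IsIrrCharacter L (Cfsg.indFun K (θ : K → ℂ))) ∨
      (θ ∈ fixedS K H W₁ H₀ ∧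
        Cfsg.indFun K (θ : K → ℂ) 1 = ((q * (sectionCent H H₀).relIndex U : ℕ) : ℂ) ∧
        Cfsg.classInner (Cfsg.indFun K (θ : K → ℂ)) (Cfsg.indFun K (θ : K → ℂ)) = q ∧
        ¬ Cfsg.IsIrrCharacter L (Cfsg.indFun K (θ : K → ℂ)) ∧
        ∀ θ' : Cfsg.IrrCharacter K,
          Cfsg.indFun K (θ' : K → ℂ) = Cfsg.indFun K (θ : K → ℂ) → θ' = θ) := by
  haveI := s.K_normal
  by_cases hfix : ∀ w ∈ W₁, CharInduce.conjFun K (θ : K → ℂ) w = θ
  · have hm : θ ∈ fixedS K H W₁ H₀ := Finset.mem_filter.2 ⟨thetasS_mono hA hθ, hfix⟩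
    have hI : inertia K (θ : K → ℂ) = ⊤ := by
      refine top_le_iff.1 (s.hyp.sup_eq ▸ sup_le ?_ fun w hw => (mem_inertia K).2 (hfix w hw))
      exact le_inertia K (CharBasic.IsIrr.isClassFunction θ.2)
    have hn : Cfsg.classInner (Cfsg.indFun K (θ : K → ℂ)) (Cfsg.indFun K (θ : K → ℂ)) = q := by
      rw [PF1.classInner_indFun_self K θ.2, hI, Subgroup.card_top, ← K.card_mul_index,
        s.hyp.index_eq, s.card_W₁, Nat.cast_mul, ← mul_assoc,
        inv_mul_cancel₀ (card_ne_zero_complex _), one_mul]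
    refine Or.inr ⟨hm, ?_, hn, fun hi => ?_, fun θ' e => ?_⟩
    · rw [indFun_one, s.fixedS_degree hm, s.hyp.index_eq, s.card_W₁, Nat.cast_mul]
    · rw [classInner_irr_self hi] at hn
      exact s.q_prime.one_lt.ne (Nat.cast_injective (R := ℂ) (by simpa using hn))
    · obtain ⟨x, hx⟩ := PF6.exists_conj_of_indFun_eq K θ.2 θ'.2 e.symm
      refine Subtype.ext (hx.trans ((mem_inertia K).1 ?_))
      rw [hI]
      exact mem_top x
  · push Not at hfix
    exact Or.inl ⟨fun hm => by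
      obtain ⟨w, hw, hne⟩ := hfix
      exact hne ((Finset.mem_filter.1 hm).2 w hw), (s.hyp.induce θ.2).1 hfix⟩

end Setting

end Cfsg.Agent.OddOrder.PF9
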