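import Cfsg.Agent.OddOrder.PF9.FrobModule
import Cfsg.Prelude.Def_Transfer

/-!
# The dichotomy of Peterfalvi (9.7) for a chief factor with Frobenius operators
-/

set_option autoImplicit false

namespace Cfsg.Agent.OddOrder

open Subgroup
open scoped IsMulCommutative

universe u

variable {X : Type u} [Group X] {H U E : Subgroup X}

/-- The Galois case: `H` is the additive group of a field with `p ^ |E|` elements on which `U` acts
by multiplications and `E` by field automorphisms, fixing exactly the prime field. -/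
def HasFieldModel (H U E : Subgroup X) (p : ℕ) : Prop :=
  ∃ (F : Type u) (_ : Field F) (_ : Finite F) (f : H → F) (ψ : U →* Fˣ) (σ : E →* (F ≃+* F)),
    Nat.card F = p ^ Nat.card E ∧ Function.Bijective f ∧ (∀ a b : H, f (a * b) = f a + f b) ∧
    (∀ (u : U) (h h' : H), (h' : X) = u * h * (u : X)⁻¹ → f h' = (ψ u : F) * f h) ∧
    (∀ (x : E) (h h' : H), (h' : X) = x * h * (x : X)⁻¹ → f h' = σ x (f h)) ∧
    Function.Injective σ ∧
    (∀ h : H, (h : X) ∈ centralizer (E : Set X) ↔ f h ^ p = f h) ∧
    (∀ u : U, ψ u = 1 ↔ (u : X) ∈ centralizer (H : Set X)) ∧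
    (∀ u : U, ψ u ^ (p - 1) = 1 → ψ u = 1) ∧
    (∀ N : Subgroup X, N ≤ H → U ≤ normalizer (N : Set X) → N = ⊥ ∨ N = H)

/-- The non-Galois case: `H` is generated by the conjugates under `E` of a `U`-invariant subgroup of
order `p`. -/
def HasSplitModel (H U E : Subgroup X) (p : ℕ) : Prop :=
  ∃ N : Subgroup X, N ≤ H ∧ U ≤ normalizer (N : Set X) ∧ Nat.card N = p ∧
    H = ⨆ x : E, N.map (MulAut.conj (x : X)).toMonoidHom

namespace ChiefData

variable [IsMulCommutative H] (D : ChiefData H U E) {W : AddSubgroup (Additive H)}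

include D

theorem exists_exponent [Finite X] :
    ∃ p : ℕ, p.Prime ∧ (∀ v : Additive H, p • v = 0) ∧ ∀ h ∈ H, h ^ p = 1 := by
  have : Nontrivial H := (Subgroup.nontrivial_iff_ne_bot H).2 D.ne
  obtain ⟨p, hp, hdvd⟩ := Nat.exists_prime_and_dvd (Nat.ne_of_gt (Finite.one_lt_card (α := H)))
  haveI := Fact.mk hp
  obtain ⟨z, hz⟩ := exists_prime_orderOf_dvd_card' p hdvd
  let T : AddSubgroup (Additive H) := (nsmulAddMonoidHom p : Additive H →+ Additive H).ker
  have hT : ∀ A : Subgroup X, Inv A T := fun A g _ v hv => by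
    show p • act H g v = 0
    rw [← map_nsmul, show p • v = 0 from hv, map_zero]
  have htop : T = ⊤ := (eq_bot_or_top D (hT U) (hT E)).resolve_left fun h => by
    have h1 : Additive.ofMul z ∈ T := by
      show p • Additive.ofMul z = 0
      rw [← ofMul_pow, ← hz, pow_orderOf_eq_one, ofMul_one]
    rw [h, AddSubgroup.mem_bot, ofMul_eq_zero] at h1
    rw [h1, orderOf_one] at hz
    exact hp.one_lt.ne hz
  have hv : ∀ v : Additive H, p • v = 0 := fun v => (htop ▸ AddSubgroup.mem_top v : v ∈ T)
  refine ⟨p, hp, hv, fun h hh => ?_⟩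
  have := congrArg (fun v => ((Additive.toMul v : H) : X)) (hv (Additive.ofMul ⟨h, hh⟩))
  simpa using this

theorem fix_card_dvd [Finite X] {p : ℕ} (hexp : ∀ h ∈ H, h ^ p = 1) :
    Nat.card ↥(H ⊓ centralizer (E : Set X)) ∣ p := by
  haveI := D.fixE
  rw [← IsCyclic.exponent_eq_card]
  exact Monoid.exponent_dvd_of_forall_pow_eq_one fun g => Subtype.ext (by
    simpa using hexp g g.2.1)

omit D in
theorem mem_fix_iff {hE : E ≤ normalizer (H : Set X)} (h : H) :
    (h : X) ∈ centralizer (E : Set X) ↔ ∀ x : E, opE hE x (Additive.ofMul h) = Additive.ofMul h := by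
  rw [mem_centralizer_iff]
  constructor
  · intro hh x
    apply Additive.toMul.injective
    apply Subtype.ext
    show (x : X) * h * (x : X)⁻¹ = h
    rw [hh x x.2, mul_inv_cancel_right]
  · intro hh x hx
    have := congrArg (fun v => ((Additive.toMul v : H) : X)) (hh ⟨x, hx⟩)
    exact mul_inv_eq_iff_eq_mul.1 this

/-- The split case. -/
theorem split_case [Finite X] {p : ℕ} (hp : p.Prime) (hexp : ∀ h ∈ H, h ^ p = 1)
    (hW : Inv U W) (hW0 : W ≠ ⊥) (hmin : ∀ W', W' ≤ W → Inv U W' → W' = ⊥ ∨ W' = W)
    (hdist : ∀ x y : E, x ≠ y → ∃ a ∈ ring H U, Kills a (shift D.normE x W) ∧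
      ¬ Kills a (shift D.normE y W)) :
    Nat.card ↥(H ⊓ centralizer (E : Set X)) = p ∧ Nat.card H = p ^ Nat.card E ∧
      HasSplitModel H U E p := by
  classical
  haveI : Fintype E := Fintype.ofFinite _
  have hWmin : ∀ (y : E) (W' : AddSubgroup (Additive H)), W' ≤ shift D.normE y W → Inv U W' →
      W' = ⊥ ∨ W' = shift D.normE y W := by
    intro y W' hle hinv
    rcases hmin (shift D.normE y⁻¹ W') (fun v hv => by
      have := hle hv
      rw [mem_shift, inv_inv] at this
      rwa [op_inv_apply D] at this) (inv_shift D hinv _) with h | h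
    · refine Or.inl ?_
      rw [eq_bot_iff]
      intro v hv
      have hh : opE D.normE y⁻¹ v ∈ shift D.normE y⁻¹ W' := op_mem_shift D hv
      rw [h, AddSubgroup.mem_bot] at hh
      rw [AddSubgroup.mem_bot, ← op_apply_inv D y v, hh, map_zero]
    · refine Or.inr (le_antisymm hle fun v hv => ?_)
      rw [mem_shift, ← h, mem_shift, inv_inv, op_apply_inv D] at hv
      exact hv
  have hsep : ∀ (y : E) (s : Finset E), y ∉ s → ∃ a ∈ ring H U,
      (∀ x ∈ s, Kills a (shift D.normE x W)) ∧ ¬ Kills a (shift D.normE y W) := by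
    intro y s
    induction s using Finset.induction_on with
    | empty =>
      refine fun _ => ⟨1, one_mem _, by simp, fun h => hW0 ?_⟩
      rw [eq_bot_iff]
      intro w hw
      have := h _ (op_mem_shift D (x := y) hw)
      rw [AddMonoid.End.coe_one, id_eq] at this
      rw [AddSubgroup.mem_bot, ← op_inv_apply D y w, this, map_zero]
    | insert x s _ ih =>
      intro hy
      rw [Finset.mem_insert, not_or] at hy
      obtain ⟨a, ha, hak, hay⟩ := ih hy.2
      obtain ⟨b, hb, hbk, hby⟩ := hdist x y (Ne.symm hy.1)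
      refine ⟨b * a, mul_mem hb ha, fun z hz => ?_, fun h => ?_⟩
      · rcases Finset.mem_insert.1 hz with rfl | hz
        · intro v hv
          rw [comm_ring D hb ha]
          show a (b v) = 0
          rw [hbk v hv, map_zero]
        · intro v hv
          show b (a v) = 0
          rw [hak z hz v hv, map_zero]
      · exact (kills_prime D (inv_shift D hW y) (hWmin y) ha h).elim hby hay
  let Φ : (E → W) →+ Additive H :=
    { toFun := fun f => ∑ x, opE D.normE x (f x : Additive H)
      map_zero' := by simp
      map_add' := fun f g => by simp [Finset.sum_add_distrib] }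
  have hinj : Function.Injective Φ := by
    rw [injective_iff_map_eq_zero]
    intro f hf
    funext y
    obtain ⟨a, ha, hak, hay⟩ := hsep y (Finset.univ.erase y) (Finset.notMem_erase _ _)
    have h1 : a (opE D.normE y (f y : Additive H)) = 0 := by
      have := congrArg a hf
      rw [map_zero] at this
      rw [← this]
      show _ = a (∑ x, opE D.normE x (f x : Additive H))
      rw [map_sum]
      refine (Finset.sum_eq_single (f := fun x => a (opE D.normE x (f x : Additive H))) y
        (fun x _ hx => ?_) (fun h => absurd (Finset.mem_univ y) h)).symm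
      exact hak x (Finset.mem_erase.2 ⟨hx, Finset.mem_univ _⟩) _ (op_mem_shift D (f x).2)
    have hinv : Inv U (shift D.normE y W ⊓ (a : Additive H →+ Additive H).ker) := by
      rintro g hg v ⟨hv1, hv2⟩
      refine ⟨inv_shift D hW y g hg v hv1, ?_⟩
      show a (act H g v) = 0
      rw [show a (act H g v) = (a * act H g) v from rfl, comm_ring D ha (act_mem_ring hg)]
      show act H g (a v) = 0
      rw [show a v = 0 from hv2, map_zero]
    rcases hWmin y _ inf_le_left hinv with h | h
    · have h2 : opE D.normE y (f y : Additive H) ∈ (⊥ : AddSubgroup (Additive H)) :=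
        h ▸ ⟨op_mem_shift D (f y).2, h1⟩
      rw [AddSubgroup.mem_bot] at h2
      apply Subtype.ext
      rw [← op_inv_apply D y (f y : Additive H), h2, map_zero]
      rfl
    · exact absurd (fun v hv => (h.ge hv).2) hay
  have hsurj : Function.Surjective Φ := by
    rw [← AddMonoidHom.range_eq_top, eq_top_iff, ← iSup_shift_eq_top D hW hW0]
    refine iSup_le fun x v hv => ?_
    refine ⟨fun z => if z = x then ⟨_, hv⟩ else 0, ?_⟩
    show ∑ z, opE D.normE z _ = v
    rw [Finset.sum_eq_single x (fun z _ hz => by simp [hz]) (by simp)]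
    simp [op_apply_inv D]
  have hcard : Nat.card H = Nat.card W ^ Nat.card E := by
    rw [← Nat.card_fun]
    exact (Nat.card_eq_of_bijective Φ ⟨hinj, hsurj⟩).symm
  -- the diagonal lands in the fixed points
  have hfix : Nat.card W ≤ Nat.card ↥(H ⊓ centralizer (E : Set X)) := by
    have hmem : ∀ w : W, ((Additive.toMul (Φ fun _ => w) : H) : X) ∈ centralizer (E : Set X) := by
      intro w
      rw [mem_fix_iff (hE := D.normE)]
      intro x
      show opE D.normE x (∑ z, opE D.normE z (w : Additive H)) = ∑ z, opE D.normE z (w : Additive H)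
      rw [map_sum]
      exact Fintype.sum_equiv (Equiv.mulLeft x) _ _ fun z => (op_mul_apply D x z _).symm
    refine Nat.card_le_card_of_injective (fun w =>
      (⟨_, (Additive.toMul (Φ fun _ => w) : H).2, hmem w⟩ : ↥(H ⊓ centralizer (E : Set X)))) ?_
    intro w w' h
    have h' : Φ (fun _ => w) = Φ (fun _ => w') :=
      Additive.toMul.injective (Subtype.ext (congrArg Subtype.val h :))
    exact congrFun (hinj h') 1
  have hWp : p ≤ Nat.card W := by
    obtain ⟨w, hw, hw0⟩ : ∃ w ∈ W, w ≠ 0 := by
      by_contra h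
      push Not at h
      exact hW0 (eq_bot_iff.2 fun w hw => AddSubgroup.mem_bot.2 (h w hw))
    haveI := Fact.mk hp
    have ho : addOrderOf (⟨w, hw⟩ : W) = p := by
      refine addOrderOf_eq_prime ?_ fun h => hw0 (congrArg Subtype.val h)
      apply Subtype.ext
      show p • w = 0
      apply Additive.toMul.injective
      apply Subtype.ext
      simpa using hexp _ (Additive.toMul w : H).2
    rw [← ho]
    exact Nat.le_of_dvd Nat.card_pos (addOrderOf_dvd_natCard _)
  have hfp := fix_card_dvd D hexp
  have hle := Nat.le_of_dvd hp.pos hfp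
  have hWcard : Nat.card W = p := le_antisymm (hfix.trans hle) hWp
  refine ⟨le_antisymm hle (hWp.trans hfix), by rw [hcard, hWcard], lift W, lift_le _,
    lift_normalizer D.normU hW, by rw [card_lift, hWcard], ?_⟩
  refine le_antisymm ?_ (iSup_le fun x => ?_)
  · intro h hh
    obtain ⟨f, hf⟩ := hsurj (Additive.ofMul ⟨h, hh⟩)
    let K : Subgroup X := ⨆ x : E, (lift W).map (MulAut.conj (x : X)).toMonoidHom
    have : ∀ s : Finset E,
        ((Additive.toMul (∑ x ∈ s, opE D.normE x (f x : Additive H)) : H) : X) ∈ K := by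
      intro s
      induction s using Finset.induction_on with
      | empty => simp
      | insert x s hx ih =>
        rw [Finset.sum_insert hx, toMul_add, Subgroup.coe_mul]
        refine mul_mem (mem_iSup_of_mem x ⟨_, (mem_lift W _).2 (f x).2, rfl⟩) ih
    have h2 := this Finset.univ
    rw [show ∑ x, opE D.normE x (f x : Additive H) = Φ f from rfl, hf] at h2
    exact h2
  · exact (Subgroup.map_mono (lift_le _)).trans_eq (Coprime.map_conj_eq (D.normE x.2))

/-- The field case. -/
theorem field_case [Finite X] {p : ℕ} (hp : p.Prime) (hpv : ∀ v : Additive H, p • v = 0)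
    (hexp : ∀ h ∈ H, h ^ p = 1)
    (hdom : ∀ a ∈ ring H U, ∀ b ∈ ring H U, a * b = 0 → a = 0 ∨ b = 0) :
    Nat.card ↥(H ⊓ centralizer (E : Set X)) = p ∧ Nat.card H = p ^ Nat.card E ∧
      HasFieldModel H U E p := by
  classical
  haveI := Fact.mk hp
  haveI : Fintype E := Fintype.ofFinite _
  have : Nontrivial H := (Subgroup.nontrivial_iff_ne_bot H).2 D.ne
  haveI : Finite (AddMonoid.End (Additive H)) :=
    Finite.of_injective (fun f => (f : Additive H → Additive H)) DFunLike.coe_injective
  let R := ring H U
  have h01 : (0 : R) ≠ 1 := fun h => by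
    obtain ⟨v, hv⟩ := exists_ne (0 : Additive H)
    exact hv (DFunLike.congr_fun (congrArg Subtype.val h) v).symm
  haveI : Fintype R := Fintype.ofFinite _
  letI : CommRing R :=
    { (inferInstance : Ring R) with mul_comm := fun a b => Subtype.ext (comm_ring D a.2 b.2) }
  haveI : Nontrivial R := ⟨0, 1, h01⟩
  haveI : NoZeroDivisors R := ⟨fun {a b} h => (hdom a a.2 b b.2 (congrArg Subtype.val h)).imp
    (fun h => Subtype.ext h) (fun h => Subtype.ext h)⟩
  haveI : IsDomain R := NoZeroDivisors.to_isDomain R
  letI : Field R := Fintype.fieldOfDomain R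
  letI : Module R (Additive H) :=
    { smul := fun r v => (r : AddMonoid.End (Additive H)) v
      one_smul := fun v => rfl
      mul_smul := fun r r' v => rfl
      smul_zero := fun r => map_zero (r : AddMonoid.End (Additive H))
      smul_add := fun r a b => map_add (r : AddMonoid.End (Additive H)) a b
      add_smul := fun r r' v => rfl
      zero_smul := fun v => rfl }
  have hsm : ∀ (r : R) (v : Additive H), r • v = (r : AddMonoid.End (Additive H)) v := fun _ _ => rfl
  have hee : ∀ x : E, opE D.normE x⁻¹ * opE D.normE x = 1 := fun x => by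
    rw [← map_mul, inv_mul_cancel, map_one]
  let cj : E → R → R := fun x r => ⟨_, conj_ring D x r.2⟩
  have cj_apply : ∀ (x : E) (r : R) (v : Additive H),
      opE D.normE x (r • v) = cj x r • opE D.normE x v := by
    intro x r v
    show _ = opE D.normE x ((r : AddMonoid.End (Additive H)) (opE D.normE x⁻¹ (opE D.normE x v)))
    rw [op_inv_apply D]
    rfl
  letI : MulSemiringAction E R :=
    { smul := cj
      one_smul := fun r => Subtype.ext (by
        show opE D.normE 1 * (r : AddMonoid.End (Additive H)) * opE D.normE 1⁻¹ = r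
        rw [inv_one, map_one, one_mul, mul_one])
      mul_smul := fun x y r => Subtype.ext (by
        show opE D.normE (x * y) * (r : AddMonoid.End (Additive H)) * opE D.normE (x * y)⁻¹ =
          opE D.normE x * (opE D.normE y * r * opE D.normE y⁻¹) * opE D.normE x⁻¹
        rw [mul_inv_rev, map_mul, map_mul]
        simp only [mul_assoc])
      smul_zero := fun x => Subtype.ext (by
        show opE D.normE x * 0 * opE D.normE x⁻¹ = 0
        rw [mul_zero, zero_mul])
      smul_add := fun x r r' => Subtype.ext (by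
        show opE D.normE x * ((r : AddMonoid.End (Additive H)) + r') * opE D.normE x⁻¹ = _
        rw [mul_add, add_mul]
        rfl)
      smul_one := fun x => Subtype.ext (by
        show opE D.normE x * 1 * opE D.normE x⁻¹ = 1
        rw [mul_one, ← map_mul, mul_inv_cancel, map_one])
      smul_mul := fun x r r' => Subtype.ext (by
        show opE D.normE x * ((r : AddMonoid.End (Additive H)) * r') * opE D.normE x⁻¹ =
          (opE D.normE x * r * opE D.normE x⁻¹) * (opE D.normE x * r' * opE D.normE x⁻¹)
        simp only [mul_assoc]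
        rw [← mul_assoc (opE D.normE x⁻¹) (opE D.normE x), hee, one_mul]) }
  have hfaith : ∀ x : E, (∀ r : R, x • r = r) → x = 1 := by
    intro x hx
    by_contra hx1
    refine D.ne (le_bot_iff.1 ?_)
    rw [← D.fixU]
    refine le_inf le_rfl fun h hh => mem_centralizer_iff.2 fun a ha => ?_
    have hac : a ∈ centralizer (H : Set X) := by
      refine D.fpf x x.2 (fun e => hx1 (Subtype.ext e)) a ha ?_
      let g : normalizer (H : Set X) := ⟨a, D.normU ha⟩
      let ι := Subgroup.inclusion D.normE x
      have e1 : act H ι * act H g * act H ι⁻¹ = act H g := by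
        have h := congrArg Subtype.val (hx ⟨act H g, act_mem_ring ha⟩)
        show opE D.normE x * act H g * act H (Subgroup.inclusion D.normE x)⁻¹ = _
        rw [← map_inv]
        exact h
      have e2 : act H (ι * g * ι⁻¹ * g⁻¹) = 1 := by
        rw [act_mul, act_mul, act_mul, e1, ← act_mul, mul_inv_cancel, act_one]
      simpa [ι, g] using (act_eq_one_iff H _).1 e2
    exact (mem_centralizer_iff.1 hac h hh).symm
  haveI : FaithfulSMul E R := ⟨fun {x y} h => by
    have := hfaith (y⁻¹ * x) fun r => by rw [mul_smul, h r, inv_smul_smul]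
    exact (inv_mul_eq_one.1 this).symm⟩
  -- a fixed nonzero vector
  obtain ⟨v, hv0, hvfix⟩ : ∃ v : Additive H, v ≠ 0 ∧ ∀ x : E, opE D.normE x v = v := by
    by_contra hnone
    push Not at hnone
    obtain ⟨v₀, hv₀⟩ := exists_ne (0 : Additive H)
    have hT : ∀ r : R, ∑ z : E, opE D.normE z (r • v₀) = 0 := by
      intro r
      by_contra h
      obtain ⟨x, hx⟩ := hnone _ h
      refine hx ?_
      rw [map_sum]
      exact Fintype.sum_equiv (Equiv.mulLeft x) _ _ fun z => (op_mul_apply D x z _).symm
    have hli := (linearIndependent_monoidHom R R).comp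
      (fun z : E => ((MulSemiringAction.toRingHom E R z : R →+* R) : R →* R)) (fun z z' h => by
        exact FaithfulSMul.eq_of_smul_eq_smul fun r => DFunLike.congr_fun h r)
    refine hv₀ ((Module.forall_dual_apply_eq_zero_iff R v₀).1 fun φ => ?_)
    have h0 := Fintype.linearIndependent_iff.1 hli (fun z => φ (opE D.normE z v₀)) (by
      funext r
      simp only [Finset.sum_apply, Pi.smul_apply, Function.comp_apply, smul_eq_mul, Pi.zero_apply]
      have := congrArg φ (hT r)
      rw [map_sum, map_zero] at this
      refine Eq.trans ?_ this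
      refine Finset.sum_congr rfl fun z _ => ?_
      rw [cj_apply, map_smul, smul_eq_mul, mul_comm]
      rfl) 1
    simpa using h0
  let ev : R →+ Additive H := AddMonoidHom.mk' (fun r => r • v) (fun r r' => add_smul r r' v)
  have hinj : Function.Injective ev := (injective_iff_map_eq_zero ev).2 fun r hr => by
    by_contra h
    have := congrArg (fun w => r⁻¹ • w) hr
    simp only [ev, AddMonoidHom.mk'_apply, smul_smul, inv_mul_cancel₀ h, one_smul, smul_zero] at this
    exact hv0 this
  have hsurj : Function.Surjective ev := by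
    rw [← AddMonoidHom.range_eq_top]
    refine (eq_bot_or_top D ?_ ?_).resolve_left fun h => hv0 ?_
    · rintro g hg _ ⟨r, rfl⟩
      exact ⟨⟨act H g, act_mem_ring hg⟩ * r, mul_smul (⟨act H g, act_mem_ring hg⟩ : R) r v⟩
    · rintro g hg _ ⟨r, rfl⟩
      refine ⟨cj ⟨g, hg⟩ r, ?_⟩
      show cj ⟨g, hg⟩ r • v = act H g (r • v)
      conv_lhs => rw [← hvfix ⟨g, hg⟩]
      rw [← cj_apply]
      rfl
    · have : ev 1 ∈ ev.range := ⟨1, rfl⟩
      rw [h, AddSubgroup.mem_bot] at this
      simpa [ev] using this
  let e : R ≃ Additive H := Equiv.ofBijective ev ⟨hinj, hsurj⟩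
  let f : H → R := fun h => e.symm (Additive.ofMul h)
  have hf : ∀ h, f h • v = Additive.ofMul h := fun h => e.apply_symm_apply _
  have hf_eq : ∀ (h : H) (r : R), r • v = Additive.ofMul h → f h = r := fun h r hr =>
    hinj (show ev (f h) = ev r by
      show f h • v = r • v
      rw [hf, hr])
  -- the fixed subfield is the prime field
  let F₀ := FixedPoints.subfield E R
  have hfixiff : ∀ h : H, (h : X) ∈ centralizer (E : Set X) ↔ f h ∈ F₀ := by
    intro h
    rw [mem_fix_iff (hE := D.normE)]
    have key : ∀ x : E, opE D.normE x (Additive.ofMul h) = (x • f h) • v := fun x => by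
      rw [← hf h, cj_apply, hvfix]
      rfl
    constructor
    · intro hh x
      refine (hf_eq h _ ?_).symm
      rw [← key, hh]
    · intro hh x
      rw [key, hh x, hf]
  have hp0 : (p : R) = 0 := hinj (by
    rw [map_zero]
    show (p : R) • v = 0
    rw [Nat.cast_smul_eq_nsmul, hpv])
  haveI : CharP R p := (CharP.charP_iff_prime_eq_zero hp).2 hp0
  have hF₀ : Nat.card F₀ = Nat.card ↥(H ⊓ centralizer (E : Set X)) := by
    refine Nat.card_congr
      { toFun := fun r => ⟨(Additive.toMul (ev r) : H), (Additive.toMul (ev r) : H).2, ?_⟩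
        invFun := fun h => ⟨f ⟨h, h.2.1⟩, (hfixiff _).1 h.2.2⟩
        left_inv := fun r => Subtype.ext (hf_eq _ _ rfl)
        right_inv := fun h => Subtype.ext ?_ }
    · refine (hfixiff _).2 ?_
      rw [hf_eq (Additive.toMul (ev r) : H) r rfl]
      exact r.2
    · show ((Additive.toMul (f ⟨h, h.2.1⟩ • v) : H) : X) = h
      rw [hf]
      rfl
  have hprime : Set.range (ZMod.castHom dvd_rfl R : ZMod p →+* R) ⊆ F₀ := by
    rintro _ ⟨i, rfl⟩ x
    rw [← ZMod.natCast_zmod_val i, map_natCast]
    exact map_natCast (MulSemiringAction.toRingHom E R x) _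
  have hfixp : Nat.card F₀ = p := by
    refine le_antisymm (hF₀ ▸ Nat.le_of_dvd hp.pos (fix_card_dvd D hexp)) ?_
    rw [← Nat.card_zmod p]
    exact Nat.card_le_card_of_injective
      (fun i => (⟨_, hprime ⟨i, rfl⟩⟩ : F₀)) fun i j hij =>
        (ZMod.castHom dvd_rfl R).injective (congrArg Subtype.val hij)
  have hR : Nat.card R = p ^ Nat.card E := by
    rw [Module.natCard_eq_pow_finrank (K := F₀) (V := R), FixedPoints.finrank_eq_card E R, hfixp,
      Nat.card_eq_fintype_card]
  have hfix_iff : ∀ r : R, r ∈ F₀ ↔ r ^ p = r := by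
    intro r
    constructor
    · intro hr
      haveI : Fintype F₀ := Fintype.ofFinite _
      have := FiniteField.pow_card (⟨r, hr⟩ : F₀)
      rw [← Nat.card_eq_fintype_card, hfixp] at this
      exact congrArg Subtype.val this
    · intro hr
      have hroot := ZMod.fieldRange_castHom_eq_bot p (K := R)
      rw [← Subfield.mem_bot_iff_pow_eq_self (F := R) (p := p)] at hr
      exact hprime (show r ∈ Set.range _ by rw [← RingHom.coe_fieldRange, hroot]; exact hr)
  refine ⟨hF₀.symm.trans hfixp, ?_, R, inferInstance, inferInstance, f,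
    MonoidHom.toHomUnits
      { toFun := fun a => (⟨act H ⟨a, D.normU a.2⟩, act_mem_ring a.2⟩ : R)
        map_one' := Subtype.ext (act_one H)
        map_mul' := fun a b => Subtype.ext
          (act_mul H ⟨a, D.normU a.2⟩ ⟨b, D.normU b.2⟩) },
    MulSemiringAction.toRingAut E R, hR, ?_, ?_, ?_, ?_, ?_, ?_, ?_, ?_, ?_⟩
  · rw [← hR]
    exact (Nat.card_congr e).symm
  · exact e.symm.bijective
  · intro a b
    refine hf_eq _ _ ?_
    rw [add_smul, hf, hf]
    rfl
  · intro a h h' he
    refine hf_eq _ _ ?_
    rw [mul_smul, hf]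
    exact Additive.toMul.injective (Subtype.ext he.symm)
  · intro x h h' he
    refine hf_eq _ _ ?_
    show cj x (f h) • v = _
    rw [← hvfix x, ← cj_apply, hf]
    exact Additive.toMul.injective (Subtype.ext he.symm)
  · intro x y hxy
    exact FaithfulSMul.eq_of_smul_eq_smul fun r => RingEquiv.congr_fun hxy r
  · exact fun h => (hfixiff h).trans (hfix_iff _)
  · intro a
    rw [← Units.val_inj, Subtype.ext_iff]
    exact act_eq_one_iff H _
  · intro a ha
    by_contra hne
    have hac : (a : X) ∉ centralizer (H : Set X) := fun h => hne (by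
      rw [← Units.val_inj, Subtype.ext_iff]
      exact (act_eq_one_iff H _).2 h)
    obtain ⟨x, hx⟩ : ∃ x : E, x ≠ 1 := by
      haveI : Nontrivial E := Finite.one_lt_card_iff_nontrivial.1 D.prime.one_lt
      exact exists_ne 1
    refine hac (D.fpf x x.2 (fun e => hx (Subtype.ext e)) a a.2 ?_)
    set r : R := ⟨act H ⟨a, D.normU a.2⟩, act_mem_ring a.2⟩ with hr_def
    have hr : r ^ p = r := by
      have h1 := congrArg Units.val ha
      rw [Units.val_pow_eq_pow_val, Units.val_one] at h1
      change r ^ (p - 1) = 1 at h1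
      conv_lhs => rw [← Nat.sub_add_cancel hp.pos, pow_succ, h1, one_mul]
    have hfx := congrArg Subtype.val ((hfix_iff r).2 hr x)
    let g : normalizer (H : Set X) := ⟨a, D.normU a.2⟩
    let ι := Subgroup.inclusion D.normE x
    have e1 : act H ι * act H g * act H ι⁻¹ = act H g := by
      show opE D.normE x * act H g * act H (Subgroup.inclusion D.normE x)⁻¹ = _
      rw [← map_inv]
      exact hfx
    have e2 : act H (ι * g * ι⁻¹ * g⁻¹) = 1 := by
      rw [act_mul, act_mul, act_mul, e1, ← act_mul, mul_inv_cancel, act_one]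
    simpa [ι, g] using (act_eq_one_iff H _).1 e2
  · intro N hNH hN
    by_cases hN0 : N = ⊥
    · exact Or.inl hN0
    refine Or.inr (le_antisymm hNH fun y hy => ?_)
    let WN : AddSubgroup (Additive H) := Subgroup.toAddSubgroup (N.subgroupOf H)
    have hWN : ∀ w : Additive H, w ∈ WN ↔ ((Additive.toMul w : H) : X) ∈ N := fun w => Iff.rfl
    have hinv : Inv U WN := fun g hg w hw => by
      rw [hWN] at hw ⊢
      rw [act_apply]
      exact Coprime.conj_mem (hN hg) hw
    obtain ⟨⟨n, hnN⟩, hn⟩ := (Subgroup.ne_bot_iff_exists_ne_one).1 hN0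
    set w : Additive H := Additive.ofMul ⟨n, hNH hnN⟩ with hw_def
    obtain ⟨r, hr⟩ := hsurj w
    have hr0 : r ≠ 0 := fun h0 => hn (Subtype.ext (by
      have h1 : w = 0 := by rw [← hr, h0, map_zero]
      have := congrArg (fun t => ((Additive.toMul t : H) : X)) h1
      simpa [w] using this))
    obtain ⟨s, hs⟩ := hsurj (Additive.ofMul ⟨y, hy⟩)
    have hsr : (s * r⁻¹) • w = Additive.ofMul ⟨y, hy⟩ := by
      rw [← hr]
      show (s * r⁻¹) • (r • v) = _
      rw [smul_smul, mul_assoc, inv_mul_cancel₀ hr0, mul_one]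
      exact hs
    have h2 := inv_ring hinv (s * r⁻¹).2 w ((hWN w).2 hnN)
    rw [← hsm, hsr, hWN] at h2
    exact h2

omit D

end ChiefData

open ChiefData in
/-- Peterfalvi (9.6), (9.7): a chief factor with Frobenius operators has order `p ^ q`, the fixed
points of `E` have order `p`, and either it is a field or it splits into conjugate lines. -/
theorem chief_dichotomy [Finite X] (D : ChiefData H U E) :
    ∃ p : ℕ, p.Prime ∧ Cfsg.IsElementaryAbelian p H ∧
      Nat.card ↥(H ⊓ centralizer (E : Set X)) = p ∧ Nat.card H = p ^ Nat.card E ∧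
      (HasFieldModel H U E p ∨ HasSplitModel H U E p) := by
  haveI : IsMulCommutative H :=
    IsMulCommutative.of_comm fun a b => Subtype.ext (D.comm a a.2 b b.2)
  obtain ⟨p, hp, hpv, hexp⟩ := exists_exponent D
  obtain ⟨W, hW0, hW, hmin⟩ := exists_minimal_inv (U := U) D.ne
  rcases domain_or_distinct D hW hW0 hmin with h | h
  · obtain ⟨h1, h2, h3⟩ := field_case D hp hpv hexp h
    exact ⟨p, hp, ⟨inferInstance, hexp⟩, h1, h2, Or.inl h3⟩
  · obtain ⟨h1, h2, h3⟩ := split_case D hp hexp hW hW0 hmin h
    exact ⟨p, hp, ⟨inferInstance, hexp⟩, h1, h2, Or.inr h3⟩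

end Cfsg.Agent.OddOrder
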