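import Mathlib
import Cfsg.Agent.Coprime.Basic

/-!
# A chief factor acted on by a Frobenius group `U E` with abelian action of `U`
(the module-theoretic core of Peterfalvi (9.6) and (9.7))

`H` is an abelian subgroup normalised by `U` and `E`, with no proper invariant subgroup, `E` has
prime order `e`, `C_H(U) = 1` and `C_H(E)` is cyclic.  The subring `R` of `End H` generated by `U`
is commutative and `E` acts on it.  Either `R` is a field over which `H` is one-dimensional, or `H`
is the direct product of `e` conjugate `U`-invariant subgroups of order `p`.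
-/

set_option autoImplicit false

namespace Cfsg.Agent.OddOrder

open Subgroup
open scoped IsMulCommutative

universe u

variable {X : Type u} [Group X]

/-- The hypotheses on a chief factor with its Frobenius group of operators. -/
structure ChiefData (H U E : Subgroup X) : Prop where
  comm : ∀ a ∈ H, ∀ b ∈ H, a * b = b * a
  normU : U ≤ normalizer (H : Set X)
  normE : E ≤ normalizer (H : Set X)
  normUE : E ≤ normalizer (U : Set X)
  ne : H ≠ ⊥
  prime : (Nat.card E).Prime
  minimal : ∀ N : Subgroup X, N ≤ H → U ≤ normalizer (N : Set X) → E ≤ normalizer (N : Set X) →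
    N = ⊥ ∨ N = H
  fixU : H ⊓ centralizer (U : Set X) = ⊥
  fixE : IsCyclic ↥(H ⊓ centralizer (E : Set X))
  comm_U : ∀ a ∈ U, ∀ b ∈ U, a * b * a⁻¹ * b⁻¹ ∈ centralizer (H : Set X)
  fpf : ∀ x ∈ E, x ≠ 1 → ∀ a ∈ U, x * a * x⁻¹ * a⁻¹ ∈ centralizer (H : Set X) →
    a ∈ centralizer (H : Set X)

namespace ChiefData

variable (H : Subgroup X) [IsMulCommutative H]

/-- Conjugation as an endomorphism of the additive group of `H`. -/
def act (g : normalizer (H : Set X)) : AddMonoid.End (Additive H) where
  toFun h := Additive.ofMul ⟨(g : X) * (Additive.toMul h : H) * (g : X)⁻¹,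
    Coprime.conj_mem g.2 (Additive.toMul h : H).2⟩
  map_zero' := by
    apply Additive.toMul.injective
    apply Subtype.ext
    simp
  map_add' a b := by
    apply Additive.toMul.injective
    apply Subtype.ext
    simp [mul_assoc]

theorem act_apply (g : normalizer (H : Set X)) (h : Additive H) :
    ((Additive.toMul (act H g h) : H) : X) = (g : X) * (Additive.toMul h : H) * (g : X)⁻¹ := rfl

theorem act_mul (g g' : normalizer (H : Set X)) : act H (g * g') = act H g * act H g' := by
  refine DFunLike.ext _ _ fun h => ?_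
  apply Additive.toMul.injective
  apply Subtype.ext
  show ((g * g' : normalizer (H : Set X)) : X) * _ * _ = _
  simp only [AddMonoid.End.coe_mul, Function.comp_apply, act_apply, Subgroup.coe_mul, mul_inv_rev,
    mul_assoc]

theorem act_one : act H 1 = 1 := by
  refine DFunLike.ext _ _ fun h => ?_
  apply Additive.toMul.injective
  apply Subtype.ext
  simp [act_apply]

theorem act_eq_one_iff (g : normalizer (H : Set X)) :
    act H g = 1 ↔ (g : X) ∈ centralizer (H : Set X) := by
  rw [mem_centralizer_iff]
  constructor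
  · intro h x hx
    have := congrArg (fun f : AddMonoid.End (Additive H) =>
      ((Additive.toMul (f (Additive.ofMul ⟨x, hx⟩)) : H) : X)) h
    simp only [act_apply, AddMonoid.End.coe_one, id_eq, toMul_ofMul] at this
    exact (mul_inv_eq_iff_eq_mul.1 this).symm
  · intro h
    refine DFunLike.ext _ _ fun x => ?_
    apply Additive.toMul.injective
    apply Subtype.ext
    rw [act_apply, AddMonoid.End.coe_one, id_eq, ← h _ (Additive.toMul x : H).2, mul_inv_cancel_right]

/-- The subring generated by the action of `U`. -/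
def ring (U : Subgroup X) : Subring (AddMonoid.End (Additive H)) :=
  Subring.closure (act H '' {g | (g : X) ∈ U})

variable {H : Subgroup X} [IsMulCommutative H] {U E : Subgroup X}

theorem act_mem_ring {g : normalizer (H : Set X)} (hg : (g : X) ∈ U) : act H g ∈ ring H U :=
  Subring.subset_closure ⟨g, hg, rfl⟩

/-- `R` preserves every `U`-invariant subgroup of `H`. -/
theorem ring_preserves {N : Subgroup X} (hN : U ≤ normalizer (N : Set X))
    {r : AddMonoid.End (Additive H)} (hr : r ∈ ring H U) :
    ∀ h : Additive H, ((Additive.toMul h : H) : X) ∈ N → ((Additive.toMul (r h) : H) : X) ∈ N := by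
  induction hr using Subring.closure_induction with
  | mem x hx =>
    obtain ⟨g, hg, rfl⟩ := hx
    intro h hh
    rw [act_apply]
    exact Coprime.conj_mem (hN hg) hh
  | zero => intro h _; simp
  | one => intro h hh; simpa using hh
  | add x y _ _ ihx ihy =>
    intro h hh
    show ((Additive.toMul (x h + y h) : H) : X) ∈ N
    simpa using mul_mem (ihx h hh) (ihy h hh)
  | neg x _ ih =>
    intro h hh
    show ((Additive.toMul (-(x h)) : H) : X) ∈ N
    simpa using ih h hh
  | mul x y _ _ ihx ihy =>
    intro h hh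
    simpa using ihx _ (ihy h hh)

variable (D : ChiefData H U E)

include D

theorem comm_ring {a b : AddMonoid.End (Additive H)} (ha : a ∈ ring H U) (hb : b ∈ ring H U) :
    a * b = b * a := by
  refine Subring.closure_induction₂ (p := fun x y _ _ => x * y = y * x) ?_ ?_ ?_ ?_ ?_ ?_ ?_ ?_ ?_
    ?_ ?_ ha hb
  · rintro _ _ ⟨g, hg, rfl⟩ ⟨g', hg', rfl⟩
    have h1 : act H (g * g' * g⁻¹ * g'⁻¹) = 1 :=
      (act_eq_one_iff H _).2 (by simpa using D.comm_U _ hg _ hg')
    have h2 : act H (g * g' * g⁻¹ * g'⁻¹) * act H (g' * g) = act H (g * g') := by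
      rw [← act_mul]
      congr 1
      group
    rw [h1, one_mul, act_mul, act_mul] at h2
    exact h2.symm
  · intros; rw [zero_mul, mul_zero]
  · intros; rw [zero_mul, mul_zero]
  · intros; rw [one_mul, mul_one]
  · intros; rw [one_mul, mul_one]
  · intro x y _ _ h; exact Commute.neg_left (h : Commute x y)
  · intro x y _ _ h; exact Commute.neg_right (h : Commute x y)
  · intro x y z _ _ _ h h'; rw [add_mul, mul_add, h, h']
  · intro x y z _ _ _ h h'; rw [add_mul, mul_add, h, h']
  · intro x y z _ _ _ h h'; rw [mul_assoc, h', ← mul_assoc, h, mul_assoc]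
  · intro x y z _ _ _ h h'; rw [← mul_assoc, h, mul_assoc, h', mul_assoc]

omit D

/-- `W` is invariant under the action of `U`. -/
def Inv (U : Subgroup X) (W : AddSubgroup (Additive H)) : Prop :=
  ∀ g : normalizer (H : Set X), (g : X) ∈ U → ∀ v ∈ W, act H g v ∈ W

/-- The subgroup of `X` underlying an additive subgroup of `H`. -/
def lift (W : AddSubgroup (Additive H)) : Subgroup X := (AddSubgroup.toSubgroup' W).map H.subtype

theorem mem_lift (W : AddSubgroup (Additive H)) (h : H) : (h : X) ∈ lift W ↔ Additive.ofMul h ∈ W := by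
  show _ ∈ Subgroup.map _ _ ↔ _
  rw [Subgroup.mem_map]
  exact ⟨fun ⟨y, hy, he⟩ => Subtype.ext he ▸ hy, fun hh => ⟨h, hh, rfl⟩⟩

theorem lift_le (W : AddSubgroup (Additive H)) : lift W ≤ H := map_subtype_le _

theorem card_lift (W : AddSubgroup (Additive H)) : Nat.card (lift W) = Nat.card W := by
  rw [lift, Subgroup.card_map_of_injective H.subtype_injective]
  rfl

theorem lift_injective : Function.Injective (lift (H := H)) := by
  intro W W' h
  ext v
  rw [show v = Additive.ofMul (Additive.toMul v) from rfl, ← mem_lift, ← mem_lift, h]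

theorem lift_normalizer [Finite X] {W : AddSubgroup (Additive H)} {A : Subgroup X}
    (hA : A ≤ normalizer (H : Set X)) (hW : Inv A W) : A ≤ normalizer (lift W : Set X) := by
  rw [le_normalizer_iff]
  intro a ha v hv
  have h := hW ⟨a, hA ha⟩ ha (Additive.ofMul (⟨v, lift_le W hv⟩ : H))
    ((mem_lift W ⟨v, lift_le W hv⟩).1 hv)
  rw [← ofMul_toMul (act H ⟨a, hA ha⟩ _), ← mem_lift] at h
  simpa [act_apply] using h

theorem inv_ring {W : AddSubgroup (Additive H)} (hW : Inv U W) {r : AddMonoid.End (Additive H)}
    (hr : r ∈ ring H U) : ∀ v ∈ W, r v ∈ W := by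
  induction hr using Subring.closure_induction with
  | mem x hx => obtain ⟨g, hg, rfl⟩ := hx; exact hW g hg
  | zero => intro v _; exact zero_mem W
  | one => intro v hv; exact hv
  | add x y _ _ ihx ihy => intro v hv; exact add_mem (ihx v hv) (ihy v hv)
  | neg x _ ih => intro v hv; exact neg_mem (ih v hv)
  | mul x y _ _ ihx ihy => intro v hv; exact ihx _ (ihy v hv)

include D

/-- Only trivial additive subgroups are invariant under `U` and `E`. -/
theorem eq_bot_or_top [Finite X] {W : AddSubgroup (Additive H)} (hU : Inv U W) (hE : Inv E W) :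
    W = ⊥ ∨ W = ⊤ := by
  have hbot : lift (⊥ : AddSubgroup (Additive H)) = ⊥ :=
    Subgroup.eq_bot_of_card_eq _ (by rw [card_lift]; exact AddSubgroup.card_bot)
  have htop : lift (⊤ : AddSubgroup (Additive H)) = H :=
    le_antisymm (lift_le _) fun h hh => (mem_lift ⊤ ⟨h, hh⟩).2 trivial
  rcases D.minimal _ (lift_le W) (lift_normalizer D.normU hU) (lift_normalizer D.normE hE) with h | h
  · exact Or.inl (lift_injective (h.trans hbot.symm))
  · exact Or.inr (lift_injective (h.trans htop.symm))

omit D

/-- The elements of `E` as operators. -/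
def opE (hE : E ≤ normalizer (H : Set X)) : E →* AddMonoid.End (Additive H) where
  toFun x := act H (Subgroup.inclusion hE x)
  map_one' := by rw [map_one, act_one]
  map_mul' x y := by rw [map_mul, act_mul]

include D

theorem op_inv_apply (x : E) (v : Additive H) : opE D.normE x⁻¹ (opE D.normE x v) = v := by
  show (opE D.normE x⁻¹ * opE D.normE x) v = v
  rw [← map_mul, inv_mul_cancel, map_one]
  rfl

/-- `E` normalises `R`. -/
theorem conj_ring (x : E) {r : AddMonoid.End (Additive H)} (hr : r ∈ ring H U) :
    opE D.normE x * r * opE D.normE x⁻¹ ∈ ring H U := by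
  have hxx : opE D.normE x * opE D.normE x⁻¹ = 1 := by rw [← map_mul, mul_inv_cancel, map_one]
  have hxx' : opE D.normE x⁻¹ * opE D.normE x = 1 := by rw [← map_mul, inv_mul_cancel, map_one]
  induction hr using Subring.closure_induction with
  | mem y hy =>
    obtain ⟨g, hg, rfl⟩ := hy
    show act H _ * act H g * act H _ ∈ _
    rw [← act_mul, ← act_mul]
    refine act_mem_ring ?_
    simpa using Coprime.conj_mem (D.normUE x.2) hg
  | zero => simp
  | one => rw [mul_one, hxx]; exact one_mem _
  | add a b _ _ iha ihb => rw [mul_add, add_mul]; exact add_mem iha ihb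
  | neg a _ ih =>
    rw [show opE D.normE x * -a * opE D.normE x⁻¹ = -(opE D.normE x * a * opE D.normE x⁻¹) from
      DFunLike.ext _ _ fun v => map_neg (opE D.normE x) _]
    exact neg_mem ih
  | mul a b _ _ iha ihb =>
    rw [show opE D.normE x * (a * b) * opE D.normE x⁻¹ =
      (opE D.normE x * a * opE D.normE x⁻¹) * (opE D.normE x * b * opE D.normE x⁻¹) by
        simp only [mul_assoc]; rw [← mul_assoc (opE D.normE x⁻¹) (opE D.normE x), hxx', one_mul]]
    exact mul_mem iha ihb

omit D

/-- `r` annihilates `W`. -/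
def Kills (r : AddMonoid.End (Additive H)) (W : AddSubgroup (Additive H)) : Prop := ∀ v ∈ W, r v = 0

/-- A minimal `U`-invariant subgroup. -/
theorem exists_minimal_inv [Finite X] (hne : H ≠ ⊥) :
    ∃ W : AddSubgroup (Additive H), W ≠ ⊥ ∧ Inv U W ∧
      ∀ W', W' ≤ W → Inv U W' → W' = ⊥ ∨ W' = W := by
  have : Nontrivial H := (Subgroup.nontrivial_iff_ne_bot H).2 hne
  obtain ⟨W, hW⟩ := (Set.toFinite {W : AddSubgroup (Additive H) | W ≠ ⊥ ∧ Inv U W}).exists_minimal
    ⟨⊤, top_ne_bot, fun _ _ _ _ => trivial⟩
  refine ⟨W, hW.1.1, hW.1.2, fun W' hle hinv => ?_⟩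
  by_cases h : W' = ⊥
  · exact Or.inl h
  · exact Or.inr (le_antisymm hle (hW.2 ⟨h, hinv⟩ hle))

variable {W : AddSubgroup (Additive H)}

/-- The image of `W` under an element of `E`. -/
def shift (hE : E ≤ normalizer (H : Set X)) (x : E) (W : AddSubgroup (Additive H)) :
    AddSubgroup (Additive H) where
  carrier := {v | opE hE x⁻¹ v ∈ W}
  zero_mem' := show opE hE x⁻¹ 0 ∈ W by rw [map_zero]; exact zero_mem W
  add_mem' := fun {a b} ha hb => show opE hE x⁻¹ (a + b) ∈ W by rw [map_add]; exact add_mem ha hb
  neg_mem' := fun {a} ha => show opE hE x⁻¹ (-a) ∈ W by rw [map_neg]; exact neg_mem ha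

include D

theorem op_apply_inv (x : E) (v : Additive H) : opE D.normE x (opE D.normE x⁻¹ v) = v := by
  have := op_inv_apply D x⁻¹ v
  rwa [inv_inv] at this

theorem op_mul_apply (x y : E) (v : Additive H) :
    opE D.normE (x * y) v = opE D.normE x (opE D.normE y v) := by
  rw [map_mul]
  rfl

omit D in
theorem mem_shift {hE : E ≤ normalizer (H : Set X)} {x : E} {v : Additive H} :
    v ∈ shift hE x W ↔ opE hE x⁻¹ v ∈ W := Iff.rfl

theorem op_mem_shift {x : E} {v : Additive H} (h : v ∈ W) :
    opE D.normE x v ∈ shift D.normE x W := by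
  rw [mem_shift, op_inv_apply D]
  exact h

theorem inv_shift (hW : Inv U W) (x : E) : Inv U (shift D.normE x W) := by
  intro g hg v hv
  rw [mem_shift] at hv ⊢
  let g' : normalizer (H : Set X) :=
    (Subgroup.inclusion D.normE x)⁻¹ * g * Subgroup.inclusion D.normE x
  have hg' : (g' : X) ∈ U := by simpa [g'] using Coprime.conj_mem' (D.normUE x.2) hg
  have := hW g' hg' _ hv
  have e : act H g' * opE D.normE x⁻¹ = opE D.normE x⁻¹ * act H g := by
    show act H g' * act H _ = act H _ * act H g
    rw [← act_mul, ← act_mul]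
    congr 1
    simp only [g', map_inv]
    group
  rw [show act H g' (opE D.normE x⁻¹ v) = (act H g' * opE D.normE x⁻¹) v from rfl, e] at this
  exact this

theorem kills_shift {x : E} {r : AddMonoid.End (Additive H)} :
    Kills (opE D.normE x * r * opE D.normE x⁻¹) (shift D.normE x W) ↔ Kills r W := by
  constructor
  · intro h w hw
    have h1 : opE D.normE x (r (opE D.normE x⁻¹ (opE D.normE x w))) = 0 :=
      h (opE D.normE x w) (op_mem_shift D hw)
    rw [op_inv_apply D] at h1
    have := congrArg (opE D.normE x⁻¹) h1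
    rwa [op_inv_apply D, map_zero] at this
  · intro h v hv
    show opE D.normE x (r (opE D.normE x⁻¹ v)) = 0
    rw [h _ hv, map_zero]

theorem kills_prime (hW : Inv U W) (hmin : ∀ W', W' ≤ W → Inv U W' → W' = ⊥ ∨ W' = W)
    {a b : AddMonoid.End (Additive H)} (hb : b ∈ ring H U)
    (hab : Kills (a * b) W) : Kills a W ∨ Kills b W := by
  have hI : Inv U (W.map (b : Additive H →+ Additive H)) := by
    rintro g hg _ ⟨w, hw, rfl⟩
    refine ⟨act H g w, hW g hg w hw, ?_⟩
    exact DFunLike.congr_fun (comm_ring D hb (act_mem_ring hg)) w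
  rcases hmin _ (by rintro _ ⟨w, hw, rfl⟩; exact inv_ring hW hb w hw) hI with h | h
  · refine Or.inr fun w hw => ?_
    have : b w ∈ W.map (b : Additive H →+ Additive H) := ⟨w, hw, rfl⟩
    rwa [h, AddSubgroup.mem_bot] at this
  · refine Or.inl fun w hw => ?_
    rw [← h] at hw
    obtain ⟨w', hw', rfl⟩ := hw
    exact hab w' hw'

theorem iSup_shift_eq_top [Finite X] (hW : Inv U W) (hW0 : W ≠ ⊥) :
    (⨆ x : E, shift D.normE x W) = ⊤ := by
  have hone : shift D.normE 1 W = W := by
    ext v
    rw [mem_shift, inv_one, map_one]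
    rfl
  refine (eq_bot_or_top D ?_ ?_).resolve_left fun h => hW0 ?_
  · intro g hg v hv
    induction hv using AddSubgroup.iSup_induction' with
    | hp x v hv => exact AddSubgroup.mem_iSup_of_mem x (inv_shift D hW x g hg v hv)
    | h1 => simp
    | hadd v v' _ _ h h' => rw [map_add]; exact add_mem h h'
  · intro g hg v hv
    induction hv using AddSubgroup.iSup_induction' with
    | hp x v hv =>
      refine AddSubgroup.mem_iSup_of_mem (⟨g, hg⟩ * x) ?_
      show opE D.normE (⟨g, hg⟩ * x : E)⁻¹ (opE D.normE ⟨g, hg⟩ v) ∈ W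
      rw [mul_inv_rev, op_mul_apply D, op_inv_apply D]
      exact hv
    | h1 => simp
    | hadd v v' _ _ h h' => rw [map_add]; exact add_mem h h'
  · rw [eq_bot_iff, ← h]
    exact le_iSup_of_le 1 hone.ge

/-- Either `R` is a domain, or the shifts of `W` have distinct annihilators. -/
theorem domain_or_distinct [Finite X] (hW : Inv U W) (hW0 : W ≠ ⊥)
    (hmin : ∀ W', W' ≤ W → Inv U W' → W' = ⊥ ∨ W' = W) :
    (∀ a ∈ ring H U, ∀ b ∈ ring H U, a * b = 0 → a = 0 ∨ b = 0) ∨
      ∀ x y : E, x ≠ y → ∃ a ∈ ring H U, Kills a (shift D.normE x W) ∧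
        ¬ Kills a (shift D.normE y W) := by
  classical
  haveI : Finite (AddMonoid.End (Additive H)) := Finite.of_injective (fun f => (f : Additive H → Additive H))
    DFunLike.coe_injective
  let S : E → Set (AddMonoid.End (Additive H)) := fun x =>
    {r | r ∈ ring H U ∧ Kills r (shift D.normE x W)}
  have hshift : ∀ x y : E, shift D.normE x (shift D.normE y W) = shift D.normE (x * y) W := by
    intro x y
    ext v
    simp only [mem_shift, mul_inv_rev, op_mul_apply D]
  have hone : shift D.normE 1 W = W := by
    ext v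
    rw [mem_shift, inv_one, map_one]
    rfl
  have himg : ∀ x y : E, S (x * y) =
      (fun r => opE D.normE x * r * opE D.normE x⁻¹) '' S y := by
    intro x y
    ext r
    constructor
    · rintro ⟨hr, hk⟩
      refine ⟨opE D.normE x⁻¹ * r * opE D.normE x⁻¹⁻¹, ⟨conj_ring D x⁻¹ hr, ?_⟩, ?_⟩
      · have := (kills_shift D (x := x⁻¹) (r := r)).2 hk
        rwa [hshift, inv_mul_cancel_left] at this
      · simp only [inv_inv, ← mul_assoc, ← map_mul, mul_inv_cancel, map_one, one_mul]
        simp only [mul_assoc, ← map_mul, mul_inv_cancel, map_one, mul_one]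
    · rintro ⟨r, ⟨hr, hk⟩, rfl⟩
      exact ⟨conj_ring D x hr, hshift x y ▸ (kills_shift D).2 hk⟩
  by_cases hall : ∀ x : E, S x = S 1
  · refine Or.inl fun a ha b hb hab => ?_
    have hkill : ∀ r ∈ ring H U, Kills r W → r = 0 := by
      intro r hr hk
      have hsum := iSup_shift_eq_top D hW hW0
      refine DFunLike.ext _ _ fun v => ?_
      have hv : v ∈ ⨆ x : E, shift D.normE x W := hsum ▸ trivial
      induction hv using AddSubgroup.iSup_induction' with
      | hp x v hv =>
        have : r ∈ S x := by
          rw [hall x]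
          exact ⟨hr, hone.symm ▸ hk⟩
        exact this.2 v hv
      | h1 => simp
      | hadd v v' _ _ h h' => rw [map_add, map_add, h, h']
    rcases kills_prime D hW hmin hb (fun v _ => by rw [hab]; rfl) with h | h
    · exact Or.inl (hkill a ha h)
    · exact Or.inr (hkill b hb h)
  · refine Or.inr fun x y hxy => ?_
    by_contra hnot
    push Not at hnot
    have hsub : S x ⊆ S y := fun r hr => ⟨hr.1, hnot r hr.1 hr.2⟩
    have hc : ∀ z : E, (S z).ncard = (S 1).ncard := by
      intro z
      rw [← mul_one z, himg z 1]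
      refine Set.ncard_image_of_injective _ fun r r' h => ?_
      have hz1 : opE D.normE z⁻¹ * opE D.normE z = 1 := by rw [← map_mul, inv_mul_cancel, map_one]
      calc r = (opE D.normE z⁻¹ * opE D.normE z) * r * (opE D.normE z⁻¹ * opE D.normE z) := by
            rw [hz1, one_mul, mul_one]
        _ = opE D.normE z⁻¹ * (opE D.normE z * r * opE D.normE z⁻¹) * opE D.normE z := by
            simp only [mul_assoc]
        _ = opE D.normE z⁻¹ * (opE D.normE z * r' * opE D.normE z⁻¹) * opE D.normE z :=
            congrArg (fun t => opE D.normE z⁻¹ * t * opE D.normE z) h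
        _ = (opE D.normE z⁻¹ * opE D.normE z) * r' * (opE D.normE z⁻¹ * opE D.normE z) := by
            simp only [mul_assoc]
        _ = r' := by rw [hz1, one_mul, mul_one]
    have heq : S x = S y := Set.eq_of_subset_of_ncard_le hsub ((hc y).trans (hc x).symm).le
    let K : Subgroup E :=
      { carrier := {z | ∀ t, S (z * t) = S t}
        one_mem' := fun t => by rw [one_mul]
        mul_mem' := fun {a b} ha hb t => by rw [mul_assoc, ha, hb]
        inv_mem' := fun {a} ha t => by
          have := ha (a⁻¹ * t)
          rwa [mul_inv_cancel_left, eq_comm] at this }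
    have hEc : ∀ a b : E, a * b = b * a := by
      haveI : IsCyclic E := isCyclic_of_prime_card (hp := ⟨D.prime⟩) rfl
      letI : CommGroup E := IsCyclic.commGroup
      exact mul_comm
    have hz : x * y⁻¹ ∈ K := by
      intro t
      have e1 : x * y⁻¹ * t = t * y⁻¹ * x := by
        rw [hEc (x * y⁻¹) t, hEc x y⁻¹, mul_assoc]
      rw [e1, himg, heq, ← himg, inv_mul_cancel_right]
    haveI := Fact.mk D.prime
    rcases K.eq_bot_or_eq_top_of_prime_card with h | h
    · rw [h, Subgroup.mem_bot, mul_inv_eq_one] at hz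
      exact hxy hz
    · refine hall fun z => ?_
      have := (h ▸ Subgroup.mem_top z : z ∈ K) 1
      rwa [mul_one] at this

end ChiefData

end Cfsg.Agent.OddOrder
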