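import Cfsg.Agent.OddOrder.PF9.Setting

/-!
# Degrees of the characters of `K` trivial on `H₀ (H C)'` and nontrivial on `H`
-/

set_option autoImplicit false
set_option linter.style.haveILetI false
set_option linter.unusedSectionVars false

namespace Cfsg.Agent.OddOrder.PF9

open scoped ComplexConjugate
open scoped commutatorElement
open Cfsg.Agent Cfsg.Agent.CharBasic Cfsg.Agent.CharInduce Subgroup Finset
open scoped Classical

universe u

variable {L : Type u} [Group L] [Fintype L]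

/-- The irreducible characters of `K` trivial on `A ⊓ K` and nontrivial on `H`. -/
noncomputable def thetasS (K H A : Subgroup L) : Finset (Cfsg.IrrCharacter K) :=
  (PF6.thetas K A).filter fun θ => ∃ a : K, (a : L) ∈ H ∧ (θ : K → ℂ) a ≠ (θ : K → ℂ) 1

theorem mem_thetasS {K H A : Subgroup L} {θ : Cfsg.IrrCharacter K} :
    θ ∈ thetasS K H A ↔ (∀ a : K, (a : L) ∈ A → (θ : K → ℂ) a = (θ : K → ℂ) 1) ∧
      ∃ a : K, (a : L) ∈ H ∧ (θ : K → ℂ) a ≠ (θ : K → ℂ) 1 := by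
  classical
  rw [thetasS, Finset.mem_filter, PF6.mem_thetas]
  refine ⟨fun h => ⟨h.1.2, h.2⟩, fun h => ⟨⟨fun e => ?_, h.1⟩, h.2⟩⟩
  obtain ⟨a, -, ha⟩ := h.2
  exact ha (by rw [e])

/-- `N` of the setting inside `K`. -/
abbrev NK (K H H₀ : Subgroup L) : Subgroup K := (K ⊓ sectionCent H H₀).subgroupOf K

/-- `H₀ (H C)'`. -/
abbrev A₀ (K H H₀ : Subgroup L) : Subgroup L :=
  H₀ ⊔ ⁅K ⊓ sectionCent H H₀, K ⊓ sectionCent H H₀⁆

variable {K H H₀ U W₁ W₂ : Subgroup L} {p q : ℕ}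

namespace Setting

variable (s : Setting K H H₀ U W₁ W₂ p q)

include s

theorem NK_normal : (NK K H H₀).Normal :=
  haveI := s.N_normal
  inferInstance

theorem NK_commutator (x y : K) : x * y * x⁻¹ * y⁻¹ ∈ NK K H H₀ := by
  rw [mem_subgroupOf, Subgroup.coe_mul, Subgroup.coe_mul, Subgroup.coe_mul, InvMemClass.coe_inv,
    InvMemClass.coe_inv, ← commutatorElement_def]
  exact s.commutator_K_le (commutator_mem_commutator x.2 y.2)

theorem mem_NK_of_mem_H {a : K} (ha : (a : L) ∈ H) : a ∈ NK K H H₀ :=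
  mem_subgroupOf.2 ⟨a.2, s.H_le_cent ha⟩

theorem A₀_normal : (A₀ K H H₀).Normal :=
  haveI := s.N_normal
  haveI := s.H₀_normal
  inferInstance

theorem A₀_le : A₀ K H H₀ ≤ K ⊓ sectionCent H H₀ :=
  sup_le (le_inf (s.le.trans s.H_le) (s.le.trans s.H_le_cent)) (commutator_le_self _)

/-- The linear constituent on `N`. -/
theorem exists_l {A : Subgroup L} (hA : A₀ K H H₀ ≤ A) {θ : Cfsg.IrrCharacter K}
    (hθ : θ ∈ thetasS K H A) :
    ∃ l : NK K H H₀ →* ℂˣ,
      Cfsg.classInner (fun n : NK K H H₀ => (θ : K → ℂ) n) (fun n => (l n : ℂ)) ≠ 0 ∧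
      (∀ n : NK K H H₀, ((n : K) : L) ∈ A → l n = 1) ∧
      ∃ n : NK K H H₀, ((n : K) : L) ∈ H ∧ l n ≠ 1 := by
  haveI := s.NK_normal
  haveI := s.H_normal
  rw [mem_thetasS] at hθ
  obtain ⟨l, hl, hlk⟩ := exists_linear_constituent (NK K H H₀) θ.2 fun x hx y hy => hθ.1 _ (by
    rw [Subgroup.coe_mul, Subgroup.coe_mul, Subgroup.coe_mul, InvMemClass.coe_inv,
      InvMemClass.coe_inv, ← commutatorElement_def]
    exact hA (mem_sup_right (commutator_mem_commutator (mem_subgroupOf.1 hx) (mem_subgroupOf.1 hy))))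
  refine ⟨l, hl, fun n hn => hlk n (hθ.1 _ hn), ?_⟩
  by_contra hno
  push Not at hno
  obtain ⟨a, ha, hne⟩ := hθ.2
  apply hne
  have e := clifford_avg (NK K H H₀) θ.2 (isIrrCharacter_hom l) hl
  have hconst : ∀ m : NK K H H₀, ((m : K) : L) ∈ H →
      (∑ x : K, CharInduce.conjFun (NK K H H₀) (fun n => (l n : ℂ)) x) m = ∑ _x : K, (1 : ℂ) := by
    intro m hm
    rw [Finset.sum_apply]
    refine Finset.sum_congr rfl fun x _ => ?_
    show (l _ : ℂ) = 1
    rw [hno _ (by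
      show ((x : L) * (m : K) * (x : L)⁻¹) ∈ H
      exact Subgroup.Normal.conj_mem ‹H.Normal› _ hm x), Units.val_one]
  have e1 := congrFun e ⟨a, s.mem_NK_of_mem_H ha⟩
  have e2 := congrFun e 1
  simp only [Pi.smul_apply, smul_eq_mul] at e1 e2
  rw [hconst _ ha] at e1
  rw [hconst _ (one_mem H)] at e2
  exact mul_left_cancel₀ (card_ne_zero_complex _) (e1.trans e2.symm)

/-- The kernel of `l` on `H`. -/
theorem inertia_eq_or {l : NK K H H₀ →* ℂˣ}
    (hl0 : ∀ n : NK K H H₀, ((n : K) : L) ∈ H₀ → l n = 1)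
    (hlH : ∃ n : NK K H H₀, ((n : K) : L) ∈ H ∧ l n ≠ 1) (Y : Subgroup L)
    (hY : haveI := s.NK_normal
      Y ≤ normalizer (((inertia (NK K H H₀) (fun n => (l n : ℂ))).map K.subtype : Subgroup L) : Set L))
    (hirr : ∀ R : Subgroup L, H₀ ≤ R → R ≤ H → Y ≤ normalizer (R : Set L) → R = H₀ ∨ R = H) :
    haveI := s.NK_normal
    inertia (NK K H H₀) (fun n => (l n : ℂ)) = NK K H H₀ := by
  haveI := s.NK_normal
  haveI := s.H_normal
  haveI := s.H₀_normal
  set I := inertia (NK K H H₀) (fun n => (l n : ℂ)) with hI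
  set IL := I.map K.subtype with hIL
  have hle : NK K H H₀ ≤ I :=
    le_inertia _ (CharBasic.IsIrr.isClassFunction (isIrrCharacter_hom l))
  have hR1 : ⁅H, IL⁆ ⊔ H₀ ≤ H := sup_le (commutator_le_left H IL) s.le
  have hR2 : Y ≤ normalizer ((⁅H, IL⁆ ⊔ H₀ : Subgroup L) : Set L) := fun y hy => by
    refine Coprime.mem_normalizer_of_map_conj ?_
    rw [Subgroup.map_sup, Subgroup.map_commutator, Coprime.map_conj_eq (hY hy),
      Coprime.map_conj_eq (by rw [normalizer_eq_top]; exact mem_top y),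
      Coprime.map_conj_eq (by rw [normalizer_eq_top]; exact mem_top y)]
  rcases hirr _ le_sup_right hR1 hR2 with hR | hR
  · refine le_antisymm (fun (v : K) (hv : v ∈ I) => ?_) hle
    refine mem_subgroupOf.2 ⟨v.2, mem_sectionCent_iff.2 fun h hh => ?_⟩
    have hvI : (v : L) ∈ IL := Subgroup.mem_map_of_mem K.subtype hv
    have h1 : ⁅h, (v : L)⁆ ∈ H₀ := hR.le (mem_sup_left (commutator_mem_commutator hh hvI))
    have h2 := H₀.inv_mem h1
    rwa [commutatorElement_inv, commutatorElement_def] at h2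
  · exfalso
    obtain ⟨n, hn, hne⟩ := hlH
    have hker : ⁅H, IL⁆ ⊔ H₀ ≤ (l.ker.map (NK K H H₀).subtype).map K.subtype := by
      refine sup_le (commutator_le.2 fun h hh g hg => ?_) fun x hx => ?_
      · obtain ⟨v, hv, rfl⟩ := hg
        let a : NK K H H₀ := ⟨⟨h, s.H_le hh⟩, s.mem_NK_of_mem_H (a := ⟨h, s.H_le hh⟩) hh⟩
        let b : NK K H H₀ := ⟨v * (a : K)⁻¹ * v⁻¹,
          Subgroup.Normal.conj_mem s.NK_normal _ (inv_mem a.2) v⟩
        refine ⟨(a * b : NK K H H₀), ⟨a * b, ?_, rfl⟩, ?_⟩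
        · show l (a * b) = 1
          rw [map_mul, (mem_inertia_hom (NK K H H₀)).1 hv a⁻¹ b rfl, ← map_mul, mul_inv_cancel,
            map_one]
        · show h * ((v : L) * h⁻¹ * (v : L)⁻¹) = ⁅h, (v : L)⁆
          rw [commutatorElement_def]
          group
      · exact ⟨⟨x, s.H_le (s.le hx)⟩,
          ⟨(⟨_, s.mem_NK_of_mem_H (a := ⟨x, s.H_le (s.le hx)⟩) (s.le hx)⟩ : NK K H H₀),
            hl0 _ hx, rfl⟩, rfl⟩
    rw [hR] at hker
    obtain ⟨_, ⟨m, hm, rfl⟩, e⟩ := hker hn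
    exact hne ((show m = n from Subtype.ext (Subtype.ext e)) ▸ hm)

/-- `K` normalises each inertia group. -/
theorem K_le_normalizer_inertia (l : NK K H H₀ →* ℂˣ) :
    haveI := s.NK_normal
    K ≤ normalizer (((inertia (NK K H H₀) (fun n => (l n : ℂ))).map K.subtype : Subgroup L) : Set L) := by
  haveI := s.NK_normal
  set I := inertia (NK K H H₀) (fun n => (l n : ℂ))
  rw [le_normalizer_iff]
  rintro g hg _ ⟨v, hv, rfl⟩
  refine ⟨⟨g, hg⟩ * v * ⟨g, hg⟩⁻¹, ?_, rfl⟩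
  have h := I.mul_mem
    (le_inertia _ (CharBasic.IsIrr.isClassFunction (isIrrCharacter_hom l))
      (s.NK_commutator ⟨g, hg⟩ v)) hv
  rwa [inv_mul_cancel_right] at h

/-- All degrees divide `u = |U : C|`. -/
theorem degree_dvd {A : Subgroup L} (hA : A₀ K H H₀ ≤ A) {θ : Cfsg.IrrCharacter K}
    (hθ : θ ∈ thetasS K H A) {d : ℕ} (hd : (θ : K → ℂ) 1 = d) :
    d ∣ (sectionCent H H₀).relIndex U := by
  haveI := s.NK_normal
  obtain ⟨l, hl, -, -⟩ := s.exists_l hA hθ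
  obtain ⟨e, -, he, hdvd, -⟩ := linear_clifford (NK K H H₀) s.NK_commutator θ.2 hl
  rw [Nat.cast_injective (hd.symm.trans he), ← s.index_N]
  exact hdvd

/-- When the inertia groups are irreducible on `H / H₀`, the degree is `u`. -/
theorem degree_eq {A : Subgroup L} (hA : A₀ K H H₀ ≤ A) {θ : Cfsg.IrrCharacter K}
    (hθ : θ ∈ thetasS K H A) (Y : Subgroup L)
    (hY : ∀ l : NK K H H₀ →* ℂˣ, ∀ _hl : (
        Cfsg.classInner (fun n : NK K H H₀ => (θ : K → ℂ) n) (fun n => (l n : ℂ)) ≠ 0),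
      haveI := s.NK_normal
      Y ≤ normalizer (((inertia (NK K H H₀) (fun n => (l n : ℂ))).map K.subtype : Subgroup L) : Set L))
    (hirr : ∀ R : Subgroup L, H₀ ≤ R → R ≤ H → Y ≤ normalizer (R : Set L) → R = H₀ ∨ R = H) :
    (θ : K → ℂ) 1 = ((sectionCent H H₀).relIndex U : ℕ) := by
  haveI := s.NK_normal
  obtain ⟨l, hl, hlA, hlH⟩ := s.exists_l hA hθ
  obtain ⟨e, -, he, -, he1⟩ := linear_clifford (NK K H H₀) s.NK_commutator θ.2 hl
  have hI := s.inertia_eq_or (fun n hn => hlA n (hA (mem_sup_left hn))) hlH Y (hY l hl) hirr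
  rw [he, he1 hI, hI, mul_one, ← s.index_N]
  rfl

/-- The Galois case: every degree is `u`. -/
theorem degree_galois (hgal : ∀ R : Subgroup L, H₀ ≤ R → R ≤ H → U ≤ normalizer (R : Set L) →
      R = H₀ ∨ R = H)
    {A : Subgroup L} (hA : A₀ K H H₀ ≤ A) {θ : Cfsg.IrrCharacter K} (hθ : θ ∈ thetasS K H A) :
    (θ : K → ℂ) 1 = ((sectionCent H H₀).relIndex U : ℕ) :=
  s.degree_eq hA hθ U (fun l _ => s.U_le.trans (s.K_le_normalizer_inertia l)) hgal

/-- A character fixed by `W₁` has degree `u`. -/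
theorem degree_fixed {A : Subgroup L} (hA : A₀ K H H₀ ≤ A) {θ : Cfsg.IrrCharacter K}
    (hθ : θ ∈ thetasS K H A)
    (hfix : haveI := s.K_normal; ∀ w ∈ W₁, CharInduce.conjFun K (θ : K → ℂ) w = θ) :
    (θ : K → ℂ) 1 = ((sectionCent H H₀).relIndex U : ℕ) := by
  haveI := s.K_normal
  haveI := s.NK_normal
  haveI := s.N_normal
  haveI := s.H₀_normal
  refine s.degree_eq hA hθ ⊤ (fun l hl => ?_) fun R h1 h2 h3 =>
    s.maximal R (normalizer_eq_top_iff.1 (top_le_iff.1 h3)) h1 h2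
  rw [← s.hyp.sup_eq]
  refine sup_le (s.K_le_normalizer_inertia l) ?_
  rw [le_normalizer_iff]
  rintro w hw _ ⟨v, hv, rfl⟩
  -- `l ^ w` is again a constituent, hence a `K`-conjugate of `l`
  let cf : NK K H H₀ → NK K H H₀ := fun n =>
    ⟨⟨w * ((n : K) : L) * w⁻¹, Subgroup.Normal.conj_mem s.K_normal _ (n : K).2 w⟩,
      mem_subgroupOf.2 (Subgroup.Normal.conj_mem s.N_normal _ (mem_subgroupOf.1 n.2) w)⟩
  let c : NK K H H₀ →* NK K H H₀ := MonoidHom.mk' cf fun a b => Subtype.ext (Subtype.ext (by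
    show w * (((a : K) : L) * ((b : K) : L)) * w⁻¹
      = w * ((a : K) : L) * w⁻¹ * (w * ((b : K) : L) * w⁻¹)
    group))
  have hc : ∀ n, ((c n : K) : L) = w * ((n : K) : L) * w⁻¹ := fun n => rfl
  have hcbij : Function.Bijective c := by
    refine Finite.injective_iff_bijective.1 fun a b e => ?_
    have := congrArg (fun z : NK K H H₀ => ((z : K) : L)) e
    simp only [hc, mul_left_inj, mul_right_inj] at this
    exact Subtype.ext (Subtype.ext this)
  have hl' : Cfsg.classInner (fun n : NK K H H₀ => (θ : K → ℂ) n)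
      (fun n => ((l.comp c) n : ℂ)) ≠ 0 := by
    have e : ∀ n : NK K H H₀, (θ : K → ℂ) n = (θ : K → ℂ) (c n) := fun n => by
      conv_lhs => rw [← hfix w hw]
      exact congrArg (θ : K → ℂ) (Subtype.ext rfl)
    have := CharInduce.classInner_comp_mulEquiv (MulEquiv.ofBijective c hcbij)
      (fun n : NK K H H₀ => (θ : K → ℂ) n) (fun n => (l n : ℂ))
    simp only [MulEquiv.ofBijective_apply] at this
    simp only [← e] at this
    exact fun h0 => hl (this ▸ h0)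
  obtain ⟨k, hk⟩ := exists_conjFun_eq_of_constituent (NK K H H₀) θ.2 (isIrrCharacter_hom l)
    (isIrrCharacter_hom (l.comp c)) hl hl'
  set I := inertia (NK K H H₀) (fun n => (l n : ℂ)) with hI
  have hkv : k * v * k⁻¹ ∈ I := by
    obtain ⟨v', hv', e⟩ := (le_normalizer_iff.1 (s.K_le_normalizer_inertia l)) _ k.2 _
      ⟨v, hv, rfl⟩
    exact (show v' = k * v * k⁻¹ from Subtype.ext e) ▸ hv'
  have hkk : ∀ n : NK K H H₀,
      l (c n) = l ⟨k * n * k⁻¹, Subgroup.Normal.conj_mem s.NK_normal _ n.2 k⟩ := fun n =>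
    Units.ext ((congrFun hk n).trans (congrArg (fun z => (l z : ℂ)) (Subtype.ext rfl)))
  refine ⟨⟨w * (v : L) * w⁻¹, Subgroup.Normal.conj_mem s.K_normal _ v.2 w⟩, ?_, rfl⟩
  refine (mem_inertia_hom (NK K H H₀)).2 fun n m e => ?_
  obtain ⟨n', rfl⟩ := hcbij.2 n
  let n'' : NK K H H₀ := ⟨v * n' * v⁻¹, Subgroup.Normal.conj_mem s.NK_normal _ n'.2 v⟩
  have em : m = c n'' := by
    refine Subtype.ext (Subtype.ext ?_)
    rw [e]
    show w * (v : L) * w⁻¹ * (w * ((n' : K) : L) * w⁻¹) * (w * (v : L) * w⁻¹)⁻¹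
      = w * ((v : L) * ((n' : K) : L) * (v : L)⁻¹) * w⁻¹
    group
  rw [em, hkk, hkk]
  refine (mem_inertia_hom (NK K H H₀)).1 hkv _ _ ?_
  show k * (v * (n' : K) * v⁻¹) * k⁻¹ = k * v * k⁻¹ * (k * (n' : K) * k⁻¹) * (k * v * k⁻¹)⁻¹
  group

/-- A lower bound for the degree from the inertia group. -/
theorem dvd_degree_of_inertia_le {θ : Cfsg.IrrCharacter K} {l : NK K H H₀ →* ℂˣ}
   
    (hl : Cfsg.classInner (fun n : NK K H H₀ => (θ : K → ℂ) n) (fun n => (l n : ℂ)) ≠ 0)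
    {X : Subgroup L}
    (hX : haveI := s.NK_normal
      (inertia (NK K H H₀) (fun n => (l n : ℂ))).map K.subtype ≤ X)
    {d : ℕ} (hd : (θ : K → ℂ) 1 = d) : X.relIndex K ∣ d := by
  haveI := s.NK_normal
  obtain ⟨e, -, he, -, -⟩ := linear_clifford (NK K H H₀) s.NK_commutator θ.2 hl
  rw [Nat.cast_injective (hd.symm.trans he)]
  refine Dvd.dvd.mul_right ?_ _
  exact Subgroup.index_dvd_of_le fun v hv => mem_subgroupOf.2 (hX ⟨v, hv, rfl⟩)

end Setting

end Cfsg.Agent.OddOrder.PF9
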